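import Mathlib
import Cfsg.Agent.H34.TI.Defs
import Cfsg.Agent.Characters.Core
import Cfsg.Agent.Characters.Linear
import Cfsg.Agent.Characters.Clifford
import Cfsg.Agent.SmallSimple.InvolPairs
import Cfsg.Agent.S0165
import Cfsg.Agent.H403.TitsSixteen
import Cfsg.Agent.H29.TitsExt
import Cfsg.Agent.H326.Four.RowHe
import Cfsg.Agent.S2476
import Cfsg.Agent.H681.TI.Central
import Cfsg.Agent.H666.Clif.Gall
import Cfsg.Agent.H608.TI.Final
import Cfsg.Agent.H540.ClassNum
import Cfsg.Agent.H723.TI.Cyc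
import Cfsg.Agent.Lib.Cores
import Cfsg.Agent.H95.StemCover
import Cfsg.Agent.H681.TI.McLCov
import Cfsg.Agent.H649.Transport
import Cfsg.Agent.H648.Dict
import Cfsg.Agent.Blocks.CliffordCentral
import Cfsg.Agent.Blocks.Basic
import Cfsg.Agent.S0215
import Cfsg.Agent.LFourB.ProdAut
import Cfsg.Agent.PermutationGroups.AutQuaternion
import Cfsg.Agent.CharDeep.QuatSylowBasic
import Cfsg.Agent.Blocks.CentralSylow
import Cfsg.Agent.S4530
import Cfsg.Agent.S0908
import Cfsg.Agent.Blocks.PrimeNormal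
import Cfsg.Agent.Blocks.PRegular
import Cfsg.Agent.Blocks.Over
import Cfsg.Agent.Blocks.Fong
import Cfsg.Agent.CharactersDeep.ExtUnique
import Cfsg.Agent.H672.Over
import Cfsg.Agent.S0886
import Cfsg.Agent.H743.LSIndex
import Cfsg.Agent.H669.OverCount
import Cfsg.Agent.CharDeep.CliffordCorr
import Cfsg.Agent.CharactersDeep.NormalInd
import Cfsg.Agent.H593.GlaubermanP2
import Cfsg.Agent.Blocks.CoverConj
import Cfsg.Agent.S0016
import Cfsg.Agent.Lib.FinFast
import Cfsg.Agent.H41.TI.Gen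
import Cfsg.Agent.FastGrp
import Cfsg.Agent.Prune
set_option linter.all false

section
prune_inst 0x7fd0fcf88ba8a9dfdfff7e3fa6d0cff831c48fffe6dff943ffe0e19f8b9f032309c56b858de018fe8e76e23410b87803f97ece7fe86bdc7ffffd5ff41ffbee0fe5f73508519488340fbc2fff03e0778e6f3fffffffffffffffffffffffffffffffbffbfeffff

-- part: H438/TI/Loc
section
set_option linter.all false

/-!
# Local data of `²F₄(2)` at the prime five (helper438, for S4819 / S4820)

`Loc N P x j r` : `N` is the subgroup of index two (the Tits group), `x ∈ N` of order 5, `j ∉ N` of order 4 commuting with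
`x`, `r ∈ N` commuting with `j` and `r x r⁻¹ = x²`, `P ≤ N` the Sylow 5-subgroup (order 25).
-/

set_option autoImplicit false

namespace Cfsg.Agent.H438.TI

open Subgroup

/-- the local data -/
structure Loc {G : Type*} [Group G] (N P : Subgroup G) (x j r : G) : Prop where
  index : N.index = 2
  xN : x ∈ N
  ox : orderOf x = 5
  jN : j ∉ N
  oj : orderOf j = 4
  comm : x * j = j * x
  rN : r ∈ N
  rx : r * x * r⁻¹ = x ^ 2
  rj : r * j = j * r
  cent : ∀ g : G, g * x = x * g → g * (j * j) = (j * j) * g → ∃ k l : ℕ, g = x ^ k * j ^ l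
  c50 : Nat.card ↥(centralizer ({x} : Set G) ⊓ N) = 50
  P_le : P ≤ N
  P_card : Nat.card P = 25
  P_fus : ∀ y ∈ P, y ≠ 1 → ∃ g ∈ N, g * x * g⁻¹ = y

end Cfsg.Agent.H438.TI
end

-- part: H345/TiT2/Sing
section
prune_inst 0x4010000
set_option linter.all false
open scoped Cfsg.Agent.FastGrp

/-!
# The classes of elements of order divisible by five of `²F₄(2)` (helper345, for S4819 / S4820)

`card_sing` : from the local data `Loc`, the number of conjugacy classes of elements of order divisible by 5 is 4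
(representatives `x * j ^ k`, `k = 0, …, 3`, of orders 5, 20, 10, 20).
-/

set_option autoImplicit false

namespace Cfsg.Agent.H345.TiT2

open Subgroup Cfsg.Agent.H438.TI

universe u

variable {G : Type u} [Group G]

theorem orderOf_isConj {a b : G} (h : IsConj a b) : orderOf a = orderOf b := by
  obtain ⟨c, hc⟩ := isConj_iff.1 h
  rw [← hc]
  exact (MulEquiv.orderOf_eq (MulAut.conj c) a).symm

/-- the order of the representative -/
theorem orderOf_out (g : G) : orderOf (ConjClasses.mk g).out = orderOf g := by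
  apply orderOf_isConj
  rw [← ConjClasses.mk_eq_mk_iff_isConj]
  exact Quotient.out_eq _

variable {N P : Subgroup G} {x j r : G}

theorem orderOf_xj (L : Loc N P x j r) (k : ℕ) : orderOf (x * j ^ k) = 5 * orderOf (j ^ k) := by
  have h1 : Commute x (j ^ k) := (show Commute x j from L.comm).pow_right k
  rw [h1.orderOf_mul_eq_mul_orderOf_of_coprime, L.ox]
  rw [L.ox]
  have h2 : orderOf (j ^ k) ∣ 4 := by
    rw [← L.oj]
    exact orderOf_pow_dvd k
  exact Nat.Coprime.coprime_dvd_right h2 (by norm_num)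

theorem orderOf_jk (L : Loc N P x j r) : orderOf (j ^ 0) = 1 ∧ orderOf (j ^ 1) = 4 ∧ orderOf (j ^ 2) = 2 ∧
    orderOf (j ^ 3) = 4 := by
  refine ⟨by simp, by rw [pow_one, L.oj], ?_, ?_⟩
  · rw [orderOf_pow_of_dvd (by norm_num) (by rw [L.oj]; norm_num), L.oj]
  · rw [Nat.Coprime.orderOf_pow, L.oj]
    rw [L.oj]
    norm_num

/-- `x j` and `x j³` are not conjugate. -/
theorem not_isConj (L : Loc N P x j r) : ¬ IsConj (x * j ^ 1) (x * j ^ 3) := by
  intro h
  obtain ⟨g, hg⟩ := isConj_iff.1 h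
  have hx5 : x ^ 5 = 1 := by rw [← L.ox]; exact pow_orderOf_eq_one x
  have hj4 : j ^ 4 = 1 := by rw [← L.oj]; exact pow_orderOf_eq_one j
  have hc : Commute x j := L.comm
  have e1 : (x * j ^ 1) ^ 16 = x := by
    rw [(hc.pow_right 1).mul_pow, ← pow_mul]
    have h1 : x ^ 16 = (x ^ 5) ^ 3 * x := by group
    have h2 : j ^ (1 * 16) = (j ^ 4) ^ 4 := by group
    rw [h1, h2, hx5, hj4, one_pow, one_pow, one_mul, mul_one]
  have e2 : (x * j ^ 3) ^ 16 = x := by
    rw [(hc.pow_right 3).mul_pow, ← pow_mul]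
    have h1 : x ^ 16 = (x ^ 5) ^ 3 * x := by group
    have h2 : j ^ (3 * 16) = (j ^ 4) ^ 12 := by group
    rw [h1, h2, hx5, hj4, one_pow, one_pow, one_mul, mul_one]
  have e3 : (x * j ^ 1) ^ 5 = j := by
    rw [(hc.pow_right 1).mul_pow, ← pow_mul, hx5, one_mul]
    have h2 : j ^ (1 * 5) = j ^ 4 * j := by group
    rw [h2, hj4, one_mul]
  have e4 : (x * j ^ 3) ^ 5 = j⁻¹ := by
    rw [(hc.pow_right 3).mul_pow, ← pow_mul, hx5, one_mul]
    have h2 : j ^ (3 * 5) = (j ^ 4) ^ 4 * j⁻¹ := by group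
    rw [h2, hj4, one_pow, one_mul]
  have h16 := congrArg (fun t => t ^ 16) hg
  have h5 := congrArg (fun t => t ^ 5) hg
  simp only [conj_pow] at h16 h5
  rw [e1, e2] at h16
  rw [e3, e4] at h5
  have h6 : g * x = x * g := by
    calc g * x = g * x * g⁻¹ * g := by group
      _ = x * g := by rw [h16]
  have h7 : g * (j * j) * g⁻¹ = j * j := by
    have h8 : g * (j * j) * g⁻¹ = (g * j * g⁻¹) * (g * j * g⁻¹) := by group
    rw [h8, h5]
    have h9 : j⁻¹ * j⁻¹ = j * j * (j ^ 4)⁻¹ := by group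
    rw [h9, hj4, inv_one, mul_one]
  have h8 : g * (j * j) = (j * j) * g := by
    calc g * (j * j) = g * (j * j) * g⁻¹ * g := by group
      _ = (j * j) * g := by rw [h7]
  obtain ⟨k, l, rfl⟩ := L.cent g h6 h8
  have h9 : Commute (x ^ k * j ^ l) j := (hc.pow_left k).mul_left ((Commute.refl j).pow_left l)
  have h10 : (x ^ k * j ^ l) * j * (x ^ k * j ^ l)⁻¹ = j := by
    rw [h9.eq, mul_inv_cancel_right]
  rw [h10] at h5
  have h11 : j ^ 2 = 1 := by
    rw [sq]
    nth_rewrite 1 [h5]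
    exact inv_mul_cancel j
  have h12 := orderOf_dvd_of_pow_eq_one h11
  rw [L.oj] at h12
  norm_num at h12

variable [Finite G]

/-- the order of the centralizer of `x` -/
theorem card_cent (L : Loc N P x j r) : Nat.card ↥(centralizer ({x} : Set G)) = 100 := by
  set C := centralizer ({x} : Set G) with hC
  have hjC : j ∈ C := by
    rw [hC, mem_centralizer_singleton_iff]
    exact L.comm.symm
  have h1 : N.relIndex C = 2 := by
    rw [relIndex_eq_two_iff]
    refine ⟨j, hjC, fun b _ => ?_⟩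
    have h2 := L.index
    have h3 := L.jN
    rcases em (b ∈ N) with hb | hb
    · right
      refine ⟨hb, fun h => h3 ((mul_mem_cancel_left hb).1 h)⟩
    · left
      refine ⟨?_, hb⟩
      rw [Subgroup.mul_mem_iff_of_index_two h2]
      exact iff_of_false hb h3
  have h2 := (N.subgroupOf C).card_mul_index
  have h3 : Nat.card ↥(N.subgroupOf C) = Nat.card ↥(C ⊓ N : Subgroup G) := by
    rw [inf_comm, ← subgroupOf_map_subtype]
    exact (Nat.card_congr (Subgroup.equivMapOfInjective _ _ (subtype_injective C)).toEquiv)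
  rw [h3, L.c50] at h2
  have h4 : (N.subgroupOf C).index = 2 := h1
  rw [h4] at h2
  exact h2.symm

/-- an element of 5'-order commuting with `x` is conjugate in the centralizer of `x` to a power of `j` -/
theorem conj_pow_j (L : Loc N P x j r) {b : G} (hb : b * x = x * b) (hc : Nat.Coprime (orderOf b) 5) :
    ∃ g : G, g * x = x * g ∧ ∃ k < 4, g * b * g⁻¹ = j ^ k := by
  have : Fact (Nat.Prime 2) := ⟨Nat.prime_two⟩
  set C := centralizer ({x} : Set G) with hC
  have hjC : j ∈ C := by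
    rw [hC, mem_centralizer_singleton_iff]
    exact L.comm.symm
  have hbC : b ∈ C := by
    rw [hC, mem_centralizer_singleton_iff]
    exact hb
  have hcard : Nat.card C = 100 := card_cent L
  have hf : (Nat.card C).factorization 2 = 2 := by
    rw [hcard, show (100 : ℕ) = 2 ^ 2 * 25 by norm_num, Nat.factorization_mul (by norm_num) (by norm_num),
      Nat.Prime.factorization_pow Nat.prime_two]
    have h1 : (25 : ℕ).factorization 2 = 0 := Nat.factorization_eq_zero_of_not_dvd (by norm_num)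
    simp [h1]
  let J : Subgroup C := zpowers (⟨j, hjC⟩ : C)
  have hJ : Nat.card J = 2 ^ (Nat.card C).factorization 2 := by
    rw [hf, Nat.card_zpowers, Subgroup.orderOf_mk, L.oj]
    norm_num
  let Q : Sylow 2 C := Sylow.ofCard J hJ
  have hb4 : orderOf (⟨b, hbC⟩ : C) ∣ 4 := by
    have h1 : orderOf (⟨b, hbC⟩ : C) ∣ 100 := by rw [← hcard]; exact orderOf_dvd_natCard _
    rw [Subgroup.orderOf_mk] at h1 ⊢
    have h2 : Nat.Coprime (orderOf b) 25 := by
      rw [show (25 : ℕ) = 5 ^ 2 by norm_num]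
      exact Nat.Coprime.pow_right 2 hc
    exact h2.dvd_of_dvd_mul_right (by rw [show 4 * 25 = 100 by norm_num]; exact h1)
  have hpb : IsPGroup 2 (zpowers (⟨b, hbC⟩ : C)) := by
    obtain ⟨m, hm, hm'⟩ := (Nat.dvd_prime_pow Nat.prime_two).1 (show orderOf (⟨b, hbC⟩ : C) ∣ 2 ^ 2 by exact hb4)
    exact IsPGroup.of_card (n := m) (by rw [Nat.card_zpowers, hm'])
  obtain ⟨R, hR⟩ := hpb.exists_le_sylow
  obtain ⟨g, hg⟩ := MulAction.exists_smul_eq C R Q
  have h1 : (⟨b, hbC⟩ : C) ∈ (R : Subgroup C) := hR (mem_zpowers _)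
  have h2 : g * ⟨b, hbC⟩ * g⁻¹ ∈ (Q : Subgroup C) := by
    rw [← hg, Sylow.coe_subgroup_smul]
    exact ⟨_, h1, rfl⟩
  have h3 : g * ⟨b, hbC⟩ * g⁻¹ ∈ J := h2
  obtain ⟨k, hk⟩ := mem_zpowers_iff.1 h3
  refine ⟨g, mem_centralizer_singleton_iff.1 g.2, (k % 4).toNat, ?_, ?_⟩
  · omega
  · have h4 := congrArg Subtype.val hk
    have h5 : j ^ k = (g : G) * b * (g : G)⁻¹ := h4
    rw [← h5]
    have h6 : j ^ (k % (4 : ℤ)) = j ^ k := by
      have h7 := zpow_mod_orderOf j k
      rw [L.oj] at h7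
      exact h7
    rw [← h6, ← zpow_natCast, Int.toNat_of_nonneg (by omega)]

/-- every element of order divisible by 5 is conjugate to `x j ^ k` -/
theorem isConj_xj (L : Loc N P x j r) (hN : Nat.card N = 17971200) {g : G} (hg : 5 ∣ orderOf g) :
    ∃ k < 4, IsConj (x * j ^ k) g := by
  have : Fact (Nat.Prime 5) := ⟨by norm_num⟩
  have hcG : Nat.card G = 35942400 := by
    rw [← N.card_mul_index, hN, L.index]
  have hfac : (Nat.card G).factorization 5 = 2 := by
    rw [hcG, show (35942400 : ℕ) = 5 ^ 2 * 1437696 by norm_num, Nat.factorization_mul (by norm_num) (by norm_num),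
      Nat.Prime.factorization_pow (by norm_num)]
    have h1 : (1437696 : ℕ).factorization 5 = 0 := Nat.factorization_eq_zero_of_not_dvd (by norm_num)
    simp [h1]
  let Q : Sylow 5 G := Sylow.ofCard P (by rw [hfac, L.P_card]; norm_num)
  -- every nontrivial 5-element is conjugate to `x`
  have key : ∀ a : G, a ≠ 1 → (∃ n, orderOf a = 5 ^ n) → IsConj x a := by
    rintro a ha ⟨n, hn⟩
    have hp : IsPGroup 5 (zpowers a) := IsPGroup.of_card (n := n) (by rw [Nat.card_zpowers, hn])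
    obtain ⟨R, hR⟩ := hp.exists_le_sylow
    obtain ⟨c, hc⟩ := MulAction.exists_smul_eq G R Q
    have h2 : c * a * c⁻¹ ∈ (Q : Subgroup G) := by
      rw [← hc, Sylow.coe_subgroup_smul]
      exact ⟨_, hR (mem_zpowers _), rfl⟩
    have h3 : c * a * c⁻¹ ∈ P := h2
    obtain ⟨d, -, hd⟩ := L.P_fus _ h3 (by
      intro h
      apply ha
      rwa [mul_inv_eq_one, mul_eq_left] at h)
    rw [isConj_iff]
    refine ⟨c⁻¹ * d, ?_⟩
    calc c⁻¹ * d * x * (c⁻¹ * d)⁻¹ = c⁻¹ * (d * x * d⁻¹) * c := by group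
      _ = a := by rw [hd]; group
  -- the decomposition
  obtain ⟨e, m, hm, hem⟩ := Nat.exists_eq_pow_mul_and_not_dvd (n := orderOf g) (orderOf_pos g).ne' 5 (by norm_num)
  have he : e ≠ 0 := by
    rintro rfl
    rw [pow_zero, one_mul] at hem
    rw [hem] at hg
    exact hm hg
  have hm0 : m ≠ 0 := by rintro rfl; exact hm (dvd_zero _)
  have hgm : orderOf (g ^ m) = 5 ^ e := by
    rw [orderOf_pow_of_dvd hm0 (by rw [hem]; exact dvd_mul_left _ _), hem,
      Nat.mul_div_cancel _ (Nat.pos_of_ne_zero hm0)]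
  have hgm1 : g ^ m ≠ 1 := by
    intro h
    rw [h, orderOf_one] at hgm
    exact absurd hgm.symm (Nat.one_lt_pow he (by norm_num)).ne'
  have he1 : e = 1 := by
    have h1 := orderOf_isConj (key _ hgm1 ⟨e, hgm⟩)
    rw [L.ox, hgm] at h1
    have h2 : 5 ^ 1 = 5 ^ e := by rw [pow_one]; exact h1
    exact (Nat.pow_right_injective (le_refl 2 |>.trans (by norm_num)) h2).symm
  subst he1
  rw [pow_one] at hem hgm
  have hcop : Nat.Coprime m 5 := ((Nat.Prime.coprime_iff_not_dvd (by norm_num)).2 hm).symm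
  -- u m ≡ 1 mod 5, u m ≡ 0 mod m
  obtain ⟨u, hu1, hu2⟩ := Nat.chineseRemainder hcop 0 1
  have hum : m ∣ u := (Nat.modEq_zero_iff_dvd).1 hu1
  set a := g ^ u with ha
  have hda : orderOf a ∣ 5 := by
    obtain ⟨v, rfl⟩ := hum
    rw [ha, pow_mul]
    exact (orderOf_pow_dvd v).trans (by rw [hgm])
  have ha1 : a ≠ 1 := by
    intro h
    have h1 : orderOf g ∣ u := orderOf_dvd_of_pow_eq_one h
    rw [hem] at h1
    have h2 : 5 ∣ u := (dvd_mul_right 5 m).trans h1
    have h3 : u ≡ 0 [MOD 5] := (Nat.modEq_zero_iff_dvd).2 h2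
    have h4 : (1 : ℕ) ≡ 0 [MOD 5] := hu2.symm.trans h3
    exact absurd h4 (by decide)
  have hoa : orderOf a = 5 := by
    rcases (Nat.dvd_prime (by norm_num)).1 hda with h | h
    · exact absurd (orderOf_eq_one_iff.1 h) ha1
    · exact h
  obtain ⟨c, hc⟩ := isConj_iff.1 (key a ha1 ⟨1, by rw [hoa, pow_one]⟩)
  -- c x c⁻¹ = a ; put b := c⁻¹ (a⁻¹ g) c
  set b := c⁻¹ * (a⁻¹ * g) * c with hb
  have hxb : x = c⁻¹ * a * c := by rw [← hc]; group
  have hga : Commute g a := by rw [ha]; exact (Commute.refl g).pow_right u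
  have hcomm : b * x = x * b := by
    have h1 : (a⁻¹ * g) * a = a * (a⁻¹ * g) := by
      rw [mul_assoc, hga.eq]; group
    rw [hb, hxb]
    calc c⁻¹ * (a⁻¹ * g) * c * (c⁻¹ * a * c) = c⁻¹ * ((a⁻¹ * g) * a) * c := by group
      _ = c⁻¹ * a * c * (c⁻¹ * (a⁻¹ * g) * c) := by rw [h1]; group
  have hbo : Nat.Coprime (orderOf b) 5 := by
    have h1 : b ^ m = 1 := by
      rw [hb]
      have h2 : (c⁻¹ * (a⁻¹ * g) * c) ^ m = c⁻¹ * (a⁻¹ * g) ^ m * c := by
        have := conj_pow (a := c⁻¹) (b := a⁻¹ * g) (i := m)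
        rw [inv_inv] at this
        exact this
      rw [h2]
      have h3 : (a⁻¹ * g) ^ m = 1 := by
        have h4 : Commute a⁻¹ g := hga.symm.inv_left
        rw [h4.mul_pow, ha]
        -- (g^u)^m⁻¹ * g^m = 1 as u m ≡ m mod 5 m
        have h5 : (g ^ u) ^ m = g ^ m := by
          rw [← pow_mul, pow_eq_pow_iff_modEq, hem, mul_comm 5 m, mul_comm u m]
          have := hu2.mul_left' m
          rwa [mul_one] at this
        rw [inv_pow, h5, inv_mul_cancel]
      rw [h3]
      group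
    exact Nat.Coprime.coprime_dvd_left (orderOf_dvd_of_pow_eq_one h1) hcop
  obtain ⟨d, hd, k, hk, hdk⟩ := conj_pow_j L hcomm hbo
  refine ⟨k, hk, isConj_iff.2 ⟨c * d⁻¹, ?_⟩⟩
  have h1 : d⁻¹ * x * d = x := by
    calc d⁻¹ * x * d = d⁻¹ * (x * d) := by group
      _ = x := by rw [← hd]; group
  have h2 : d⁻¹ * j ^ k * d = b := by
    rw [← hdk]; group
  calc c * d⁻¹ * (x * j ^ k) * (c * d⁻¹)⁻¹ = c * ((d⁻¹ * x * d) * (d⁻¹ * j ^ k * d)) * c⁻¹ := by group
    _ = g := by
      rw [h1, h2, hb, hxb]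
      group

/-- **The number of classes of elements of order divisible by five is four.** -/
theorem card_sing (L : Loc N P x j r) (hN : Nat.card N = 17971200) : Nat.card (Cfsg.Agent.H34.TI.Sing 5 G) = 4 := by
  obtain ⟨o0, o1, o2, o3⟩ := orderOf_jk L
  let f : Fin 4 → Cfsg.Agent.H34.TI.Sing 5 G := fun k =>
    ⟨ConjClasses.mk (x * j ^ (k : ℕ)), by rw [orderOf_out, orderOf_xj L]; exact dvd_mul_right _ _⟩
  have hf : Function.Bijective f := by
    constructor
    · intro k l hkl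
      have h1 : ConjClasses.mk (x * j ^ (k : ℕ)) = ConjClasses.mk (x * j ^ (l : ℕ)) := congrArg Subtype.val hkl
      rw [ConjClasses.mk_eq_mk_iff_isConj] at h1
      have h2 := orderOf_isConj h1
      rw [orderOf_xj L, orderOf_xj L] at h2
      have hnc := not_isConj L
      have hnc' : ¬ IsConj (x * j ^ 3) (x * j ^ 1) := fun h => hnc h.symm
      rcases k with ⟨k, hk⟩
      rcases l with ⟨l, hl⟩
      simp only at h1 h2
      apply Fin.ext
      show k = l
      by_contra hne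
      interval_cases k <;> interval_cases l <;>
        first
        | exact hne rfl
        | exact hnc h1
        | exact hnc' h1
        | (simp only [o0, o1, o2, o3] at h2; omega)
    · rintro ⟨c, hc⟩
      obtain ⟨k, hk, hk'⟩ := isConj_xj L hN hc
      refine ⟨⟨k, hk⟩, Subtype.ext ?_⟩
      show ConjClasses.mk (x * j ^ k) = c
      rw [ConjClasses.mk_eq_mk_iff_isConj.2 hk']
      exact Quotient.out_eq c
  rw [← Nat.card_eq_of_bijective f hf, Nat.card_eq_fintype_card, Fintype.card_fin]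

end Cfsg.Agent.H345.TiT2
end

-- part: H438/TI/Int
section
prune_inst 0x2303065447462020000000580b30020203400010000200000b0e2044401490302804081000620110810088c002804002002180060400000000a0004000004012088881004b048000404000f011006010000000000000000000000000000000004004010000
set_option linter.all false
open scoped Cfsg.Agent.FastGrp

/-!
# Integrality of character values at `x y`, `x` of order 5 rational (helper438)

* `int_of` : `∑_{t < 4} φ(x y^t) μ^(-t) ∈ 4 ℤ` for a character `φ`, `y^4 = 1`, `μ^4 = 1`, if some `r` centralises `y` and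
  `r x r⁻¹ = x²`;
* `quad` : the four integers of a character;
* `classify` : the sixteen characters of the Tits group outside the blocks of defect zero.
-/

set_option autoImplicit false

namespace Cfsg.Agent.H438.TI

open Cfsg Subgroup Cfsg.Agent.Characters.Core
open scoped ComplexConjugate

universe u

variable {G : Type u} [Group G]

/-- the homomorphism `ZMod n → G` of an element `g` with `g^n = 1` -/
def pw (n : ℕ) [NeZero n] (g : G) (hg : g ^ n = 1) : Multiplicative (ZMod n) →* G where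
  toFun s := g ^ (s.toAdd.val)
  map_one' := by simp
  map_mul' a b := by
    rw [toAdd_mul, ZMod.val_add, ← pow_add]
    exact (pow_mod_natCard' g n hg _).symm
where
  pow_mod_natCard' (g : G) (n : ℕ) (hg : g ^ n = 1) (k : ℕ) : g ^ k = g ^ (k % n) := by
    conv_lhs => rw [← Nat.div_add_mod k n, pow_add, pow_mul, hg, one_pow, one_mul]

theorem sum_zmod (n : ℕ) [NeZero n] (F : ℕ → ℂ) :
    ∑ s : Multiplicative (ZMod n), F (s.toAdd.val) = ∑ k ∈ Finset.range n, F k := by
  rw [← Multiplicative.ofAdd.sum_comp (fun s : Multiplicative (ZMod n) => F (s.toAdd.val))]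
  simp only [toAdd_ofAdd]
  cases n with
  | zero => exact absurd rfl (NeZero.ne 0)
  | succ m => exact Fin.sum_univ_eq_sum_range F (m + 1)

theorem nat_sum {φ : G → ℂ} (hφ : IsCharacter G φ) {x y : G} (hx : x ^ 5 = 1) (hy : y ^ 4 = 1) (hxy : x * y = y * x)
    {ω μ : ℂ} (hω : ω ^ 5 = 1) (hμ : μ ^ 4 = 1) :
    ∃ n : ℕ, ∑ k ∈ Finset.range 5, ∑ t ∈ Finset.range 4, φ (x ^ k * y ^ t) * conj (ω ^ k * μ ^ t) = 20 * n := by
  classical
  have hω0 : ω ≠ 0 := by
    rintro rfl
    norm_num at hω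
  have hμ0 : μ ≠ 0 := by
    rintro rfl
    norm_num at hμ
  let ωu : ℂˣ := Units.mk0 ω hω0
  let μu : ℂˣ := Units.mk0 μ hμ0
  have hωu : ωu ^ 5 = 1 := Units.ext (by simpa [ωu] using hω)
  have hμu : μu ^ 4 = 1 := Units.ext (by simpa [μu] using hμ)
  let f : Multiplicative (ZMod 5) × Multiplicative (ZMod 4) →* G :=
    MonoidHom.noncommCoprod (pw 5 x hx) (pw 4 y hy) (fun a b => (show Commute x y from hxy).pow_pow _ _)
  let l : Multiplicative (ZMod 5) × Multiplicative (ZMod 4) →* ℂˣ :=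
    MonoidHom.coprod (pw 5 ωu hωu) (pw 4 μu hμu)
  have hf : ∀ a b, f (a, b) = x ^ (a.toAdd.val) * y ^ (b.toAdd.val) := fun a b => rfl
  have hl : ∀ a b, ((l (a, b) : ℂˣ) : ℂ) = ω ^ (a.toAdd.val) * μ ^ (b.toAdd.val) := fun a b => by
    have h1 : l (a, b) = ωu ^ (a.toAdd.val) * μu ^ (b.toAdd.val) := rfl
    rw [h1]
    simp [ωu, μu]
  obtain ⟨n, hn⟩ := classInner_isNat (isCharacter_comp f hφ) (Cfsg.Agent.Characters.Linear.isCharacter_hom l)
  refine ⟨n, ?_⟩
  rw [classInner_def, Fintype.sum_prod_type] at hn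
  have hcard : (Nat.card (Multiplicative (ZMod 5) × Multiplicative (ZMod 4)) : ℂ) = 20 := by
    rw [Nat.card_prod]
    simp [Nat.card_eq_fintype_card, ZMod.card]
  rw [hcard] at hn
  have h3 : ∑ a : Multiplicative (ZMod 5), ∑ b : Multiplicative (ZMod 4),
      (φ ∘ f) (a, b) * conj ((l (a, b) : ℂˣ) : ℂ) =
      ∑ k ∈ Finset.range 5, ∑ t ∈ Finset.range 4, φ (x ^ k * y ^ t) * conj (ω ^ k * μ ^ t) := by
    rw [← sum_zmod 5]
    refine Finset.sum_congr rfl fun a _ => ?_
    rw [← sum_zmod 4]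
    refine Finset.sum_congr rfl fun b _ => ?_
    rw [Function.comp_apply, hf, hl]
  rw [h3] at hn
  rw [← hn]
  ring

theorem int_of {φ : G → ℂ} (hφ : IsCharacter G φ) {x y r : G} (hx : x ^ 5 = 1) (hy : y ^ 4 = 1) (hxy : x * y = y * x)
    (hr : r * x * r⁻¹ = x ^ 2) (hry : r * y = y * r) {μ : ℂ} (hμ : μ ^ 4 = 1) :
    ∃ n : ℤ, ∑ t ∈ Finset.range 4, φ (x * y ^ t) * conj (μ ^ t) = 4 * n := by
  classical
  set ω : ℂ := Complex.exp (2 * Real.pi * Complex.I / (5 : ℕ)) with hωdef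
  have hprim : IsPrimitiveRoot ω 5 := Complex.isPrimitiveRoot_exp 5 (by norm_num)
  obtain ⟨n1, h1⟩ := nat_sum hφ hx hy hxy (one_pow 5) hμ
  obtain ⟨n2, h2⟩ := nat_sum hφ hx hy hxy hprim.pow_eq_one hμ
  have hcl := isCharacter_isClassFunction hφ
  have hS : ∀ k : ℕ, ∑ t ∈ Finset.range 4, φ (x ^ (2 * k) * y ^ t) * conj (μ ^ t) =
      ∑ t ∈ Finset.range 4, φ (x ^ k * y ^ t) * conj (μ ^ t) := by
    intro k
    refine Finset.sum_congr rfl fun t _ => ?_
    congr 1
    rw [← hcl (x ^ k * y ^ t) r]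
    congr 1
    have h3 : r * (x ^ k * y ^ t) * r⁻¹ = (r * x * r⁻¹) ^ k * (r * y * r⁻¹) ^ t := by
      rw [conj_pow, conj_pow]
      group
    rw [h3, hr, hry, mul_inv_cancel_right, ← pow_mul]
  set S : ℕ → ℂ := fun k => ∑ t ∈ Finset.range 4, φ (x ^ k * y ^ t) * conj (μ ^ t) with hSdef
  have e2 : S 2 = S 1 := hS 1
  have e4 : S 4 = S 2 := hS 2
  have e3 : S 3 = S 4 := by
    have h3 : S 8 = S 4 := hS 4
    rw [← h3]
    have h4 : x ^ 8 = x ^ 3 := by
      rw [show 8 = 5 + 3 from rfl, pow_add, hx, one_mul]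
    show ∑ t ∈ Finset.range 4, φ (x ^ 3 * y ^ t) * conj (μ ^ t) = ∑ t ∈ Finset.range 4, φ (x ^ 8 * y ^ t) * conj (μ ^ t)
    rw [h4]
  have hgen : ∀ w : ℂ, ∑ k ∈ Finset.range 5, ∑ t ∈ Finset.range 4, φ (x ^ k * y ^ t) * conj (w ^ k * μ ^ t) =
      ∑ k ∈ Finset.range 5, S k * conj (w ^ k) := by
    intro w
    refine Finset.sum_congr rfl fun k _ => ?_
    rw [hSdef, Finset.sum_mul]
    refine Finset.sum_congr rfl fun t _ => ?_
    rw [map_mul]
    ring
  rw [hgen] at h1 h2
  have hgeom : ∑ k ∈ Finset.range 5, conj (ω ^ k) = 0 := by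
    rw [← map_sum, hprim.geom_sum_eq_zero (by norm_num), map_zero]
  simp only [Finset.sum_range_succ, Finset.sum_range_zero, zero_add, e2, e3, e4] at h1 h2 hgeom
  simp only [one_pow, map_one, mul_one, pow_zero] at h1 h2 hgeom
  have hfin : S 1 = 4 * ((n1 : ℤ) - (n2 : ℤ) : ℤ) := by
    push_cast
    linear_combination (1 / 5 : ℂ) * h1 - (1 / 5 : ℂ) * h2 + (1 / 5 : ℂ) * S 1 * hgeom
  refine ⟨(n1 : ℤ) - n2, ?_⟩
  rw [← hfin]
  show _ = ∑ t ∈ Finset.range 4, φ (x ^ 1 * y ^ t) * conj (μ ^ t)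
  rw [pow_one]

theorem quad {φ : G → ℂ} (hφ : IsCharacter G φ) {x y r : G} (hx : x ^ 5 = 1) (hy : y ^ 4 = 1) (hxy : x * y = y * x)
    (hr : r * x * r⁻¹ = x ^ 2) (hry : r * y = y * r) :
    ∃ a b c d : ℤ, φ x = a + b + c + d ∧ φ (x * y) = (a - c : ℤ) + (b - d : ℤ) * Complex.I ∧
      φ (x * y ^ 2) = a - b + c - d ∧ φ (x * y ^ 3) = (a - c : ℤ) - (b - d : ℤ) * Complex.I := by
  have hI4 : Complex.I ^ 4 = 1 := Complex.I_pow_four
  obtain ⟨a, ha⟩ := int_of hφ hx hy hxy hr hry (one_pow 4)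
  obtain ⟨b, hb⟩ := int_of hφ hx hy hxy hr hry hI4
  obtain ⟨c, hc⟩ := int_of hφ hx hy hxy hr hry (show (-1 : ℂ) ^ 4 = 1 by norm_num)
  obtain ⟨d, hd⟩ := int_of hφ hx hy hxy hr hry (show (-Complex.I) ^ 4 = 1 by rw [neg_pow, hI4]; norm_num)
  simp only [Finset.sum_range_succ, Finset.sum_range_zero, zero_add, pow_zero, pow_one, map_one, mul_one, map_pow,
    map_neg, Complex.conj_I, neg_neg] at ha hb hc hd
  have hI2 : Complex.I ^ 2 = -1 := Complex.I_sq
  have hI3 : Complex.I ^ 3 = -Complex.I := by rw [pow_succ, hI2]; ring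
  have hn2 : (-Complex.I) ^ 2 = -1 := by rw [neg_sq, hI2]
  have hn3 : (-Complex.I) ^ 3 = Complex.I := by rw [pow_succ, hn2]; ring
  rw [hn2, hn3] at hb
  rw [hI2, hI3] at hd
  refine ⟨a, b, c, d, ?_, ?_, ?_, ?_⟩
  · linear_combination (1 / 4 : ℂ) * ha + (1 / 4 : ℂ) * hb + (1 / 4 : ℂ) * hc + (1 / 4 : ℂ) * hd
  · push_cast
    linear_combination (1 / 4 : ℂ) * ha + (Complex.I / 4) * hb - (1 / 4 : ℂ) * hc - (Complex.I / 4) * hd +
      (φ (x * y) / 2 - φ (x * y ^ 3) / 2) * hI2
  · linear_combination (1 / 4 : ℂ) * ha - (1 / 4 : ℂ) * hb + (1 / 4 : ℂ) * hc - (1 / 4 : ℂ) * hd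
  · push_cast
    linear_combination (1 / 4 : ℂ) * ha - (Complex.I / 4) * hb - (1 / 4 : ℂ) * hc + (Complex.I / 4) * hd +
      (-φ (x * y) / 2 + φ (x * y ^ 3) / 2) * hI2

theorem half {φ : G → ℂ} (hφ : IsCharacter G φ) {x y r : G} (hx : x ^ 5 = 1) (hy : y ^ 2 = 1) (hxy : x * y = y * x)
    (hr : r * x * r⁻¹ = x ^ 2) (hry : r * y = y * r) :
    ∃ u v : ℤ, φ x = u + v ∧ φ (x * y) = u - v := by
  have hy3 : y ^ 3 = y := by rw [pow_succ, hy, one_mul]
  have hy4 : y ^ 4 = 1 := by rw [show 4 = 2 * 2 from rfl, pow_mul, hy, one_pow]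
  obtain ⟨a, ha⟩ := int_of hφ hx hy4 hxy hr hry (one_pow 4)
  obtain ⟨c, hc⟩ := int_of hφ hx hy4 hxy hr hry (show (-1 : ℂ) ^ 4 = 1 by norm_num)
  simp only [Finset.sum_range_succ, Finset.sum_range_zero, zero_add, pow_zero, pow_one, map_one, mul_one, map_pow,
    map_neg, hy, hy3] at ha hc
  refine ⟨a, c, ?_, ?_⟩
  · linear_combination (1 / 4 : ℂ) * ha + (1 / 4 : ℂ) * hc
  · linear_combination (1 / 4 : ℂ) * ha - (1 / 4 : ℂ) * hc

/-! ### The classification of the sixteen pairs -/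

theorem sq_mod8 {a : ℤ} (h : ¬ 2 ∣ a) : ∃ k : ℤ, 0 ≤ k ∧ a ^ 2 = 1 + 8 * k := by
  obtain ⟨m, rfl⟩ : ∃ m, a = 2 * m + 1 := ⟨a / 2, by omega⟩
  obtain ⟨n, hn⟩ : ∃ n, m * (m + 1) = 2 * n := by
    obtain ⟨n, hn⟩ := Int.even_mul_succ_self m
    exact ⟨n, by rw [hn]; ring⟩
  refine ⟨n, ?_, ?_⟩
  · have h1 : 0 ≤ m * (m + 1) := by
      rcases le_or_gt 0 m with h0 | h0
      · positivity
      · have : m + 1 ≤ 0 := by omega
        nlinarith
    omega
  · linear_combination 4 * hn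

theorem sq_even {a : ℤ} (h : 2 ∣ a) (h0 : a ≠ 0) : ∃ k : ℤ, (k = 0 ∨ 3 ≤ k) ∧ a ^ 2 = 4 + 4 * k ∧ (k ≤ 4 → 3 ∣ k) := by
  obtain ⟨m, rfl⟩ := h
  have hm : m ≠ 0 := by rintro rfl; exact h0 rfl
  refine ⟨m ^ 2 - 1, ?_, by ring, ?_⟩
  · have h1 : 1 ≤ m ^ 2 := by
      have := sq_pos_of_ne_zero hm
      omega
    by_cases h2 : m ^ 2 = 1
    · left; omega
    · right
      have h3 : 2 ≤ |m| := by
        by_contra hlt
        push Not at hlt
        have : |m| = 1 := le_antisymm (by omega) (Int.one_le_abs hm)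
        apply h2
        rw [← sq_abs, this]; norm_num
      have h4 : 4 ≤ m ^ 2 := by
        rw [← sq_abs]; nlinarith
      omega
  · intro h5
    have h6 : |m| ≤ 2 := by
      by_contra hlt
      push Not at hlt
      have h7 : 9 ≤ m ^ 2 := by
        rw [← sq_abs]; nlinarith
      omega
    have h7 : m = 1 ∨ m = -1 ∨ m = 2 ∨ m = -2 := by
      have := abs_le.1 h6
      omega
    rcases h7 with rfl | rfl | rfl | rfl <;> norm_num

theorem sq_even4 {b : ℤ} (h : 2 ∣ b) : ∃ k : ℤ, 0 ≤ k ∧ b ^ 2 = 4 * k := by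
  obtain ⟨m, rfl⟩ := h
  exact ⟨m ^ 2, sq_nonneg m, by ring⟩

/-- the types of the sixteen characters -/
theorem classify {ι : Type*} [Fintype ι] (a b : ι → ℤ) (h2 : ∀ i, 2 ∣ a i - b i) (ha : ∑ i, a i ^ 2 = 50)
    (hb : ∑ i, b i ^ 2 = 10) (h16 : Nat.card {i // a i ≠ 0} = 16) :
    ∀ i, a i ≠ 0 → (a i ^ 2 = 1 ∧ b i ^ 2 = 1) ∨ (a i ^ 2 = 4 ∧ b i = 0) ∨ (a i ^ 2 = 9 ∧ b i ^ 2 = 1) := by
  classical
  set O : Finset ι := Finset.univ.filter (fun i => ¬ 2 ∣ a i) with hO
  set E : Finset ι := Finset.univ.filter (fun i => 2 ∣ a i) with hE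
  set E0 : Finset ι := E.filter (fun i => a i ≠ 0) with hE0
  have hOE : ∀ f : ι → ℤ, ∑ i, f i = ∑ i ∈ O, f i + ∑ i ∈ E, f i := fun f => by
    rw [add_comm]
    exact (Finset.sum_filter_add_sum_filter_not Finset.univ (fun i => 2 ∣ a i) f).symm
  have hEE : ∀ f : ι → ℤ, (∀ i, a i = 0 → f i = 0) → ∑ i ∈ E, f i = ∑ i ∈ E0, f i := fun f hf => by
    exact (Finset.sum_filter_of_ne (s := E) (p := fun i => a i ≠ 0) (f := f) (fun i _ hi h0 => hi (hf i h0))).symm
  have hc16 : O.card + E0.card = 16 := by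
    rw [← h16, Nat.card_eq_fintype_card, Fintype.card_subtype, ← Finset.card_union_of_disjoint]
    · congr 1
      ext i
      simp only [hO, hE0, hE, Finset.mem_union, Finset.mem_filter, Finset.mem_univ, true_and]
      constructor
      · rintro (h | h)
        · rintro h0
          exact h (by rw [h0]; exact dvd_zero 2)
        · exact h.2
      · intro h
        by_cases h' : 2 ∣ a i
        · exact Or.inr ⟨h', h⟩
        · exact Or.inl h'
    · rw [Finset.disjoint_left]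
      intro i h1 h3
      simp only [hO, hE0, hE, Finset.mem_filter, Finset.mem_univ, true_and] at h1 h3
      exact h1 h3.1
  -- the integers `k`, `l` with `a² = 1 + 8k` on `O`, `4 + 4k` on `E0`; `b² = 1 + 8l` on `O`, `4 l` on `E`
  have hko : ∀ i : ι, ∃ k : ℤ, i ∈ O → 0 ≤ k ∧ a i ^ 2 = 1 + 8 * k := fun i => by
    by_cases h : i ∈ O
    · obtain ⟨k, hk⟩ := sq_mod8 (Finset.mem_filter.1 h).2
      exact ⟨k, fun _ => hk⟩
    · exact ⟨0, fun h' => absurd h' h⟩
  have hke : ∀ i : ι, ∃ k : ℤ, i ∈ E0 → (k = 0 ∨ 3 ≤ k) ∧ a i ^ 2 = 4 + 4 * k ∧ (k ≤ 4 → 3 ∣ k) := fun i => by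
    by_cases h : i ∈ E0
    · have h' := Finset.mem_filter.1 h
      obtain ⟨k, hk⟩ := sq_even (Finset.mem_filter.1 h'.1).2 h'.2
      exact ⟨k, fun _ => hk⟩
    · exact ⟨0, fun h' => absurd h' h⟩
  have hlo : ∀ i : ι, ∃ k : ℤ, i ∈ O → 0 ≤ k ∧ b i ^ 2 = 1 + 8 * k := fun i => by
    by_cases h : i ∈ O
    · obtain ⟨k, hk⟩ := sq_mod8 (a := b i) (fun h3 => (Finset.mem_filter.1 h).2 (by have := h2 i; omega))
      exact ⟨k, fun _ => hk⟩
    · exact ⟨0, fun h' => absurd h' h⟩
  have hle : ∀ i : ι, ∃ k : ℤ, i ∈ E → 0 ≤ k ∧ b i ^ 2 = 4 * k := fun i => by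
    by_cases h : i ∈ E
    · obtain ⟨k, hk⟩ := sq_even4 (b := b i) (by have := h2 i; have := (Finset.mem_filter.1 h).2; omega)
      exact ⟨k, fun _ => hk⟩
    · exact ⟨0, fun h' => absurd h' h⟩
  choose ko hko using hko
  choose ke hke using hke
  choose lo hlo using hlo
  choose le hle using hle
  have sa : ∑ i, a i ^ 2 = O.card + 8 * ∑ i ∈ O, ko i + 4 * E0.card + 4 * ∑ i ∈ E0, ke i := by
    rw [hOE, hEE (fun i => a i ^ 2) (fun i h => by rw [h]; norm_num)]
    rw [Finset.sum_congr rfl fun i hi => (hko i hi).2, Finset.sum_congr rfl fun i hi => (hke i hi).2.1,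
      Finset.sum_add_distrib, Finset.sum_add_distrib, ← Finset.mul_sum, ← Finset.mul_sum, Finset.sum_const,
      Finset.sum_const]
    simp only [nsmul_eq_mul, mul_one]
    ring
  have sb : ∑ i, b i ^ 2 = O.card + 8 * ∑ i ∈ O, lo i + 4 * ∑ i ∈ E, le i := by
    rw [hOE]
    rw [Finset.sum_congr rfl fun i hi => (hlo i hi).2, Finset.sum_congr rfl fun i hi => (hle i hi).2,
      Finset.sum_add_distrib, ← Finset.mul_sum, ← Finset.mul_sum, Finset.sum_const]
    simp only [nsmul_eq_mul, mul_one]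
  have p1 : 0 ≤ ∑ i ∈ O, ko i := Finset.sum_nonneg fun i hi => (hko i hi).1
  have p2 : 0 ≤ ∑ i ∈ E0, ke i := Finset.sum_nonneg fun i hi => by have := (hke i hi).1; omega
  have p3 : 0 ≤ ∑ i ∈ O, lo i := Finset.sum_nonneg fun i hi => (hlo i hi).1
  have p4 : 0 ≤ ∑ i ∈ E, le i := Finset.sum_nonneg fun i hi => (hle i hi).1
  rw [sa] at ha
  rw [sb] at hb
  have hke4 : ∀ i ∈ E0, ke i ≤ ∑ i ∈ E0, ke i := fun i hi =>
    Finset.single_le_sum (f := ke) (fun i hi => by have := (hke i hi).1; omega) hi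
  have h3 : (∑ i ∈ E0, ke i ≤ 4) → 3 ∣ ∑ i ∈ E0, ke i := fun h =>
    Finset.dvd_sum fun i hi => (hke i hi).2.2 ((hke4 i hi).trans h)
  have hOcard : O.card = 10 := by omega
  have z1 : ∑ i ∈ E0, ke i = 0 := by omega
  have z2 : ∑ i ∈ O, lo i = 0 := by omega
  have z3 : ∑ i ∈ E, le i = 0 := by omega
  have z4 : ∑ i ∈ O, ko i = 2 := by omega
  have hb0 : ∀ i ∈ O, b i ^ 2 = 1 := fun i hi => by
    have := (Finset.sum_eq_zero_iff_of_nonneg fun i hi => (hlo i hi).1).1 z2 i hi
    rw [(hlo i hi).2, this]; norm_num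
  have hb1 : ∀ i ∈ E, b i = 0 := fun i hi => by
    have := (Finset.sum_eq_zero_iff_of_nonneg fun i hi => (hle i hi).1).1 z3 i hi
    have h5 := (hle i hi).2
    rw [this, mul_zero] at h5
    exact pow_eq_zero_iff (two_ne_zero) |>.1 h5
  intro i hi
  by_cases h : 2 ∣ a i
  · right; left
    have hiE : i ∈ E := Finset.mem_filter.2 ⟨Finset.mem_univ i, h⟩
    have hiE0 : i ∈ E0 := Finset.mem_filter.2 ⟨hiE, hi⟩
    have h6 := hke4 i hiE0
    have h7 := (hke i hiE0).1
    refine ⟨?_, hb1 i hiE⟩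
    rw [(hke i hiE0).2.1]
    omega
  · have hiO : i ∈ O := Finset.mem_filter.2 ⟨Finset.mem_univ i, h⟩
    have h6 : ko i ≤ 2 := by
      rw [← z4]
      exact Finset.single_le_sum (f := ko) (fun i hi => (hko i hi).1) hiO
    have h7 := (hko i hiO).1
    have h8 := (hko i hiO).2
    have h9 : ko i ≠ 2 := by
      intro h10
      rw [h10] at h8
      have h11 : a i ^ 2 = 17 := by omega
      have h12 : |a i| ≤ 4 := by
        by_contra hlt
        push Not at hlt
        have : 25 ≤ a i ^ 2 := by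
          rw [← sq_abs]; nlinarith
        omega
      have h13 := abs_le.1 h12
      have : a i = -4 ∨ a i = -3 ∨ a i = -2 ∨ a i = -1 ∨ a i = 0 ∨ a i = 1 ∨ a i = 2 ∨ a i = 3 ∨ a i = 4 := by omega
      rcases this with h | h | h | h | h | h | h | h | h <;> rw [h] at h11 <;> norm_num at h11
    rcases (show ko i = 0 ∨ ko i = 1 by omega) with h0 | h0
    · left
      refine ⟨?_, hb0 i hiO⟩
      rw [h8, h0]; norm_num
    · right; right
      refine ⟨?_, hb0 i hiO⟩
      rw [h8, h0]; norm_num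

end Cfsg.Agent.H438.TI
end

-- part: H438/TI/Grp
section
set_option linter.all false
open scoped Cfsg.Agent.FastGrp

/-!
# The group theory of `Loc` (helper438)

The centralizers of `x j` (order 20 in `G`), `x z` (order 10 in `N`), `x` (order 50 in `N`); `x j` is not conjugate to its
inverse; the sum of a character over `P`.
-/

set_option autoImplicit false

namespace Cfsg.Agent.H438.TI

open Subgroup

universe u

variable {G : Type u} [Group G] {N P : Subgroup G} {x j r : G}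

namespace Loc

theorem zN (L : Loc N P x j r) : j ^ 2 ∈ N := by
  rw [pow_two]
  exact Subgroup.mul_self_mem_of_index_two L.index j

theorem x5 (L : Loc N P x j r) : x ^ 5 = 1 := by rw [← L.ox]; exact pow_orderOf_eq_one x

theorem j4 (L : Loc N P x j r) : j ^ 4 = 1 := by rw [← L.oj]; exact pow_orderOf_eq_one j

theorem j2_ne (L : Loc N P x j r) : j ^ 2 ≠ 1 := fun h => by
  have h1 := orderOf_dvd_of_pow_eq_one h
  rw [L.oj] at h1
  norm_num at h1

theorem cxj (L : Loc N P x j r) : Commute x j := L.comm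

theorem pow5 (L : Loc N P x j r) : (x * j) ^ 5 = j := by
  rw [L.cxj.mul_pow, L.x5, one_mul, show 5 = 4 + 1 from rfl, pow_add, L.j4, one_mul, pow_one]

theorem pow16 (L : Loc N P x j r) : (x * j) ^ 16 = x := by
  rw [L.cxj.mul_pow, show 16 = 5 * 3 + 1 from rfl, pow_add x, pow_mul x, L.x5, one_pow, one_mul, pow_one,
    show 5 * 3 + 1 = 4 * 4 from rfl, pow_mul j, L.j4, one_pow, mul_one]

theorem order (L : Loc N P x j r) : orderOf (x * j) = 20 := by
  rw [L.cxj.orderOf_mul_eq_mul_orderOf_of_coprime (by rw [L.ox, L.oj]; norm_num), L.ox, L.oj]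

theorem xj_notMem (L : Loc N P x j r) : x * j ∉ N := fun h => L.jN ((N.mul_mem_cancel_left L.xN).1 h)

/-- `g` commutes with `x` and with `z` iff it is a power of `x j` -/
theorem mem_zp (L : Loc N P x j r) {g : G} : (g * x = x * g ∧ g * j ^ 2 = j ^ 2 * g) ↔ g ∈ zpowers (x * j) := by
  constructor
  · rintro ⟨h1, h2⟩
    rw [pow_two] at h2
    obtain ⟨k, l, rfl⟩ := L.cent g h1 h2
    have hx : x ∈ zpowers (x * j) := by
      have h3 : (x * j) ^ 16 ∈ zpowers (x * j) := pow_mem (mem_zpowers _) 16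
      rwa [L.pow16] at h3
    have hj : j ∈ zpowers (x * j) := by
      have h3 : (x * j) ^ 5 ∈ zpowers (x * j) := pow_mem (mem_zpowers _) 5
      rwa [L.pow5] at h3
    exact mul_mem (pow_mem hx k) (pow_mem hj l)
  · intro h
    obtain ⟨k, rfl⟩ := mem_zpowers_iff.1 h
    have h1 : Commute (x * j) x := (Commute.refl x).mul_left L.cxj.symm
    have h2 : Commute (x * j) j := L.cxj.mul_left (Commute.refl j)
    exact ⟨(h1.zpow_left k), ((h2.pow_right 2).zpow_left k)⟩

theorem comm_j (L : Loc N P x j r) {g : G} (h1 : g * x = x * g) (h2 : g * j ^ 2 = j ^ 2 * g) : g * j = j * g := by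
  obtain ⟨k, rfl⟩ := mem_zpowers_iff.1 (L.mem_zp.1 ⟨h1, h2⟩)
  have h3 : Commute (x * j) j := L.cxj.mul_left (Commute.refl j)
  exact h3.zpow_left k

theorem conj_pow5 (L : Loc N P x j r) {g y : G} (h : g * (x * j) * g⁻¹ = y) : g * j * g⁻¹ = y ^ 5 := by
  rw [← h, conj_pow, L.pow5]

theorem conj_pow16 (L : Loc N P x j r) {g y : G} (h : g * (x * j) * g⁻¹ = y) : g * x * g⁻¹ = y ^ 16 := by
  rw [← h, conj_pow, L.pow16]

theorem card_cent_xj (L : Loc N P x j r) : Nat.card {g : G // g * (x * j) * g⁻¹ = x * j} = 20 := by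
  rw [← L.order, ← Nat.card_zpowers]
  refine Nat.card_congr (Equiv.subtypeEquivRight fun g => ?_)
  rw [← L.mem_zp]
  constructor
  · intro h
    have h1 := L.conj_pow16 h
    have h2 := L.conj_pow5 h
    rw [L.pow16] at h1
    rw [L.pow5] at h2
    refine ⟨mul_inv_eq_iff_eq_mul.1 h1, ?_⟩
    exact (show Commute g j from mul_inv_eq_iff_eq_mul.1 h2).pow_right 2
  · rintro ⟨h1, h2⟩
    have h3 := L.comm_j h1 h2
    exact mul_inv_eq_iff_eq_mul.2 ((show Commute g x from h1).mul_right h3)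

theorem no_inv (L : Loc N P x j r) : IsEmpty {g : G // g * (x * j) * g⁻¹ = (x * j)⁻¹} := by
  refine ⟨fun ⟨g, hg⟩ => ?_⟩
  have h1 := L.conj_pow16 hg
  have h2 := L.conj_pow5 hg
  rw [inv_pow, L.pow16] at h1
  rw [inv_pow, L.pow5] at h2
  have hr2 : r ^ 2 * x * (r ^ 2)⁻¹ = x⁻¹ := by
    have h3 : r ^ 2 * x * (r ^ 2)⁻¹ = r * (r * x * r⁻¹) * r⁻¹ := by
      rw [pow_two, mul_inv_rev]
      simp only [mul_assoc]
    rw [h3, L.rx, ← conj_pow, L.rx, ← pow_mul, eq_inv_iff_mul_eq_one, ← pow_succ]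
    exact L.x5
  have hrj : r ^ 2 * j * (r ^ 2)⁻¹ = j := by
    have h3 : Commute r j := L.rj
    exact mul_inv_eq_iff_eq_mul.2 (h3.pow_left 2)
  set h : G := (r ^ 2)⁻¹ * g with hh
  have e1 : h * x * h⁻¹ = x := by
    have h3 : h * x * h⁻¹ = (r ^ 2)⁻¹ * (g * x * g⁻¹) * r ^ 2 := by rw [hh]; group
    rw [h3, h1, ← hr2]
    group
  have e2 : h * j * h⁻¹ = j⁻¹ := by
    have h3 : h * j * h⁻¹ = (r ^ 2)⁻¹ * (g * j * g⁻¹) * r ^ 2 := by rw [hh]; group
    rw [h3, h2]
    have h5 : Commute (r ^ 2) j := mul_inv_eq_iff_eq_mul.1 hrj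
    rw [(h5.inv_inv).eq, mul_assoc, inv_mul_cancel, mul_one]
  have e3 : h * j ^ 2 = j ^ 2 * h := by
    refine mul_inv_eq_iff_eq_mul.1 ?_
    rw [← conj_pow, e2, inv_pow, inv_eq_iff_mul_eq_one, ← pow_add]
    exact L.j4
  have e4 := L.comm_j (mul_inv_eq_iff_eq_mul.1 e1) e3
  have e5 : h * j * h⁻¹ = j := mul_inv_eq_iff_eq_mul.2 e4
  rw [e2] at e5
  apply L.j2_ne
  rw [pow_two]
  calc j * j = j⁻¹ * j := by rw [e5]
    _ = 1 := inv_mul_cancel j

/-- the elements of `N` -/
def xn (L : Loc N P x j r) : N := ⟨x, L.xN⟩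
/-- the elements of `N` -/
def zn (L : Loc N P x j r) : N := ⟨j ^ 2, L.zN⟩
/-- the elements of `N` -/
def rn (L : Loc N P x j r) : N := ⟨r, L.rN⟩

theorem card_cent_x (L : Loc N P x j r) : Nat.card {g : N // g * L.xn * g⁻¹ = L.xn} = 50 := by
  rw [← L.c50]
  refine Nat.card_congr ⟨fun g => ⟨g.1.1, ?_, g.1.2⟩, fun g => ⟨⟨g.1, g.2.2⟩, ?_⟩, fun g => rfl, fun g => rfl⟩
  · have h := congrArg Subtype.val g.2
    exact mem_centralizer_singleton_iff.2 (mul_inv_eq_iff_eq_mul.1 h)
  · exact Subtype.ext (mul_inv_eq_iff_eq_mul.2 (mem_centralizer_singleton_iff.1 g.2.1))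

theorem card_cent_xz (L : Loc N P x j r) : Nat.card {g : N // g * (L.xn * L.zn) * g⁻¹ = L.xn * L.zn} = 10 := by
  have hodd : ∀ k : ℕ, (x * j) ^ (2 * k) ∈ N := fun k => by
    rw [pow_mul]
    refine pow_mem ?_ k
    rw [pow_two]
    exact Subgroup.mul_self_mem_of_index_two L.index _
  have h10 : Nat.card ↥(zpowers ((x * j) ^ 2)) = 10 := by
    rw [Nat.card_zpowers, orderOf_pow' _ two_ne_zero, L.order]
    norm_num
  rw [← h10]
  have hpx : (x * j ^ 2) ^ 6 = x := by
    rw [(L.cxj.pow_right 2).mul_pow, show 6 = 5 + 1 from rfl, pow_add x, L.x5, one_mul, pow_one, ← pow_mul,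
      show 2 * (5 + 1) = 4 * 3 from rfl, pow_mul, L.j4, one_pow, mul_one]
  have hpz : (x * j ^ 2) ^ 5 = j ^ 2 := by
    rw [(L.cxj.pow_right 2).mul_pow, L.x5, one_mul, ← pow_mul, show 2 * 5 = 4 * 2 + 2 from rfl, pow_add, pow_mul,
      L.j4, one_pow, one_mul]
  have key : ∀ g : G, g ∈ N → g * (x * j ^ 2) * g⁻¹ = x * j ^ 2 → g ∈ zpowers ((x * j) ^ 2) := by
    intro g hg h
    have h1 : g * x * g⁻¹ = x := by rw [← hpx, ← conj_pow, h]
    have h2 : g * j ^ 2 * g⁻¹ = j ^ 2 := by rw [← hpz, ← conj_pow, h]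
    obtain ⟨n, rfl⟩ := mem_zpowers_iff.1 (L.mem_zp.1 ⟨mul_inv_eq_iff_eq_mul.1 h1, mul_inv_eq_iff_eq_mul.1 h2⟩)
    rcases Int.even_or_odd' n with ⟨k, hk | hk⟩
    · rw [hk, zpow_mul, zpow_ofNat]
      exact zpow_mem (mem_zpowers _) k
    · exfalso
      apply L.xj_notMem
      have h3 : (x * j) ^ (2 * k) ∈ N := by
        rw [zpow_mul]
        refine zpow_mem ?_ k
        have := hodd 1
        simpa using this
      rw [hk, zpow_add, zpow_one] at hg
      exact (N.mul_mem_cancel_left h3).1 hg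
  refine Nat.card_congr ⟨fun g => ⟨g.1.1, key g.1.1 g.1.2 (congrArg Subtype.val g.2)⟩, fun g => ⟨⟨g.1, ?_⟩, ?_⟩,
    fun g => rfl, fun g => rfl⟩
  · obtain ⟨n, hn⟩ := mem_zpowers_iff.1 g.2
    rw [← hn]
    refine zpow_mem ?_ n
    have := hodd 1
    simpa using this
  · apply Subtype.ext
    show (g : G) * (x * j ^ 2) * (g : G)⁻¹ = x * j ^ 2
    obtain ⟨n, hn⟩ := mem_zpowers_iff.1 g.2
    have h1 : (g : G) ∈ zpowers (x * j) := by
      rw [← hn]
      exact zpow_mem (pow_mem (mem_zpowers _) 2) n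
    obtain ⟨h2, h3⟩ := L.mem_zp.2 h1
    exact mul_inv_eq_iff_eq_mul.2 ((show Commute (g : G) x from h2).mul_right h3)

end Loc

end Cfsg.Agent.H438.TI
end

-- part: H438/TI/Chr
section
prune_inst 0x4010000
set_option linter.all false
open scoped Cfsg.Agent.FastGrp

/-!
# Characters of the Tits group at the prime five (helper438)

* `vanish` : characters of defect zero;
* `Loc.degree_zero_iff` : `25 ∣ χ(1)` iff `χ(x) = 0`, for `χ ∈ Irr N`;
* `Loc.parity` : the parity of the value at `x j` of an irreducible character of `G`, irreducible on `N`.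
-/

set_option autoImplicit false
set_option linter.unusedSectionVars false

namespace Cfsg.Agent.H438.TI

open Cfsg Subgroup Cfsg.Agent.Characters.Core
open Cfsg.Agent.SmallSimple.InvolPairs (sum_mul_conj_eq_card)
open scoped ComplexConjugate

universe u

theorem charDegree_of_eq {Γ : Type*} [Group Γ] {χ : Γ → ℂ} {d : ℕ} (h : χ 1 = d) : charDegree χ = d := by
  show ⌊(χ 1).re⌋₊ = d
  rw [h, Complex.natCast_re, Nat.floor_natCast]

theorem eq_charDegree {Γ : Type*} [Group Γ] {χ : Γ → ℂ} (h : IsCharacter Γ χ) : χ 1 = (charDegree χ : ℂ) := by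
  obtain ⟨n, hn⟩ := isCharacter_apply_one h
  rw [charDegree_of_eq hn, hn]

/-- characters of defect zero -/
theorem vanish {Γ : Type*} [Group Γ] [Finite Γ] (hc : 5 ^ 2 ∣ Nat.card Γ) (hc' : ¬ 5 ^ 3 ∣ Nat.card Γ)
    (χ : IrrCharacter Γ) (hd : 25 ∣ charDegree (χ : Γ → ℂ)) {g : Γ} (hg : 5 ∣ orderOf g) : (χ : Γ → ℂ) g = 0 := by
  obtain ⟨n, ρ, hρ, hχ⟩ := χ.2
  have h1 : (χ : Γ → ℂ) 1 = (n : ℂ) := by
    rw [← hχ, Representation.char_one, Module.finrank_fin_fun]
  rw [charDegree_of_eq h1] at hd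
  rw [← hχ]
  exact Cfsg.Agent.S0165.result ρ 5 2 (by norm_num) hc hc' (by rw [Module.finrank_fin_fun]; exact hd) g hg

variable {G : Type u} [Group G] [Finite G] {N P : Subgroup G} {x j r : G}

namespace Loc

theorem order_xn (L : Loc N P x j r) : orderOf L.xn = 5 := by
  rw [← L.ox]
  exact (orderOf_injective N.subtype N.subtype_injective L.xn).symm

theorem cls (L : Loc N P x j r) {χ : N → ℂ} (hχ : IsClassFunction N χ) {y : N} (hy : (y : G) ∈ P) (h1 : y ≠ 1) :
    χ y = χ L.xn := by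
  obtain ⟨g, hg, h⟩ := L.P_fus y hy (fun h => h1 (Subtype.ext h))
  rw [← hχ L.xn ⟨g, hg⟩]
  congr 1
  exact Subtype.ext h.symm

theorem mod25 (L : Loc N P x j r) {χ : N → ℂ} (hχ : IsCharacter N χ) :
    ∃ n : ℕ, χ 1 + 24 * χ L.xn = 25 * n := by
  classical
  have := Fintype.ofFinite P
  obtain ⟨n, hn⟩ := classInner_isNat (isCharacter_comp (Subgroup.inclusion L.P_le) hχ)
    (isCharacter_one (G := P))
  refine ⟨n, ?_⟩
  rw [classInner_def, L.P_card] at hn
  have h1 : ∑ g : P, (χ ∘ Subgroup.inclusion L.P_le) g * conj ((1 : P → ℂ) g) = χ 1 + 24 * χ L.xn := by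
    rw [← Finset.add_sum_erase Finset.univ _ (Finset.mem_univ (1 : P))]
    congr 1
    · simp
    · rw [Finset.sum_congr rfl (g := fun _ => χ L.xn) (fun y hy => ?_)]
      · rw [Finset.sum_const, Finset.card_erase_of_mem (Finset.mem_univ _), Finset.card_univ,
          ← Nat.card_eq_fintype_card, L.P_card]
        simp
      · have hy1 : y ≠ 1 := (Finset.mem_erase.1 hy).1
        simp only [Function.comp_apply, Pi.one_apply, map_one, mul_one]
        refine L.cls (isCharacter_isClassFunction hχ) y.2 fun h => hy1 ?_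
        exact Subgroup.inclusion_injective L.P_le (by rw [h, map_one])
  rw [h1] at hn
  rw [← hn]
  push_cast
  ring

theorem half_n (L : Loc N P x j r) {χ : N → ℂ} (hχ : IsCharacter N χ) :
    ∃ u v : ℤ, χ L.xn = u + v ∧ χ (L.xn * L.zn) = u - v := by
  refine half hχ (x := L.xn) (y := L.zn) (r := L.rn) (Subtype.ext L.x5) (Subtype.ext ?_) (Subtype.ext ?_)
    (Subtype.ext L.rx) (Subtype.ext ?_)
  · show (j ^ 2) ^ 2 = 1
    rw [← pow_mul]
    exact L.j4
  · exact (L.cxj.pow_right 2)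
  · exact ((show Commute r j from L.rj).pow_right 2)

theorem card_N_dvd (hN : Nat.card N = 17971200) : 5 ^ 2 ∣ Nat.card N ∧ ¬ 5 ^ 3 ∣ Nat.card N := by
  rw [hN]
  constructor <;> norm_num

theorem degree_zero_iff (L : Loc N P x j r) (hN : Nat.card N = 17971200) (χ : IrrCharacter N) :
    25 ∣ charDegree (χ : N → ℂ) ↔ (χ : N → ℂ) L.xn = 0 := by
  constructor
  · intro h
    exact vanish (card_N_dvd hN).1 (card_N_dvd hN).2 χ h (by rw [L.order_xn])
  · intro h
    obtain ⟨n, hn⟩ := L.mod25 (isIrr_isCharacter χ.2)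
    rw [h, mul_zero, add_zero, eq_charDegree (isIrr_isCharacter χ.2)] at hn
    exact ⟨n, by exact_mod_cast hn⟩

/-- the classification for `N` -/
theorem types (L : Loc N P x j r) (hN : Nat.card N = 17971200)
    (h16 : Nat.card {χ : IrrCharacter N // ¬ 25 ∣ charDegree (χ : N → ℂ)} = 16) (χ : IrrCharacter N)
    (hd : ¬ 25 ∣ charDegree (χ : N → ℂ)) {u v : ℤ} (h1 : (χ : N → ℂ) L.xn = u + v)
    (h2 : (χ : N → ℂ) (L.xn * L.zn) = u - v) :
    ((u + v) ^ 2 = 1 ∧ (u - v) ^ 2 = 1) ∨ ((u + v) ^ 2 = 4 ∧ u - v = 0) ∨ ((u + v) ^ 2 = 9 ∧ (u - v) ^ 2 = 1) := by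
  classical
  have := Fintype.ofFinite N
  have := finite_irr (G := N)
  have := Fintype.ofFinite (IrrCharacter N)
  choose U V hU hV using fun χ : IrrCharacter N => L.half_n (isIrr_isCharacter χ.2)
  have e1 : ∑ χ : IrrCharacter N, (U χ + V χ) ^ 2 = 50 := by
    have h := sum_mul_conj_eq_card L.xn L.xn
    rw [L.card_cent_x] at h
    have h3 : ∑ χ : IrrCharacter N, (χ : N → ℂ) L.xn * conj ((χ : N → ℂ) L.xn) =
        ((∑ χ : IrrCharacter N, (U χ + V χ) ^ 2 : ℤ) : ℂ) := by
      push_cast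
      refine Finset.sum_congr rfl fun χ _ => ?_
      rw [hU, map_add, map_intCast, map_intCast]
      ring
    rw [h3] at h
    exact_mod_cast h
  have e2 : ∑ χ : IrrCharacter N, (U χ - V χ) ^ 2 = 10 := by
    have h := sum_mul_conj_eq_card (L.xn * L.zn) (L.xn * L.zn)
    rw [L.card_cent_xz] at h
    have h3 : ∑ χ : IrrCharacter N, (χ : N → ℂ) (L.xn * L.zn) * conj ((χ : N → ℂ) (L.xn * L.zn)) =
        ((∑ χ : IrrCharacter N, (U χ - V χ) ^ 2 : ℤ) : ℂ) := by
      push_cast
      refine Finset.sum_congr rfl fun χ _ => ?_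
      rw [hV, map_sub, map_intCast, map_intCast]
      ring
    rw [h3] at h
    exact_mod_cast h
  have e3 : Nat.card {χ : IrrCharacter N // U χ + V χ ≠ 0} = 16 := by
    rw [← h16]
    refine Nat.card_congr (Equiv.subtypeEquivRight fun χ => ?_)
    rw [L.degree_zero_iff hN, hU]
    constructor
    · intro h h3
      exact h (by exact_mod_cast h3)
    · intro h h3
      exact h (by exact_mod_cast h3)
  have h4 := classify (fun χ => U χ + V χ) (fun χ => U χ - V χ) (fun χ => ⟨V χ, by ring⟩) e1 e2 e3 χ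
  have h5 : U χ + V χ = u + v := by
    have : ((U χ + V χ : ℤ) : ℂ) = ((u + v : ℤ) : ℂ) := by
      push_cast
      rw [← hU, h1]
    exact_mod_cast this
  have h6 : U χ - V χ = u - v := by
    have : ((U χ - V χ : ℤ) : ℂ) = ((u - v : ℤ) : ℂ) := by
      push_cast
      rw [← hV, h2]
    exact_mod_cast this
  simp only [h5, h6] at h4
  refine h4 fun h7 => hd ?_
  rw [L.degree_zero_iff hN, h1]
  exact_mod_cast h7

/-- the bound for the values of `N` at `x` -/
theorem abs_le (L : Loc N P x j r) (χ : IrrCharacter N) {a : ℤ} (h1 : (χ : N → ℂ) L.xn = a) : a ^ 2 ≤ 50 := by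
  classical
  have := Fintype.ofFinite N
  have := finite_irr (G := N)
  have := Fintype.ofFinite (IrrCharacter N)
  choose U V hU hV using fun χ : IrrCharacter N => L.half_n (isIrr_isCharacter χ.2)
  have e1 : ∑ χ : IrrCharacter N, (U χ + V χ) ^ 2 = 50 := by
    have h := sum_mul_conj_eq_card L.xn L.xn
    rw [L.card_cent_x] at h
    have h3 : ∑ χ : IrrCharacter N, (χ : N → ℂ) L.xn * conj ((χ : N → ℂ) L.xn) =
        ((∑ χ : IrrCharacter N, (U χ + V χ) ^ 2 : ℤ) : ℂ) := by
      push_cast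
      refine Finset.sum_congr rfl fun χ _ => ?_
      rw [hU, map_add, map_intCast, map_intCast]
      ring
    rw [h3] at h
    exact_mod_cast h
  have h5 : U χ + V χ = a := by
    have : ((U χ + V χ : ℤ) : ℂ) = ((a : ℤ) : ℂ) := by
      push_cast
      rw [← hU, h1]
    exact_mod_cast this
  rw [← e1, ← h5]
  exact Finset.single_le_sum (f := fun χ : IrrCharacter N => (U χ + V χ) ^ 2) (fun _ _ => sq_nonneg _)
    (Finset.mem_univ χ)

theorem parity (L : Loc N P x j r) (hN : Nat.card N = 17971200)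
    (h16 : Nat.card {χ : IrrCharacter N // ¬ 25 ∣ charDegree (χ : N → ℂ)} = 16) (ψ : IrrCharacter G)
    (hirr : IsIrrCharacter N (fun n : N => (ψ : G → ℂ) n)) (hd : ¬ 25 ∣ charDegree (ψ : G → ℂ)) {a b c d : ℤ}
    (h1 : (ψ : G → ℂ) x = a + b + c + d) (h2 : (ψ : G → ℂ) (x * j ^ 2) = a - b + c - d) :
    ¬ (2 ∣ a - c ∧ 2 ∣ b - d) := by
  rintro ⟨h3, h4⟩
  have h5 := L.types hN h16 ⟨_, hirr⟩ hd (u := a + c) (v := b + d) (by
    show (ψ : G → ℂ) x = _
    rw [h1]; push_cast; ring) (by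
    show (ψ : G → ℂ) (x * j ^ 2) = _
    rw [h2]; push_cast; ring)
  obtain ⟨k, hk⟩ : 2 ∣ a + c := by omega
  obtain ⟨l, hl⟩ : 2 ∣ b + d := by omega
  rw [hk, hl] at h5
  have h6 : (2 * k + 2 * l) ^ 2 = 4 * (k + l) ^ 2 := by ring
  have h7 : (2 * k - 2 * l) ^ 2 = 4 * (k - l) ^ 2 := by ring
  rcases h5 with ⟨h8, h9⟩ | ⟨h8, h9⟩ | ⟨h8, h9⟩
  · rw [h6] at h8; omega
  · rw [h6] at h8
    have h10 : k = l := by omega
    rw [h10] at h8
    have h11 : 4 * (l + l) ^ 2 = 16 * l ^ 2 := by ring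
    rw [h11] at h8
    omega
  · rw [h6] at h8; omega

end Loc

end Cfsg.Agent.H438.TI

private theorem dce_edeb0a1affec : _root_.True := by
  try have : _root_.True := by simp only [_root_.Cfsg.Agent.H438.TI.Loc.zn.congr_simp]
  try have : _root_.True := by simp only [_root_.Cfsg.Agent.H438.TI.Loc.xn.congr_simp]
  exact _root_.True.intro
end

-- part: H345/TiT2/Loc
section
set_option linter.all false
open scoped Cfsg.Agent.FastGrp

/-!
# Local data of `²F₄(2)` at the prime five (helper345, for S4819 / S4820)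

`loc : ∃ P x j r, Loc (TT.subgroupOf HT) P x j r`.
-/

set_option autoImplicit false

namespace Cfsg.Agent.H345.TiT2

open Subgroup Cfsg.Agent.TitsK
open Cfsg.Agent.FourTwo.Base (LL)
open Cfsg.Agent.H438.TI (Loc)
open Cfsg.Agent.CpAutTits

universe u v

/-! ### elements of order five of the Tits group -/

/-- a subgroup of order 25, all elements of order five are conjugate -/
def Five (X : Type*) [Group X] : Prop :=
  ∃ P : Subgroup X, Nat.card P = 25 ∧ (∀ y ∈ P, y ≠ 1 → orderOf y = 5) ∧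
    ∀ y y' : X, orderOf y = 5 → orderOf y' = 5 → ∃ g : X, g * y * g⁻¹ = y'

theorem Five.congr {X : Type u} {Y : Type v} [Group X] [Group Y] (h : Five X) (e : X ≃* Y) : Five Y := by
  obtain ⟨P, h1, h2, h3⟩ := h
  refine ⟨P.map e.toMonoidHom, ?_, ?_, ?_⟩
  · rw [← h1]
    exact (Nat.card_congr (P.equivMapOfInjective e.toMonoidHom e.injective).toEquiv).symm
  · rintro _ ⟨y, hy, rfl⟩ hne
    have h4 : y ≠ 1 := fun h => hne (by rw [h, map_one])
    rw [← h2 y hy h4]
    exact orderOf_injective e.toMonoidHom e.injective y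
  · intro y y' hy hy'
    obtain ⟨g, hg⟩ := h3 (e.symm y) (e.symm y') (by rw [MulEquiv.orderOf_eq, hy]) (by rw [MulEquiv.orderOf_eq, hy'])
    refine ⟨e g, ?_⟩
    have h4 := congrArg e hg
    rw [map_mul, map_mul, map_inv, e.apply_symm_apply, e.apply_symm_apply] at h4
    exact h4

theorem five_of_hyp {G : Type u} [Group G] [Finite G] {P : Subgroup G} (h : Hyp P) : Five G := by
  have : Fact (Nat.Prime 5) := ⟨by norm_num⟩
  exact ⟨P, h.cardP, fun y hy hne => orderOf_eq_prime (h.exp y hy) hne, fun y y' hy hy' => h.exists_conj hy hy'⟩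

section

open Cfsg.Agent.Omega.TwoF.Tits Cfsg.Agent.Omega.TwoF.Scalar Cfsg.Agent.Omega.TwoF.Orb
  Cfsg.Agent.ChevalleyStructure.Tits.Main

theorem five_C0 (hten : ∀ y : C, orderOf y = 5 → ∀ i, orderOf i = 2 → i * y = y * i →
      Nat.card ↥(centralizer ({y} : Set C) ⊓ centralizer ({i} : Set C)) = 10)
    (hex : ∃ y i : C, orderOf y = 5 ∧ orderOf i = 2 ∧ i * y = y * i) : Five C := by
  have h := Fus.hyp hten hex
  exact five_of_hyp h

theorem five_C {X : Type} [Group X] (e : C ≃* X)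
    (hten : ∀ y : X, orderOf y = 5 → ∀ i, orderOf i = 2 → i * y = y * i →
      Nat.card ↥(centralizer ({y} : Set X) ⊓ centralizer ({i} : Set X)) = 10)
    (hex : ∃ y i : X, orderOf y = 5 ∧ orderOf i = 2 ∧ i * y = y * i) : Five X := by
  have h := Row.hyp_of_ten (G := C) e hten hex
  have h1 := five_C0 h.1 h.2
  exact h1.congr e

end

theorem five_TT_aux (K : Subgroup (Matrix.GeneralLinearGroup Cfsg.Agent.ChevalleyStructure.Tits.Mat.I52 (ZMod 2)))
    (hK : K = Cfsg.Agent.ChevalleyStructure.Tits.Order.H0)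
    (e : Nonempty (↥(_root_.commutator K) ≃* ↥TT)) : Five ↥TT := by
  subst hK
  obtain ⟨e⟩ := e
  exact five_C e Ten.facts.ten ⟨Ten.facts.xT, Ten.facts.zT, Ten.facts.order_x, Ten.facts.order_z, Ten.facts.comm_zx⟩

theorem five_TT : Five ↥TT :=
  five_TT_aux (Cfsg.Lie.twistedF4 (ZMod 2) 1) Cfsg.Agent.ChevalleyStructure.Tits.Main.T0_eq_H0 exists_equiv

/-! ### abstract transfer -/

section abstract

variable {L : Type*} [Group L] {T H : Subgroup L}

theorem card_cent_aux (hTH : T ≤ H) {x : L} (hx : x ∈ T) :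
    Nat.card ↥(centralizer ({(⟨x, hTH hx⟩ : ↥H)} : Set ↥H) ⊓ T.subgroupOf H) =
      Nat.card ↥(centralizer ({(⟨x, hx⟩ : ↥T)} : Set ↥T)) := by
  have h1 : ∀ g : ↥H, g ∈ centralizer ({(⟨x, hTH hx⟩ : ↥H)} : Set ↥H) → (g : L) * x = x * g := fun g hg =>
    congrArg (fun t : ↥H => (t : L)) (mem_centralizer_singleton_iff.1 hg)
  have h2 : ∀ g : ↥T, g ∈ centralizer ({(⟨x, hx⟩ : ↥T)} : Set ↥T) → (g : L) * x = x * g := fun g hg =>
    congrArg (fun t : ↥T => (t : L)) (mem_centralizer_singleton_iff.1 hg)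
  exact Nat.card_congr
    { toFun := fun g => ⟨⟨g.1.1, g.2.2⟩, mem_centralizer_singleton_iff.2 (Subtype.ext (h1 g.1 g.2.1))⟩
      invFun := fun t => ⟨⟨t.1.1, hTH t.1.2⟩, mem_centralizer_singleton_iff.2 (Subtype.ext (h2 t.1 t.2)), t.1.2⟩
      left_inv := fun g => rfl
      right_inv := fun t => rfl }

/-- The local data from the facts in the ambient group. -/
theorem loc_aux (hTH : T ≤ H) (hrel : T.relIndex H = 2) {x j s z : L} (hx : x ∈ T) (hj : j ∈ H) (hjT : j ∉ T)
    (hs : s ∈ T) (x5 : x ^ 5 = 1) (x1 : x ≠ 1) (jsq : j * j = z) (z1 : z ≠ 1) (z2 : z * z = 1)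
    (hxj : j * x = x * j) (hsx : s⁻¹ * x * s = x ^ 2) (hsj : s * j = j * s)
    (hcent : ∀ p ∈ H, p * z * p⁻¹ = z → p * x = x * p → ∃ k l m : ℕ, p = x ^ k * z ^ l * j ^ m)
    (h50 : ∀ y : ↥T, orderOf y = 5 → Nat.card ↥(centralizer ({y} : Set ↥T)) = 50) (hfive : Five ↥T) :
    ∃ (P : Subgroup ↥H) (x j r : ↥H), Loc (T.subgroupOf H) P x j r := by
  have f5 : Fact (Nat.Prime 5) := ⟨by norm_num⟩
  obtain ⟨P, hP1, hP2, hP3⟩ := hfive
  have oxT : orderOf (⟨x, hx⟩ : ↥T) = 5 := orderOf_eq_prime (Subtype.ext x5) fun h => x1 (congrArg Subtype.val h)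
  have hmap : ∀ y ∈ P.map T.subtype, y ∈ H := by
    rintro _ ⟨y, -, rfl⟩
    exact hTH y.2
  refine ⟨(P.map T.subtype).subgroupOf H, ⟨x, hTH hx⟩, ⟨j, hj⟩, ⟨s⁻¹, H.inv_mem (hTH hs)⟩, ?_⟩
  refine
    { index := hrel
      xN := hx
      ox := ?_
      jN := hjT
      oj := ?_
      comm := Subtype.ext hxj.symm
      rN := T.inv_mem hs
      rx := Subtype.ext (by
        show s⁻¹ * x * (s⁻¹)⁻¹ = x ^ 2
        rw [inv_inv, hsx])
      rj := Subtype.ext (by
        show s⁻¹ * j = j * s⁻¹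
        rw [inv_mul_eq_iff_eq_mul, ← mul_assoc, hsj, mul_inv_cancel_right])
      cent := ?_
      c50 := ?_
      P_le := ?_
      P_card := ?_
      P_fus := ?_ }
  · exact orderOf_eq_prime (Subtype.ext x5) fun h => x1 (congrArg Subtype.val h)
  · have h1 : orderOf (⟨j, hj⟩ : ↥H) = 2 ^ (1 + 1) := by
      refine orderOf_eq_prime_pow (fun h => z1 ?_) (Subtype.ext ?_)
      · have h2 := congrArg Subtype.val h
        have h3 : j ^ 2 ^ 1 = 1 := h2
        rw [pow_one, pow_two, jsq] at h3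
        exact h3
      · show j ^ 2 ^ (1 + 1) = 1
        have e : j ^ 2 ^ (1 + 1) = j * j * (j * j) := by
          rw [show 2 ^ (1 + 1) = 2 + 2 from rfl, pow_add, pow_two]
        rw [e, jsq, z2]
    rw [h1]
    norm_num
  · intro g hg1 hg2
    have e1 : (g : L) * x = x * g := congrArg Subtype.val hg1
    have e2 : (g : L) * (j * j) = (j * j) * g := congrArg Subtype.val hg2
    rw [jsq] at e2
    obtain ⟨k, l, m, h⟩ := hcent g g.2 (by rw [e2, mul_inv_cancel_right]) e1
    refine ⟨k, 2 * l + m, Subtype.ext ?_⟩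
    show (g : L) = x ^ k * j ^ (2 * l + m)
    rw [h, pow_add, pow_mul, pow_two, jsq, mul_assoc]
  · rw [card_cent_aux hTH hx, h50 _ oxT]
  · rintro ⟨g, hg⟩ h
    obtain ⟨y, -, hy⟩ := h
    show g ∈ T
    rw [← (show (y : L) = g from hy)]
    exact y.2
  · rw [Nat.card_congr (Subgroup.subgroupOfEquivOfLe hmap).toEquiv, ← hP1]
    exact (Nat.card_congr (P.equivMapOfInjective _ T.subtype_injective).toEquiv).symm
  · rintro ⟨g, hg⟩ ⟨y, hy, hyg⟩ hne
    have hy1 : y ≠ 1 := by
      intro h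
      apply hne
      apply Subtype.ext
      have h3 : (y : L) = g := hyg
      show g = 1
      rw [← h3, h]
      rfl
    obtain ⟨t, ht⟩ := hP3 ⟨x, hx⟩ y oxT (hP2 y hy hy1)
    refine ⟨⟨t, hTH t.2⟩, t.2, Subtype.ext ?_⟩
    show (t : L) * x * (t : L)⁻¹ = g
    rw [← (show (y : L) = g from hyg), ← ht]
    rfl

end abstract

/-- **The local data of `²F₄(2)` at the prime five.** -/
theorem loc : ∃ (P : Subgroup ↥HT) (x j r : ↥HT), Loc (TT.subgroupOf HT) P x j r := by
  exact loc_aux (L := LL) (T := TT) (H := HT) (x := xf) (j := jf) (s := sf) (z := z) (fun _ h => TT_le h) relIndex_TT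
    xf_mem_TT jf_mem_HT jf_not_mem sf_mem_TT xf_pow5 xf_ne jf_sq
    z_ne z_sq jf_comm_xf sf_conj (by
      unfold sf
      rw [← mul_assoc jf yb jf, jf_comm_yb]) (fun p hp hz hx => cent_xf (mem_Pz.2 ⟨hp, hz⟩) hx)
    Row.out_TT.cent five_TT

end Cfsg.Agent.H345.TiT2
end

-- part: H345/TiT2/Iso
section
set_option linter.all false
open scoped Cfsg.Agent.FastGrp

/-!
# An extension of the Tits group by a group of order two is `²F₄(2)` (helper345, for S4819 / S4820)

`exists_iso` : `S` normal of index 2 in `H`, `C_H(S) = 1`, `S` the Tits group, then there is an isomorphism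
`H ≃* HT` with `S` going to `TT`.
-/

set_option autoImplicit false

namespace Cfsg.Agent.H345.TiT2

open Subgroup Cfsg.Agent.TitsK
open Cfsg.Agent.FourTwo.Base (LL)

universe u v

/-- An injective homomorphism to the automorphism group, compatible with an isomorphism of the normal subgroups. -/
theorem iso_aux {H : Type u} [Group H] [Finite H] {S : Subgroup H} (hn : S.Normal) (hi : S.index = 2)
    (hc : centralizer (S : Set H) = ⊥) {L : Type v} [Group L] [Finite L] (D : TData L) (e0 : ↥S ≃* ↥D.T) :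
    ∃ e : H ≃* ↥D.H, S.map e.toMonoidHom = D.T.subgroupOf D.H := by
  -- the homomorphism `H → Aut(T)`
  let φ : H →* MulAut ↥D.T := ((MulAut.congr e0).toMonoidHom).comp (MulAut.conjNormal (H := S))
  have hφ : ∀ (h : H) (t : ↥D.T), φ h t = e0 (MulAut.conjNormal h (e0.symm t)) := fun h t => rfl
  have hφinj : Function.Injective φ := by
    rw [injective_iff_map_eq_one]
    intro h h1
    have h2 : h ∈ centralizer (S : Set H) := by
      rw [mem_centralizer_iff]
      intro s hs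
      have h3 := hφ h (e0 ⟨s, hs⟩)
      rw [h1, MulAut.one_apply, e0.symm_apply_apply] at h3
      have h4 := congrArg Subtype.val (e0.injective h3)
      rw [MulAut.conjNormal_apply] at h4
      have h5 : s = h * s * h⁻¹ := h4
      calc s * h = h * s * h⁻¹ * h := by rw [← h5]
        _ = h * s := by group
    rw [hc] at h2
    exact mem_bot.1 h2
  have hΦinj : Function.Injective D.PhiT := by
    rw [injective_iff_map_eq_one]
    intro h h1
    apply Subtype.ext
    refine D.cent_T h.2 fun t ht => ?_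
    have h2 := D.PhiT_apply h ⟨t, ht⟩
    rw [h1, MulAut.one_apply] at h2
    have h3 : t = h * t * (h : L)⁻¹ := h2
    calc (h : L) * t = h * t * (h : L)⁻¹ * h := by group
      _ = t * h := by rw [← h3]
  let Φ : ↥D.H ≃* MulAut ↥D.T := MulEquiv.ofBijective D.PhiT ⟨hΦinj, D.PhiT_surjective⟩
  let f : H →* ↥D.H := Φ.symm.toMonoidHom.comp φ
  have hf : ∀ h : H, D.PhiT (f h) = φ h := fun h => Φ.apply_symm_apply (φ h)
  have hfinj : Function.Injective f := Φ.symm.injective.comp hφinj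
  have hcard : Nat.card H = Nat.card ↥D.H := by
    have h1 := S.card_mul_index
    have h2 := (D.T.subgroupOf D.H).card_mul_index
    have h3 : (D.T.subgroupOf D.H).index = 2 := D.relIndex_T
    rw [hi] at h1
    rw [h3, Nat.card_congr (Subgroup.subgroupOfEquivOfLe D.T_le).toEquiv] at h2
    rw [← h1, ← h2, Nat.card_congr e0.toEquiv]
  have hfbij : Function.Bijective f := (Nat.bijective_iff_injective_and_card f).2 ⟨hfinj, hcard⟩
  refine ⟨MulEquiv.ofBijective f hfbij, ?_⟩
  -- the image of `S`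
  have hS : ∀ s (hs : s ∈ S), (f s : L) = e0 ⟨s, hs⟩ := by
    intro s hs
    have h1 : f s = (⟨e0 ⟨s, hs⟩, D.T_le (e0 ⟨s, hs⟩).2⟩ : ↥D.H) := by
      apply hΦinj
      rw [hf, D.PhiT_inn _ (e0 ⟨s, hs⟩).2]
      ext t
      rw [hφ, MulAut.conj_apply]
      have h2 : MulAut.conjNormal s (e0.symm t) = (⟨s, hs⟩ : ↥S) * e0.symm t * (⟨s, hs⟩ : ↥S)⁻¹ := by
        apply Subtype.ext
        rw [MulAut.conjNormal_apply]
        rfl
      rw [h2, map_mul, map_mul, map_inv, e0.apply_symm_apply]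
    rw [h1]
  apply Subgroup.eq_of_le_of_card_ge
  · rintro _ ⟨s, hs, rfl⟩
    show (f s : L) ∈ D.T
    rw [hS s hs]
    exact (e0 ⟨s, hs⟩).2
  · apply le_of_eq
    rw [Nat.card_congr (Subgroup.subgroupOfEquivOfLe D.T_le).toEquiv, ← Nat.card_congr e0.toEquiv]
    exact Nat.card_congr (S.equivMapOfInjective _ (MulEquiv.injective _)).toEquiv

/-- **`H = T.2 = ²F₄(2)`** -/
theorem exists_iso {H : Type u} [Group H] [Finite H] {S : Subgroup H} (hn : S.Normal) (hi : S.index = 2)
    (hc : centralizer (S : Set H) = ⊥) (hS : Cfsg.Lie.IsoTits ↥S) :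
    ∃ e : H ≃* ↥HT, S.map e.toMonoidHom = TT.subgroupOf HT := by
  obtain ⟨e0⟩ := Cfsg.Agent.CpAutTits.Row.exists_equiv hS
  have hfin : Finite LL := by infer_instance
  exact iso_aux hn hi hc tdata e0

end Cfsg.Agent.H345.TiT2
end

-- part: H345/TiT2/Ext27
section
set_option linter.all false
open scoped Cfsg.Agent.FastGrp

/-!
# The character of degree 27 of the Tits group extends to `²F₄(2)` (helper345, for S4819 / S4820)

`h27` : an irreducible character of `HT` of degree 27 whose restriction to `TT.subgroupOf HT` is irreducible.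
-/

set_option autoImplicit false

namespace Cfsg.Agent.H345.TiT2

open Subgroup Cfsg Cfsg.Agent.TitsK Cfsg.Agent.H29.TitsMat Cfsg.Agent.H29.TitsHom
  Cfsg.Agent.H29.TitsExt

universe u

theorem isoTits_of_eq {K : Subgroup (GL Cfsg.Agent.ChevalleyStructure.Tits.Mat.I52 (ZMod 2))}
    (hK : K = Cfsg.Lie.twistedF4 (ZMod 2) 1) : Cfsg.Lie.IsoTits ↥(commutator K) := by
  subst hK
  exact ⟨MulEquiv.refl _⟩

open Cfsg.Agent.ChevalleyStructure.Tits.Main Cfsg.Agent.ChevalleyStructure.Tits.Order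
  Cfsg.Agent.ChevalleyStructure.Tits.Final Cfsg.Agent.ChevalleyStructure.Tits.Sat in
/-- **The character of degree 27 extends.** -/
theorem h27 : ∃ ψ : IrrCharacter ↥HT,
    IsIrrCharacter (TT.subgroupOf HT) (fun n : TT.subgroupOf HT => (ψ : ↥HT → ℂ) n) ∧ (ψ : ↥HT → ℂ) 1 = 27 := by
  have := Omega.TwoF.TitsAut.fin_H0
  have hinj : Function.Injective (MulAut.conjNormal : H0 →* MulAut (commutator H0)) :=
    Omega.TwoF.TitsAut.conj_injective Sat_yH gen_yH card_H0 card_V_yH (yH_ne_one (by norm_num))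
      Omega.TwoF.TitsAut.yH7_sq core H0_result.2.2.1
  have hc : centralizer ((commutator H0 : Subgroup H0) : Set H0) = ⊥ := by
    rw [eq_bot_iff]
    intro g hg
    rw [mem_bot]
    apply hinj
    rw [map_one]
    ext t
    rw [MulAut.conjNormal_apply, MulAut.one_apply]
    have h1 := (mem_centralizer_iff.1 hg) t t.2
    rw [← h1]
    group
  obtain ⟨e, he⟩ := exists_iso (H := H0) (S := commutator H0) inferInstance H0_result.1 hc
    (isoTits_of_eq T0_eq_H0.symm)
  obtain ⟨σ, hσ⟩ := exists_hom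
  have hirr : IsIrrCharacter Cfsg.Agent.H29.TitsHom.T (rep σ).character := ⟨27, rep σ, irreducible_rep hσ, rfl⟩
  have hcyc : IsCyclic (H0 ⧸ commutator H0) := by
    have : Fact (Nat.Prime 2) := ⟨Nat.prime_two⟩
    exact isCyclic_of_prime_card (p := 2) H0_result.1
  obtain ⟨χ, hχ, hχσ⟩ := S0886.result (commutator H0) hcyc _ hirr (fun g n => by
    rw [character_rep, character_rep]
    exact invariant hσ g n)
  have hψ : IsIrrCharacter ↥HT (χ ∘ e.symm.toMonoidHom) :=
    Characters.Core.isIrr_comp _ e.symm.surjective hχ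
  refine ⟨⟨χ ∘ e.symm.toMonoidHom, hψ⟩, ?_, ?_⟩
  · -- the restriction
    have hmem : ∀ n : TT.subgroupOf HT, e.symm (n : ↥HT) ∈ commutator H0 := by
      intro n
      have h1 : (n : ↥HT) ∈ (commutator H0).map e.toMonoidHom := by rw [he]; exact n.2
      obtain ⟨s, hs, hs'⟩ := h1
      have h2 : e.symm (n : ↥HT) = s := by
        rw [← hs']
        exact e.symm_apply_apply s
      rw [h2]
      exact hs
    let f : TT.subgroupOf HT →* Cfsg.Agent.H29.TitsHom.T :=
      (e.symm.toMonoidHom.comp (TT.subgroupOf HT).subtype).codRestrict (commutator H0) hmem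
    have hf : Function.Surjective f := by
      rintro ⟨s, hs⟩
      have h1 : e s ∈ TT.subgroupOf HT := by
        rw [← he]
        exact ⟨s, hs, rfl⟩
      refine ⟨⟨e s, h1⟩, ?_⟩
      apply Subtype.ext
      exact e.symm_apply_apply s
    have h1 : (fun n : TT.subgroupOf HT => (χ ∘ e.symm.toMonoidHom) n) = (rep σ).character ∘ f := by
      funext n
      exact hχσ (f n)
    show IsIrrCharacter (TT.subgroupOf HT) (fun n : TT.subgroupOf HT => (χ ∘ e.symm.toMonoidHom) n)
    rw [h1]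
    exact Characters.Core.isIrr_comp _ hf hirr
  · show χ (e.symm 1) = 27
    have h1 := hχσ 1
    rw [Subgroup.coe_one] at h1
    rw [map_one, h1, character_rep, map_one, Units.val_one, Matrix.trace_one, Fintype.card_fin]
    norm_num

end Cfsg.Agent.H345.TiT2
end

-- part: H423/TI/Facts
section
prune_inst 0x4010000
set_option linter.all false
open scoped Cfsg.Agent.FastGrp

/-!
# S4819, S4820, row `PSL₃(4)`: local facts on `PSL₃(4)` (helper423)

`SF S` : `|S| = 20160`; the subgroups of order 9 are elementary abelian and contain the centralizers of their nontrivial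
elements; the elements of order 3 are conjugate; no elements of order 8.
-/

set_option autoImplicit false

namespace Cfsg.Agent.H423.TI

open Subgroup Cfsg
open Cfsg.Agent.SporadicA.FieldFour Cfsg.Agent.ONType.Psl Cfsg.Agent.ONType.PslCard
open Cfsg.Agent.CpAut.SmallP.PslFour (finite_PSL3)

universe u

/-- the local facts on `PSL₃(4)` -/
structure SF (S : Type u) [Group S] : Prop where
  card : Nat.card S = 20160
  nine : ∀ Q : Subgroup S, Nat.card Q = 9 → (∀ y ∈ Q, y ^ 3 = 1) ∧ ∀ y ∈ Q, y ≠ 1 → ∀ g : S, g * y = y * g → g ∈ Q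
  conj : ∀ x y : S, x ≠ 1 → y ≠ 1 → x ^ 3 = 1 → y ^ 3 = 1 → IsConj x y
  four : ∀ g : S, g ^ 8 = 1 → g ^ 4 = 1

/-! ### the model -/

theorem cent_H : centralizer ({(QuotientGroup.mk H : PSL3)} : Set PSL3) = H326.Four.E := by
  have hf := finite_PSL3
  symm
  apply Subgroup.eq_of_le_of_card_ge
  · rintro _ ⟨i, j, rfl⟩
    rw [mem_centralizer_singleton_iff]
    have h1 : (QuotientGroup.mk H : PSL3) = H326.Four.eE 1 0 := by
      show (QuotientGroup.mk H : PSL3) = (QuotientGroup.mk (H ^ 1 * H326.Four.B ^ 0) : PSL3)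
      rw [pow_one, pow_zero, mul_one]
    rw [h1, H326.Four.eE_mul, H326.Four.eE_mul, add_comm i, add_comm j]
  · rw [H326.Four.card_E]
    exact Nat.le_of_dvd (by norm_num) (BpSpor.LFour.card_three H326.Four.order_H)

theorem cent_conj {x g : PSL3} (h : g * (QuotientGroup.mk H : PSL3) * g⁻¹ = x) :
    centralizer ({x} : Set PSL3) = (H326.Four.E).map (MulAut.conj g).toMonoidHom := by
  rw [← cent_H]
  ext c
  rw [mem_centralizer_singleton_iff, mem_map]
  constructor
  · intro hc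
    refine ⟨g⁻¹ * c * g, ?_, ?_⟩
    · rw [mem_centralizer_singleton_iff]
      have h2 : (QuotientGroup.mk H : PSL3) = g⁻¹ * x * g := by rw [← h]; group
      rw [h2]
      calc g⁻¹ * c * g * (g⁻¹ * x * g) = g⁻¹ * (c * x) * g := by group
        _ = g⁻¹ * (x * c) * g := by rw [hc]
        _ = g⁻¹ * x * g * (g⁻¹ * c * g) := by group
    · show g * (g⁻¹ * c * g) * g⁻¹ = c
      group
  · rintro ⟨d, hd, rfl⟩
    rw [mem_centralizer_singleton_iff] at hd
    show g * d * g⁻¹ * x = x * (g * d * g⁻¹)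
    rw [← h]
    calc g * d * g⁻¹ * (g * (QuotientGroup.mk H : PSL3) * g⁻¹) = g * (d * (QuotientGroup.mk H : PSL3)) * g⁻¹ := by group
      _ = g * ((QuotientGroup.mk H : PSL3) * d) * g⁻¹ := by rw [hd]
      _ = _ := by group

theorem card_cent_three {x : PSL3} (hx : orderOf x = 3) : Nat.card (centralizer ({x} : Set PSL3)) = 9 := by
  obtain ⟨g, hg⟩ := isConj_iff.1 (H326.Four.conj_H hx)
  rw [cent_conj hg, card_map_of_injective (MulAut.conj g).injective, H326.Four.card_E]

theorem cube_cent {x y : PSL3} (hx : orderOf x = 3) (hy : y ∈ centralizer ({x} : Set PSL3)) : y ^ 3 = 1 := by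
  obtain ⟨g, hg⟩ := isConj_iff.1 (H326.Four.conj_H hx)
  rw [cent_conj hg] at hy
  obtain ⟨e, he, rfl⟩ := hy
  show (g * e * g⁻¹) ^ 3 = 1
  rw [conj_pow]
  have h1 : e ^ 3 = 1 := by
    by_cases h2 : e = 1
    · rw [h2, one_pow]
    · have h3 := pow_orderOf_eq_one e
      rw [H326.Four.order_of_mem he h2] at h3
      exact h3
  rw [h1]
  group

theorem orderOf_three {G : Type*} [Group G] {x : G} (h1 : x ≠ 1) (h3 : x ^ 3 = 1) : orderOf x = 3 := by
  have : Fact (Nat.Prime 3) := ⟨Nat.prime_three⟩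
  exact orderOf_eq_prime h3 h1

theorem nine_model (Q : Subgroup PSL3) (hQ : Nat.card Q = 9) :
    (∀ y ∈ Q, y ^ 3 = 1) ∧ ∀ y ∈ Q, y ≠ 1 → ∀ g : PSL3, g * y = y * g → g ∈ Q := by
  have hf := finite_PSL3
  have : Fact (Nat.Prime 3) := ⟨Nat.prime_three⟩
  have hcomm : ∀ a ∈ Q, ∀ b ∈ Q, a * b = b * a := by
    intro a ha b hb
    have h1 := IsPGroup.isMulCommutative_of_card_eq_prime_sq (p := 3) (G := Q) (by rw [hQ]; norm_num)
    exact congrArg Subtype.val (h1.is_comm.comm (⟨a, ha⟩ : Q) ⟨b, hb⟩)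
  -- an element of order three
  obtain ⟨y0, hy0⟩ := exists_prime_orderOf_dvd_card' (G := Q) 3 (by rw [hQ]; norm_num)
  have hy : orderOf (y0 : PSL3) = 3 := by rw [Subgroup.orderOf_coe, hy0]
  have heq : ∀ y ∈ Q, orderOf y = 3 → Q = centralizer ({y} : Set PSL3) := by
    intro y hyQ hy3
    apply Subgroup.eq_of_le_of_card_ge
    · intro a ha
      rw [mem_centralizer_singleton_iff]
      exact hcomm a ha y hyQ
    · rw [card_cent_three hy3, hQ]
  have hcube : ∀ y ∈ Q, y ^ 3 = 1 := by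
    intro y hyQ
    rw [heq _ y0.2 hy] at hyQ
    exact cube_cent hy hyQ
  refine ⟨hcube, fun y hyQ hy1 g hg => ?_⟩
  rw [heq y hyQ (orderOf_three hy1 (hcube y hyQ)), mem_centralizer_singleton_iff]
  exact hg

theorem sf {S : Type u} [Group S] (h : ∃ (F : Type) (_ : Field F) (_ : Fintype F), Fintype.card F = 4 ∧
    Nonempty (S ≃* Matrix.ProjectiveSpecialLinearGroup (Fin 3) F)) : SF S := by
  obtain ⟨F, _, _, hF, ⟨e0⟩⟩ := h
  obtain ⟨f⟩ := nonempty_psl_equiv (n := Fin 3) F hF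
  let e : S ≃* PSL3 := e0.trans f.symm
  refine ⟨?_, ?_, ?_, ?_⟩
  · rw [Nat.card_congr e.toEquiv, card_PSL3]
  · intro Q hQ
    have hQ' : Nat.card (Q.map e.toMonoidHom) = 9 := by
      rw [card_map_of_injective e.injective, hQ]
    obtain ⟨h1, h2⟩ := nine_model _ hQ'
    refine ⟨fun y hy => ?_, fun y hy hy1 g hg => ?_⟩
    · apply e.injective
      rw [map_pow, map_one]
      exact h1 _ (mem_map_of_mem _ hy)
    · have h3 := h2 (e y) (mem_map_of_mem _ hy) (fun h => hy1 (e.injective (by rw [h, map_one]))) (e g)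
        (by rw [← map_mul, hg, map_mul])
      obtain ⟨q, hq, hqg⟩ := mem_map.1 h3
      have : q = g := e.injective hqg
      rwa [← this]
  · intro x y hx hy hx3 hy3
    have key : ∀ x : S, x ≠ 1 → x ^ 3 = 1 → orderOf (e x) = 3 := by
      intro x hx hx3
      rw [MulEquiv.orderOf_eq, orderOf_three hx hx3]
    obtain ⟨g, hg⟩ := isConj_iff.1 (H326.Four.conj_three (key x hx hx3) (key y hy hy3))
    refine isConj_iff.2 ⟨e.symm g, e.injective ?_⟩
    rw [map_mul, map_mul, map_inv, e.apply_symm_apply, hg]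
  · intro g hg
    have : Fact (Nat.Prime 2) := ⟨Nat.prime_two⟩
    have hc : CharP F 2 := charP_of_card_eq_prime_pow (p := 2) (f := 2) (by rw [hF]; norm_num)
    have h1 : orderOf (e0 g) ∈ Set.range (orderOf : Matrix.ProjectiveSpecialLinearGroup (Fin 3) F → ℕ) := ⟨_, rfl⟩
    rw [Cfsg.Agent.S2476.result 2, hF, MulEquiv.orderOf_eq] at h1
    have h8 : orderOf g ∣ 8 := orderOf_dvd_of_pow_eq_one hg
    have h4 : orderOf g ∣ 4 := by
      have e1 : (4 ^ 2 + 4 + 1) / Nat.gcd 3 (4 - 1) = 7 := by norm_num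
      have e2 : (4 ^ 2 - 1) / Nat.gcd 3 (4 - 1) = 5 := by norm_num
      have e3 : 2 * (4 - 1) / Nat.gcd 3 (4 - 1) = 2 := by norm_num
      rcases h1 with h1 | h1 | h1 | h1 | ⟨-, h1⟩
      · rw [e1] at h1
        have := Nat.dvd_gcd h8 h1
        exact this.trans (by norm_num)
      · rw [e2] at h1
        have := Nat.dvd_gcd h8 h1
        exact this.trans (by norm_num)
      · have := Nat.dvd_gcd h8 h1
        exact this.trans (by norm_num)
      · rw [e3] at h1
        exact h1.trans (by norm_num)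
      · exact h1
    exact orderOf_dvd_iff_pow_eq_one.1 h4

end Cfsg.Agent.H423.TI
end

-- part: H608/TI/BlkTool
section
set_option linter.all false
open scoped Cfsg.Agent.FastGrp

/-!
# Tools for the block part of the rows with `G / K E` abelian

* `exists_cprime`: the `p'`-elements of `C(P)`, `P` a Sylow subgroup, form a subgroup;
* `exists_lin`: two characters of `C ≤ G` over the same `θ ∈ Irr K` differ by a linear character of `G / L` if `G / L` is
  abelian and `C ∩ L ≤ K`;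
* `induced_tl`: block induction commutes with the multiplication by linear characters.
-/

set_option autoImplicit false
set_option linter.style.haveILetI false
set_option linter.unusedSectionVars false

open Cfsg
open scoped Pointwise ComplexConjugate commutatorElement

namespace Cfsg.Agent.H608.TI

open Cfsg.Agent.H681.TI Cfsg.Agent.H672 Cfsg.Agent.H672.RM Cfsg.Agent.H675.Nd Cfsg.Agent.Characters.Core
open Cfsg.Agent.H666.Clif (tl tl_apply tl_inv_tl tl_tl_inv tl_injective image_tl_blockOf isPBlock_tl sameBlock_tl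
  isIntegral_lin centralChar_tl)

universe u v

section cprime
variable {G : Type u} [Group G] [Finite G] {p : ℕ} [hp : Fact p.Prime]

/-- The `p'`-elements of `C(P)`. -/
theorem exists_cprime (P : Sylow p G) :
    ∃ C : Subgroup G, C ≤ Subgroup.centralizer ((P : Subgroup G) : Set G) ∧ ¬ p ∣ Nat.card C ∧
      ∀ x ∈ Subgroup.centralizer ((P : Subgroup G) : Set G), ¬ p ∣ orderOf x → x ∈ C := by
  set Z := Subgroup.centralizer ((P : Subgroup G) : Set G) with hZ
  let Q : Subgroup Z := (P : Subgroup G).subgroupOf Z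
  have hQc : ∀ q ∈ Q, ∀ z : Z, q * z = z * q := fun q hq z =>
    Subtype.ext (Subgroup.mem_centralizer_iff.1 z.2 q (Subgroup.mem_subgroupOf.1 hq))
  haveI hQn : Q.Normal := ⟨fun q hq z => by
    rw [← hQc q hq z, mul_inv_cancel_right]; exact hq⟩
  obtain ⟨R, hR⟩ := (P.2.comap_subtype (K := Z)).exists_le_sylow
  have hRQ : (R : Subgroup Z) ≤ Q := by
    intro r hr
    rw [Subgroup.mem_subgroupOf]
    obtain ⟨k, hk⟩ := (IsPGroup.iff_orderOf.1 R.2) ⟨r, hr⟩
    have hk' : orderOf (r : G) = p ^ k := by rw [← hk, Subgroup.orderOf_mk, Subgroup.orderOf_coe]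
    exact mem_of_normalizer P ⟨k, hk'⟩ (Subgroup.centralizer_le_normalizer _ r.2)
  have hQR : Q = R := le_antisymm hR hRQ
  have hidx : ¬ p ∣ Q.index := by rw [hQR]; exact R.not_dvd_index
  have hcop : Nat.Coprime (Nat.card Q) Q.index := by
    rw [hQR]; exact R.card_coprime_index
  obtain ⟨H, hH⟩ := Subgroup.exists_right_complement'_of_coprime hcop
  have hHc : Nat.card H = Q.index := hH.symm.index_eq_card.symm
  refine ⟨H.map Z.subtype, ?_, ?_, ?_⟩
  · rintro _ ⟨z, -, rfl⟩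
    exact z.2
  · rw [Subgroup.card_map_of_injective (Subgroup.subtype_injective _), hHc]
    exact hidx
  · intro x hx hxo
    obtain ⟨⟨q, h⟩, he⟩ := hH.2 ⟨x, hx⟩
    have he' : (q : Z) * h = ⟨x, hx⟩ := he
    have hcq : Commute (q : Z) (h : Z) := hQc q q.2 h
    set m := orderOf x * Nat.card H with hm
    have hpm : ¬ p ∣ m := by
      intro hd
      rcases hp.out.dvd_mul.1 hd with h1 | h1
      · exact hxo h1
      · rw [hHc] at h1; exact hidx h1
    have h1 : (⟨x, hx⟩ : Z) ^ m = 1 := by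
      apply Subtype.ext
      change x ^ m = 1
      rw [hm, pow_mul, pow_orderOf_eq_one, one_pow]
    have h2 : (h : Z) ^ m = 1 := by
      rw [hm, mul_comm, pow_mul]
      have : (h : Z) ^ Nat.card H = 1 := congrArg Subtype.val (pow_card_eq_one' (x := h))
      rw [this, one_pow]
    have h3 : (q : Z) ^ m = 1 := by
      rw [← he', hcq.mul_pow, h2, mul_one] at h1
      exact h1
    have hqP : ((q : Z) : G) ∈ (P : Subgroup G) := Subgroup.mem_subgroupOf.1 q.2
    obtain ⟨k, hk⟩ := P.2 ⟨_, hqP⟩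
    have hk' : (q : Z) ^ p ^ k = 1 := by
      have h8 : ((q : Z) : G) ^ p ^ k = 1 := congrArg Subtype.val hk
      apply Subtype.ext
      rw [SubmonoidClass.coe_pow]
      exact h8
    have h4 : orderOf (q : Z) ∣ m := orderOf_dvd_of_pow_eq_one h3
    have h5 : orderOf (q : Z) ∣ p ^ k := orderOf_dvd_of_pow_eq_one hk'
    have h6 : Nat.Coprime (p ^ k) m := Nat.Coprime.pow_left _ ((Nat.Prime.coprime_iff_not_dvd hp.out).2 hpm)
    have h7 : (q : Z) = 1 := orderOf_eq_one_iff.1 (Nat.eq_one_of_dvd_coprimes h6 h5 h4)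
    rw [h7, one_mul] at he'
    exact ⟨h, h.2, congrArg Subtype.val he'⟩

end cprime

section dual
variable {G : Type u} [Group G] [Finite G]

theorem finite_lin (X : Type v) [Group X] [Finite X] : Finite (X →* ℂˣ) := by
  haveI : NeZero (Nat.card X) := ⟨Nat.card_pos.ne'⟩
  let f : (X →* ℂˣ) → (X → rootsOfUnity (Nat.card X) ℂ) := fun d x =>
    ⟨d x, by rw [mem_rootsOfUnity, ← map_pow, pow_card_eq_one', map_one]⟩
  have hf : Function.Injective f := by
    intro d d' h
    ext x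
    have h1 := congrArg Subtype.val (congrFun h x)
    exact congrArg Units.val h1
  exact Finite.of_injective f hf

/-- linear characters of `G / L` separate -/
theorem exists_lin_sep (L : Subgroup G) [L.Normal] (hab : ∀ x y : G, ⁅x, y⁆ ∈ L) {x : G} (hx : x ∉ L) :
    ∃ l : G →* ℂˣ, (∀ y ∈ L, l y = 1) ∧ l x ≠ 1 := by
  have h1 : (x : G ⧸ L) ∉ commutator (G ⧸ L) := by
    intro h
    have h2 : commutator (G ⧸ L) = ⊥ := by
      rw [eq_bot_iff, _root_.commutator_def, Subgroup.commutator_le]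
      intro a _ b _
      obtain ⟨a, rfl⟩ := QuotientGroup.mk_surjective a
      obtain ⟨b, rfl⟩ := QuotientGroup.mk_surjective b
      rw [Subgroup.mem_bot]
      have h3 : ⁅(a : G ⧸ L), (b : G ⧸ L)⁆ = ((⁅a, b⁆ : G) : G ⧸ L) := rfl
      rw [h3, QuotientGroup.eq_one_iff]
      exact hab a b
    rw [h2, Subgroup.mem_bot, QuotientGroup.eq_one_iff] at h
    exact hx h
  obtain ⟨f, hf⟩ := Cfsg.Agent.H597.Norm.exists_hom_ne_one h1
  refine ⟨f.comp (QuotientGroup.mk' L), fun y hy => ?_, hf⟩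
  rw [MonoidHom.comp_apply]
  have : QuotientGroup.mk' L y = 1 := (QuotientGroup.eq_one_iff y).2 hy
  rw [this, map_one]

/-- the linear characters of `G / L` -/
def Lin (L : Subgroup G) : Subgroup (G →* ℂˣ) where
  carrier := {l | ∀ y ∈ L, l y = 1}
  one_mem' := fun _ _ => rfl
  mul_mem' := by
    intro a b ha hb y hy
    rw [MonoidHom.mul_apply, ha y hy, hb y hy, one_mul]
  inv_mem' := by
    intro a ha y hy
    rw [MonoidHom.inv_apply, ha y hy, inv_one]

/-- orthogonality -/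
theorem sum_lin (L : Subgroup G) [L.Normal] (hab : ∀ x y : G, ⁅x, y⁆ ∈ L) [Fintype (Lin L)] {x : G} (hx : x ∉ L) :
    ∑ l : Lin L, ((l : G →* ℂˣ) x : ℂ) = 0 := by
  obtain ⟨l₀, h1, h2⟩ := exists_lin_sep L hab hx
  let d : Lin L := ⟨l₀, h1⟩
  have h3 : ∑ l : Lin L, ((l : G →* ℂˣ) x : ℂ) = (l₀ x : ℂ) * ∑ l : Lin L, ((l : G →* ℂˣ) x : ℂ) := by
    rw [Finset.mul_sum]
    symm
    refine Fintype.sum_equiv (Equiv.mulLeft d) _ _ fun l => ?_
    change (l₀ x : ℂ) * ((l : G →* ℂˣ) x : ℂ) = (((d * l : Lin L) : G →* ℂˣ) x : ℂ)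
    rw [Subgroup.coe_mul, MonoidHom.mul_apply, Units.val_mul]
  have h4 : (1 - (l₀ x : ℂ)) * ∑ l : Lin L, ((l : G →* ℂˣ) x : ℂ) = 0 := by
    rw [sub_mul, one_mul, ← h3, sub_self]
  refine (mul_eq_zero.1 h4).resolve_left fun h5 => h2 ?_
  apply Units.ext
  rw [Units.val_one]
  exact (sub_eq_zero.1 h5).symm

theorem norm_lin {X : Type v} [Group X] [Finite X] (l : X →* ℂˣ) (x : X) : (l x : ℂ) * conj (l x : ℂ) = 1 := by
  have h1 : (l x : ℂ) ^ Nat.card X = 1 := by
    rw [← Units.val_pow_eq_pow_val, ← map_pow, pow_card_eq_one', map_one, Units.val_one]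
  rw [Complex.mul_conj, Complex.normSq_eq_norm_sq, Complex.norm_eq_one_of_pow_eq_one h1 Nat.card_pos.ne']
  simp

/-- Restrictions with a common constituent are not orthogonal. -/
theorem inner_ne_zero' {X : Type v} [Group X] {H : Type u} [Group H] [Fintype H] (f : H →* X) {φ φ' : X → ℂ}
    (hφ : IsCharacter X φ) (hφ' : IsCharacter X φ') {θ : H → ℂ} (hθ : IsIrrCharacter H θ) (h : Over f φ θ)
    (h' : Over f φ' θ) : classInner (φ' ∘ f) (φ ∘ f) ≠ 0 := by
  classical
  have := finite_irr (G := H)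
  have := Fintype.ofFinite (IrrCharacter H)
  obtain ⟨a, ha, ha'⟩ := CharDeep.CliffordCorr.exists_nat_coeffs (isCharacter_comp f hφ' : IsCharacter H (φ' ∘ f))
  obtain ⟨b, hb, hb'⟩ := CharDeep.CliffordCorr.exists_nat_coeffs (isCharacter_comp f hφ : IsCharacter H (φ ∘ f))
  rw [over_iff] at h h'
  rw [ha' ⟨θ, hθ⟩] at h'
  rw [hb' ⟨θ, hθ⟩] at h
  rw [ha, hb, Characters.Core.classInner_sum_smul_sum_smul]
  have h3 : ∑ η : IrrCharacter H, ((a η : ℂ) * conj (b η : ℂ)) = ((∑ η : IrrCharacter H, a η * b η : ℕ) : ℂ) := by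
    push_cast
    refine Finset.sum_congr rfl fun η _ => ?_
    rw [Complex.conj_natCast]
  rw [h3]
  norm_cast at h h' ⊢
  intro h0
  have h4 := Finset.sum_eq_zero_iff.1 h0 ⟨θ, hθ⟩ (Finset.mem_univ _)
  exact (mul_ne_zero h' h) h4

/-- **Characters of `C` over the same character of `K` differ by a linear character of `G / L`.** -/
theorem exists_lin (L : Subgroup G) [L.Normal] (hab : ∀ x y : G, ⁅x, y⁆ ∈ L) {K C : Subgroup G} (hKC : K ≤ C)
    (hKL : K ≤ L) (hCL : ∀ x ∈ C, x ∈ L → x ∈ K) {θ : K → ℂ} (hθ : IsIrrCharacter K θ) {φ φ' : C → ℂ}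
    (hφ : IsIrrCharacter C φ) (hφ' : IsIrrCharacter C φ') (h : Over (Subgroup.inclusion hKC) φ θ)
    (h' : Over (Subgroup.inclusion hKC) φ' θ) :
    ∃ l : G →* ℂˣ, (∀ y ∈ L, l y = 1) ∧ ∀ c : C, φ' c = (l c : ℂ) * φ c := by
  classical
  letI := Fintype.ofFinite G
  letI := Fintype.ofFinite C
  letI := Fintype.ofFinite K
  haveI := finite_lin G
  letI := Fintype.ofFinite (Lin L)
  by_contra hcon
  push Not at hcon
  have hirr : ∀ l : Lin L, IsIrrCharacter C (fun c => (((l : G →* ℂˣ).comp C.subtype) c : ℂ) * φ c) := fun l =>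
    OddOrderCharacters.AbelianTwist.isIrr_hom_mul ((l : G →* ℂˣ).comp C.subtype) hφ
  have h1 : ∀ l : Lin L, classInner φ' (fun c => (((l : G →* ℂˣ).comp C.subtype) c : ℂ) * φ c) = 0 := by
    intro l
    refine classInner_irr_ne hφ' (hirr l) fun he => ?_
    obtain ⟨c, hc⟩ := hcon l l.2
    exact hc (congrFun he c)
  have h2 : ∑ l : Lin L, classInner φ' (fun c => (((l : G →* ℂˣ).comp C.subtype) c : ℂ) * φ c) = 0 :=
    Finset.sum_eq_zero fun l _ => h1 l
  have h3 : ∀ c : C, ∑ l : Lin L, φ' c * conj ((((l : G →* ℂˣ).comp C.subtype) c : ℂ) * φ c) =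
      if (c : G) ∈ K then (Fintype.card (Lin L) : ℂ) * (φ' c * conj (φ c)) else 0 := by
    intro c
    have h4 : ∀ l : Lin L, φ' c * conj ((((l : G →* ℂˣ).comp C.subtype) c : ℂ) * φ c) =
        conj ((l : G →* ℂˣ) (c : G) : ℂ) * (φ' c * conj (φ c)) := by
      intro l
      rw [map_mul]
      change φ' c * (conj ((l : G →* ℂˣ) (c : G) : ℂ) * conj (φ c)) = _
      ring
    simp only [h4]
    rw [← Finset.sum_mul]
    split_ifs with hc
    · have h5 : ∀ l : Lin L, conj ((l : G →* ℂˣ) (c : G) : ℂ) = 1 := by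
        intro l
        rw [l.2 c (hKL hc), Units.val_one, map_one]
      simp only [h5]
      rw [Finset.sum_const, Finset.card_univ, nsmul_eq_mul, mul_one]
    · have h5 : (c : G) ∉ L := fun hL => hc (hCL c c.2 hL)
      rw [← map_sum, sum_lin L hab h5, map_zero, zero_mul]
  have h4 : ∑ l : Lin L, classInner φ' (fun c => (((l : G →* ℂˣ).comp C.subtype) c : ℂ) * φ c) =
      (Nat.card C : ℂ)⁻¹ * ((Fintype.card (Lin L) : ℂ) * ∑ k : K, φ' (Subgroup.inclusion hKC k) *
        conj (φ (Subgroup.inclusion hKC k))) := by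
    unfold classInner
    rw [← Finset.mul_sum, Finset.sum_comm, Finset.sum_congr rfl fun g _ => h3 g, ← Finset.sum_filter,
      ← Finset.mul_sum]
    congr 2
    symm
    refine Finset.sum_bij (fun k _ => Subgroup.inclusion hKC k) (fun k _ => ?_) (fun k _ k' _ he => ?_)
      (fun c hc => ?_) (fun k _ => rfl)
    · exact Finset.mem_filter.2 ⟨Finset.mem_univ _, k.2⟩
    · exact Subgroup.inclusion_injective hKC he
    · exact ⟨⟨c, (Finset.mem_filter.1 hc).2⟩, Finset.mem_univ _, rfl⟩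
  rw [h4] at h2
  have h5 : (Nat.card C : ℂ)⁻¹ ≠ 0 := inv_ne_zero (by exact_mod_cast Nat.card_pos.ne')
  have h6 : (Fintype.card (Lin L) : ℂ) ≠ 0 := by exact_mod_cast Fintype.card_ne_zero
  have h7 := (mul_eq_zero.1 ((mul_eq_zero.1 h2).resolve_left h5)).resolve_left h6
  have h8 := inner_ne_zero' (Subgroup.inclusion hKC) (isIrr_isCharacter hφ) (isIrr_isCharacter hφ') hθ h h'
  apply h8
  unfold classInner
  have h9 : ∑ k : K, (φ' ∘ Subgroup.inclusion hKC) k * conj ((φ ∘ Subgroup.inclusion hKC) k) = 0 := h7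
  rw [h9, mul_zero]

end dual

section induced
variable {G : Type u} [Group G] [Finite G] {M : Ideal AlgInt}

/-- **Block induction commutes with linear characters.** -/
theorem induced_tl [hMp : M.IsPrime] (H : Subgroup G) (l : G →* ℂˣ) {b : Set (IrrCharacter H)}
    {B : Set (IrrCharacter G)} (h : IsInducedBlock M H b B) :
    IsInducedBlock M H (tl (l.comp H.subtype) '' b) (tl l '' B) := by
  refine ⟨isPBlock_tl hMp _ h.1, isPBlock_tl hMp _ h.2.1, ?_⟩
  rintro _ ⟨ξ, hξ, rfl⟩ _ ⟨χ, hχ, rfl⟩ g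
  have h1 : inducedCentralChar H (tl (l.comp H.subtype) ξ : H → ℂ) g =
      (l g : ℂ) * inducedCentralChar H (ξ : H → ℂ) g := by
    unfold inducedCentralChar
    rw [mul_finsum_mem]
    refine finsum_mem_congr rfl fun x hx => ?_
    rw [tl_apply, tl_apply, map_one, Units.val_one, one_mul]
    have h2 : l g = l (x : G) := by
      obtain ⟨c, hc⟩ := isConj_iff.1 hx
      rw [← hc, map_mul, map_mul, map_inv, mul_comm (l c), mul_assoc, mul_inv_cancel, mul_one]
    rw [h2]
    change ((l (x : G) : ℂˣ) : ℂ) * (ξ : H → ℂ) x / (ξ : H → ℂ) 1 = _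
    rw [mul_div_assoc]
  rw [h1, centralChar_tl, ← mul_sub]
  exact Blocks.Covering.memLocalIdeal_mul_left hMp (Blocks.Local.memLocalRing_of_isIntegral (isIntegral_lin l g))
    (h.2.2 ξ hξ χ hχ g)

end induced

end Cfsg.Agent.H608.TI
end

-- part: H608/TI/BlkPart
section
prune_inst 0x4010000
set_option linter.all false
open scoped Cfsg.Agent.FastGrp

/-!
# The block part of the rows with `G / K E` abelian (row `PSL₃(4)` of S4819 and S4820)

`P` a TI Sylow `p`-subgroup of `G`, `K` a normal `p'`-subgroup centralised by `P`, `E ≥ P` normal, centralising `K`,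
`G / K E` abelian, `K` contains the `p'`-elements of `C(P) ∩ K E`. The linear characters of `G / K E` permute the blocks
of `N(P)` over `θ ∈ Irr K` transitively, hence also the blocks of `G` with defect group `P` over `θ`.

* `card_eq_of_abelian`: `|B| = |b|` if the number of the characters of `G_θ` over `θ` not of defect zero is the number of
  the characters of `N_{G_θ}(P)` over `θ` for all `θ`.
-/

set_option autoImplicit false
set_option linter.style.haveILetI false
set_option linter.unusedSectionVars false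

open Cfsg
open scoped Pointwise ComplexConjugate commutatorElement

namespace Cfsg.Agent.H608.TI

open Cfsg.Agent.H681.TI Cfsg.Agent.H672 Cfsg.Agent.H672.RM Cfsg.Agent.H675.Nd Cfsg.Agent.Characters.Core
open Cfsg.Agent.H666.Clif (tl tl_apply tl_inv_tl tl_tl_inv tl_injective image_tl_blockOf isPBlock_tl sameBlock_tl
  isIntegral_lin centralChar_tl)

universe u v

theorem over_tl {X : Type u} [Group X] [Finite X] {H : Type v} [Group H] [Finite H] (f : H →* X) (l : X →* ℂˣ)
    {χ : IrrCharacter X} {φ φ' : H → ℂ} (h : Over f (χ : X → ℂ) φ) (hφ' : ∀ x, φ' x = (l (f x) : ℂ) * φ x) :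
    Over f (tl l χ : X → ℂ) φ' := by
  classical
  letI := Fintype.ofFinite H
  rw [over_iff] at h ⊢
  have h1 : classInner ((tl l χ : X → ℂ) ∘ f) φ' = classInner ((χ : X → ℂ) ∘ f) φ := by
    unfold classInner
    congr 1
    refine Finset.sum_congr rfl fun x _ => ?_
    rw [hφ' x, map_mul]
    have h2 := norm_lin l (f x)
    simp only [Function.comp, tl_apply]
    linear_combination ((χ : X → ℂ) (f x) * conj (φ x)) * h2
  rw [h1]; exact h

section main
variable {G : Type u} [Group G] [Finite G] {p : ℕ} [hp : Fact p.Prime] {M : Ideal AlgInt}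

theorem full_N (hM : IsPModular p M) (P : Sylow p G)
    (ξ : IrrCharacter (Subgroup.normalizer ((P : Subgroup G) : Set G))) :
    blockDefect p (blockOf M (ξ : Subgroup.normalizer ((P : Subgroup G) : Set G) → ℂ)) =
      (Nat.card (Subgroup.normalizer ((P : Subgroup G) : Set G))).factorization p := by
  have hb : IsPBlock M (blockOf M (ξ : Subgroup.normalizer ((P : Subgroup G) : Set G) → ℂ)) := ⟨ξ, rfl⟩
  rw [← H592.Defect.factorization_card_defect p hM hb (defect_N hM P hb)]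
  let P' : Sylow p (Subgroup.normalizer ((P : Subgroup G) : Set G)) := P.subtype Subgroup.le_normalizer
  have h1 : Nat.card ((P : Subgroup G).subgroupOf (Subgroup.normalizer ((P : Subgroup G) : Set G))) =
    p ^ (Nat.card (Subgroup.normalizer ((P : Subgroup G) : Set G))).factorization p := P'.card_eq_multiplicity
  rw [h1, hp.out.factorization_pow, Finsupp.single_eq_same]

/-- **The linear characters of `G / K E` permute the blocks of `N(P)` over `θ` transitively.** -/
theorem exists_lin_block (hM : IsPModular p M) (P : Sylow p G) (K : Subgroup G) [hKn : K.Normal]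
    (hK : ¬ p ∣ Nat.card K) (hKC : K ≤ Subgroup.centralizer ((P : Subgroup G) : Set G))
    (E : Subgroup G) [hEn : E.Normal] (hab : ∀ x y : G, ⁅x, y⁆ ∈ K ⊔ E)
    (hC : ∀ x ∈ K ⊔ E, x ∈ Subgroup.centralizer ((P : Subgroup G) : Set G) → ¬ p ∣ orderOf x → x ∈ K)
    {θ : K → ℂ} (hθ : IsIrrCharacter K θ)
    {ξ ξ' : IrrCharacter (Subgroup.normalizer ((P : Subgroup G) : Set G))}
    (h : Over (Subgroup.inclusion (le_nrm hKC)) (ξ : Subgroup.normalizer ((P : Subgroup G) : Set G) → ℂ) θ)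
    (h' : Over (Subgroup.inclusion (le_nrm hKC)) (ξ' : Subgroup.normalizer ((P : Subgroup G) : Set G) → ℂ) θ) :
    ∃ l : G →* ℂˣ, (∀ y ∈ K ⊔ E, l y = 1) ∧
      SameBlock M (tl (l.comp (Subgroup.normalizer ((P : Subgroup G) : Set G)).subtype) ξ :
        Subgroup.normalizer ((P : Subgroup G) : Set G) → ℂ)
        (ξ' : Subgroup.normalizer ((P : Subgroup G) : Set G) → ℂ) := by
  classical
  obtain ⟨C, hCc, hCp, hCall⟩ := exists_cprime P
  let N : Subgroup G := Subgroup.normalizer ((P : Subgroup G) : Set G)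
  have hKC' : K ≤ C := fun k hk => hCall k (hKC hk) fun hd => hK (hd.trans (by
    have := orderOf_dvd_natCard (⟨k, hk⟩ : K)
    rwa [Subgroup.orderOf_mk] at this))
  have hCN : C ≤ N := hCc.trans (Subgroup.centralizer_le_normalizer _)
  have hCo : ∀ x ∈ C, ¬ p ∣ orderOf x := fun x hx hd => hCp (hd.trans (by
    have := orderOf_dvd_natCard (⟨x, hx⟩ : C)
    rwa [Subgroup.orderOf_mk] at this))
  have hCL : ∀ x ∈ C, x ∈ K ⊔ E → x ∈ K := fun x hx hL => hC x hL (hCc hx) (hCo x hx)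
  have hinc : Subgroup.inclusion (le_nrm hKC) = (Subgroup.inclusion hCN).comp (Subgroup.inclusion hKC') := rfl
  rw [hinc] at h h'
  obtain ⟨φ, hφ, h1, h2⟩ := (over_comp_iff (Subgroup.inclusion hCN) (Subgroup.inclusion hKC')
    (isIrr_isCharacter ξ.2) hθ).1 h
  obtain ⟨φ', hφ', h1', h2'⟩ := (over_comp_iff (Subgroup.inclusion hCN) (Subgroup.inclusion hKC')
    (isIrr_isCharacter ξ'.2) hθ).1 h'
  obtain ⟨l, hl, hlφ⟩ := exists_lin (K ⊔ E) hab hKC' le_sup_left hCL hθ hφ hφ' h2 h2'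
  refine ⟨l, hl, ?_⟩
  have h3 : Over (Subgroup.inclusion hCN) (tl (l.comp N.subtype) ξ : N → ℂ) φ' :=
    over_tl (Subgroup.inclusion hCN) (l.comp N.subtype) h1 hlφ
  haveI hCn : (C.subgroupOf N).Normal := by
    constructor
    intro c hc n
    rw [Subgroup.mem_subgroupOf] at hc ⊢
    apply hCall
    · rw [Subgroup.mem_centralizer_iff]
      intro y hy
      have h4 : (n : G)⁻¹ * y * (n : G) ∈ (P : Subgroup G) := by
        have h5 := (Subgroup.mem_normalizer_iff.1 (N.inv_mem n.2) y).1 hy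
        rwa [inv_inv] at h5
      have h5 := Subgroup.mem_centralizer_iff.1 (hCc hc) _ h4
      change y * ((n : G) * c * (n : G)⁻¹) = (n : G) * c * (n : G)⁻¹ * y
      calc y * ((n : G) * c * (n : G)⁻¹) = (n : G) * ((n : G)⁻¹ * y * n * c) * (n : G)⁻¹ := by group
        _ = (n : G) * (c * ((n : G)⁻¹ * y * n)) * (n : G)⁻¹ := by rw [h5]
        _ = _ := by group
    · have h6 : ((n * c * n⁻¹ : N) : G) = MulAut.conj (n : G) (c : G) := rfl
      rw [h6, MulEquiv.orderOf_eq]
      exact hCo _ hc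
  rw [over_iff_sub hCN] at h3 h1'
  refine sameBlock_of_over hM (P.subtype Subgroup.le_normalizer) (C.subgroupOf N) ?_ (isIrr_sub hCN hφ') h3 h1'
    (full_N hM P _) (full_N hM P _)
  intro x hx hxo
  rw [Subgroup.mem_subgroupOf]
  apply hCall
  · rw [Subgroup.mem_centralizer_iff] at hx ⊢
    intro y hy
    exact congrArg Subtype.val (hx ⟨y, Subgroup.le_normalizer hy⟩ (Subgroup.mem_subgroupOf.2 hy))
  · rw [Subgroup.orderOf_coe]; exact hxo

/-- The blocks with defect group `P` over `θ`. -/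
abbrev Tb (p : ℕ) (M : Ideal AlgInt) (P : Subgroup G) {K : Subgroup G} (θ : K → ℂ) : Type u :=
  {B : Bl p M P // ∃ χ ∈ B.1, Over K.subtype (χ : G → ℂ) θ}

theorem Tb.over (hM : IsPModular p M) {P : Subgroup G} {K : Subgroup G} [hKn : K.Normal] (hK : ¬ p ∣ Nat.card K)
    {θ : K → ℂ} (hθ : IsIrrCharacter K θ) (B : Tb p M P θ) {χ : IrrCharacter G} (hχ : χ ∈ B.1.1) :
    Over K.subtype (χ : G → ℂ) θ := by
  have hMp := hM.2.1.isPrime
  obtain ⟨χ', hχ', h⟩ := B.2
  exact over_of_sameBlock hM K hK hθ (Blocks.Basic.isPBlock_sameBlock B.1.2.1 hχ' hχ) h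

/-- `G = N(P) E` -/
theorem frattini (P : Sylow p G) (E : Subgroup G) [hEn : E.Normal] (hPE : (P : Subgroup G) ≤ E) (g : G) :
    ∃ n ∈ Subgroup.normalizer ((P : Subgroup G) : Set G), ∃ e ∈ E, g = n * e := by
  have h1 : g ∈ Subgroup.normalizer ((P : Subgroup G) : Set G) ⊔ E := by
    have h2 : Subgroup.normalizer ((P : Subgroup G) : Set G) ⊔ E = ⊤ := Sylow.normalizer_sup_eq_top' P hPE
    rw [h2]; exact Subgroup.mem_top g
  rw [← SetLike.mem_coe, Subgroup.mul_normal] at h1
  obtain ⟨n, hn, e, he, rfl⟩ := h1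
  exact ⟨n, hn, e, he, rfl⟩

theorem over_br (hM : IsPModular p M) (P : Sylow p G) (K : Subgroup G) [hKn : K.Normal]
    (hK : ¬ p ∣ Nat.card K) (hKC : K ≤ Subgroup.centralizer ((P : Subgroup G) : Set G))
    (E : Subgroup G) [hEn : E.Normal] (hPE : (P : Subgroup G) ≤ E) (hcomm : ∀ k ∈ K, ∀ e ∈ E, k * e = e * k)
    {θ : K → ℂ} (hθ : IsIrrCharacter K θ) (B : Tb p M (P : Subgroup G) θ)
    {ξ : IrrCharacter (Subgroup.normalizer ((P : Subgroup G) : Set G))} (hξ : ξ ∈ br hM P B.1) :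
    Over (Subgroup.inclusion (le_nrm hKC)) (ξ : Subgroup.normalizer ((P : Subgroup G) : Set G) → ℂ) θ := by
  classical
  letI := Fintype.ofFinite G
  letI := Fintype.ofFinite (Subgroup.normalizer ((P : Subgroup G) : Set G))
  letI := Fintype.ofFinite K
  have hKtop : ∀ U : Subgroup G, U ≤ Subgroup.normalizer (K : Set G) := fun U x _ => by
    rw [Subgroup.normalizer_eq_top]; exact Subgroup.mem_top x
  obtain ⟨χ, hχ, h0⟩ := S0934.result p M hM _ _ _ (br_spec hM P B.1) ξ hξ
  obtain ⟨θ', hθ', hξθ'⟩ := exists_under (f := Subgroup.inclusion (le_nrm hKC)) ξ.2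
  have h1 : Over K.subtype (χ : G → ℂ) θ' := by
    have h1 : K.subtype = (Subgroup.normalizer ((P : Subgroup G) : Set G)).subtype.comp
      (Subgroup.inclusion (le_nrm hKC)) := rfl
    rw [h1, over_comp_iff _ _ (isIrr_isCharacter χ.2) hθ']
    refine ⟨ξ, ξ.2, ?_, hξθ'⟩
    rw [over_subtype_iff]
    exact h0
  have h2 : Over K.subtype (χ : G → ℂ) θ := B.over hM hK hθ hχ
  rw [over_subtype_iff] at h1 h2
  obtain ⟨g, hg⟩ := Characters.Clifford.exists_conj_of_constituents K χ.2 hθ' hθ h1 h2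
  have hg' : θ = tw K g θ' := by
    rw [hg]
    funext k
    symm
    exact tw_apply' (hKtop ⊤ (Subgroup.mem_top g)) θ' k _ rfl
  obtain ⟨n, hn, e, he, rfl⟩ := frattini P E hPE g
  have hte : tw K e (tw K n θ') = tw K n θ' := by
    funext k
    refine tw_apply' (hKtop ⊤ (Subgroup.mem_top e)) _ k k ?_
    rw [← hcomm k k.2 e he, mul_inv_cancel_right]
  rw [tw_mul (hKtop ⊤ (Subgroup.mem_top n)) (hKtop ⊤ (Subgroup.mem_top e)), hte] at hg'
  rw [hg', over_tw (le_nrm hKC) (hKtop _) (isIrr_isClassFunction ξ.2) hn]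
  exact hξθ'

theorem mem_Tb (hM : IsPModular p M) (P : Sylow p G) {K : Subgroup G} 
    (hKC : K ≤ Subgroup.centralizer ((P : Subgroup G) : Set G))
    {θ : K → ℂ} (hθ : IsIrrCharacter K θ) (B : Bl p M (P : Subgroup G))
    {ξ : IrrCharacter (Subgroup.normalizer ((P : Subgroup G) : Set G))} (hξ : ξ ∈ br hM P B)
    (h : Over (Subgroup.inclusion (le_nrm hKC)) (ξ : Subgroup.normalizer ((P : Subgroup G) : Set G) → ℂ) θ) :
    ∃ χ ∈ B.1, Over K.subtype (χ : G → ℂ) θ := by
  classical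
  letI := Fintype.ofFinite G
  letI := Fintype.ofFinite (Subgroup.normalizer ((P : Subgroup G) : Set G))
  obtain ⟨χ, hχ, h0⟩ := S0934.result p M hM _ _ _ (br_spec hM P B) ξ hξ
  refine ⟨χ, hχ, ?_⟩
  have h1 : K.subtype = (Subgroup.normalizer ((P : Subgroup G) : Set G)).subtype.comp
    (Subgroup.inclusion (le_nrm hKC)) := rfl
  rw [h1, over_comp_iff _ _ (isIrr_isCharacter χ.2) hθ]
  refine ⟨ξ, ξ.2, ?_, h⟩
  rw [over_subtype_iff]
  exact h0

/-- The characters over `θ` not of defect zero. -/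
theorem cND_eq_sigma (hM : IsPModular p M) (P : Sylow p G) (hP1 : (P : Subgroup G) ≠ ⊥)
    (hTI : IsTI (P : Subgroup G)) {K : Subgroup G} [hKn : K.Normal] (hK : ¬ p ∣ Nat.card K)
    {θ : K → ℂ} (hθ : IsIrrCharacter K θ) :
    cND p K.subtype θ = Nat.card (Σ B : Tb p M (P : Subgroup G) θ, B.1.1) := by
  symm
  refine Nat.card_congr (Equiv.ofBijective
    (fun s : (Σ B : Tb p M (P : Subgroup G) θ, B.1.1) =>
      (⟨s.2.1, s.1.over hM hK hθ s.2.2, not_dz hM P hP1 s.1.1.2.1 s.1.1.2.2 s.2.2⟩ :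
        {χ : IrrCharacter G // Over K.subtype (χ : G → ℂ) θ ∧ ¬ DZ p (χ : G → ℂ)})) ⟨?_, ?_⟩)
  · rintro ⟨B, χ⟩ ⟨B', χ'⟩ h
    have h1 : (χ : IrrCharacter G) = χ' := congrArg Subtype.val h
    have hMp := hM.2.1.isPrime
    have h2 : B = B' := Subtype.ext (Subtype.ext
      (Blocks.Basic.isPBlock_eq_of_mem B.1.2.1 B'.1.2.1 χ.2 (h1 ▸ χ'.2)))
    subst h2
    congr 1
    exact Subtype.ext h1
  · rintro ⟨χ, hχ, hd⟩
    obtain ⟨⟨B, χ'⟩, h⟩ := (equivG hM P hTI hP1).surjective ⟨χ, hd⟩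
    have h1 : (χ' : IrrCharacter G) = χ := congrArg Subtype.val h
    subst h1
    exact ⟨⟨⟨B, χ', χ'.2, hχ⟩, χ'⟩, rfl⟩

/-- The characters of `N(P)` over `θ`. -/
theorem cAll_eq_sigma (hM : IsPModular p M) (P : Sylow p G)
    (K : Subgroup G) [hKn : K.Normal] (hK : ¬ p ∣ Nat.card K)
    (hKC : K ≤ Subgroup.centralizer ((P : Subgroup G) : Set G))
    (E : Subgroup G) [hEn : E.Normal] (hPE : (P : Subgroup G) ≤ E) (hcomm : ∀ k ∈ K, ∀ e ∈ E, k * e = e * k)
    {θ : K → ℂ} (hθ : IsIrrCharacter K θ) :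
    cAll (Subgroup.inclusion (le_nrm hKC)) θ = Nat.card (Σ B : Tb p M (P : Subgroup G) θ, br hM P B.1) := by
  symm
  refine Nat.card_congr (Equiv.ofBijective
    (fun s : (Σ B : Tb p M (P : Subgroup G) θ, br hM P B.1) =>
      (⟨s.2.1, over_br hM P K hK hKC E hPE hcomm hθ s.1 s.2.2⟩ :
        {ψ : IrrCharacter (Subgroup.normalizer ((P : Subgroup G) : Set G)) //
          Over (Subgroup.inclusion (le_nrm hKC)) (ψ : Subgroup.normalizer ((P : Subgroup G) : Set G) → ℂ) θ})) ⟨?_, ?_⟩)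
  · rintro ⟨B, ξ⟩ ⟨B', ξ'⟩ h
    have h1 : (ξ : IrrCharacter (Subgroup.normalizer ((P : Subgroup G) : Set G))) = ξ' := congrArg Subtype.val h
    have h2 : (⟨B.1, ξ⟩ : (Σ B : Bl p M (P : Subgroup G), br hM P B)) = ⟨B'.1, ξ'⟩ := (equivN hM P).injective h1
    have h3 : B = B' := Subtype.ext (congrArg Sigma.fst h2)
    subst h3
    congr 1
    exact Subtype.ext h1
  · rintro ⟨ξ, hξ⟩
    obtain ⟨⟨B, ξ'⟩, h⟩ := (equivN hM P).surjective ξ
    have h1 : (ξ' : IrrCharacter (Subgroup.normalizer ((P : Subgroup G) : Set G))) = ξ := h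
    subst h1
    exact ⟨⟨⟨B, mem_Tb hM P hKC hθ B ξ'.2 hξ⟩, ξ'⟩, rfl⟩

/-- **The block part.** -/
theorem card_eq_of_abelian (hM : IsPModular p M) (P : Sylow p G) (hP1 : (P : Subgroup G) ≠ ⊥)
    (hTI : ∀ g : G, g ∉ Subgroup.normalizer ((P : Subgroup G) : Set G) →
      (P : Subgroup G) ⊓ (MulAut.conj g • (P : Subgroup G)) = ⊥)
    (K : Subgroup G) [hKn : K.Normal] (hK : ¬ p ∣ Nat.card K)
    (hKC : K ≤ Subgroup.centralizer ((P : Subgroup G) : Set G))
    (E : Subgroup G) [hEn : E.Normal] (hPE : (P : Subgroup G) ≤ E) (hcomm : ∀ k ∈ K, ∀ e ∈ E, k * e = e * k)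
    (hab : ∀ x y : G, ⁅x, y⁆ ∈ K ⊔ E)
    (hC : ∀ x ∈ K ⊔ E, x ∈ Subgroup.centralizer ((P : Subgroup G) : Set G) → ¬ p ∣ orderOf x → x ∈ K)
    (hcond : ∀ (θ : K → ℂ) (hθ : IsIrrCharacter K θ),
      cND p (Subgroup.inclusion (le_stab (isIrr_isClassFunction hθ))) θ =
        cAll (Subgroup.inclusion (le_inf (le_nrm hKC) (le_stab (isIrr_isClassFunction hθ)))) θ)
    (B : Set (IrrCharacter G)) (hBP : IsDefectGroup p M B P)
    (b : Set (IrrCharacter (Subgroup.normalizer ((P : Subgroup G) : Set G))))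
    (hb : IsInducedBlock M (Subgroup.normalizer ((P : Subgroup G) : Set G)) b B) :
    Nat.card B = Nat.card b := by
  classical
  have hMp := hM.2.1.isPrime
  haveI := finite_irr (G := G)
  haveI := finite_irr (G := Subgroup.normalizer ((P : Subgroup G) : Set G))
  obtain ⟨ξ, hξ⟩ := Blocks.Basic.isPBlock_nonempty hb.1
  obtain ⟨θ, hθ, hξθ⟩ := exists_under (f := Subgroup.inclusion (le_nrm hKC)) ξ.2
  have hBb : br hM P ⟨B, hb.2.1, hBP⟩ = b := br_eq hM P ⟨B, hb.2.1, hBP⟩ hb
  -- the counts over `θ`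
  have hst := le_stab (isIrr_isClassFunction hθ)
  have htop : ∀ U : Subgroup G, U ≤ Subgroup.normalizer (K : Set G) := fun U x _ => by
    rw [Subgroup.normalizer_eq_top]; exact Subgroup.mem_top x
  have i1 : Inert K (stab θ) ⊤ θ := ⟨le_top, htop _, hθ, by rw [top_inf_eq]⟩
  have i2 : Inert K (Subgroup.normalizer ((P : Subgroup G) : Set G) ⊓ stab θ)
    (Subgroup.normalizer ((P : Subgroup G) : Set G)) θ := ⟨le_nrm hKC, htop _, hθ, rfl⟩
  have e3 : cND p K.subtype θ = cND p (Subgroup.inclusion i1.le) θ :=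
    cND_congr p Subgroup.topEquiv.symm (MulEquiv.refl K) _ _ (fun _ => rfl) _ _ (fun _ => rfl)
  have e4 : cND p K.subtype θ = cAll (Subgroup.inclusion (le_nrm hKC)) θ := by
    rw [e3, cND_clifford i1, cAll_clifford i2]
    exact hcond θ hθ
  rw [cND_eq_sigma hM P hP1 hTI hK hθ, cAll_eq_sigma hM P K hK hKC E hPE hcomm hθ] at e4
  -- all blocks over `θ` are conjugate
  have hconj : ∀ B' : Tb p M (P : Subgroup G) θ, ∃ l : G →* ℂˣ, B'.1.1 = tl l '' B ∧
      br hM P B'.1 = tl (l.comp (Subgroup.normalizer ((P : Subgroup G) : Set G)).subtype) '' b := by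
    intro B'
    obtain ⟨ξ', hξ'⟩ := Blocks.Basic.isPBlock_nonempty (br_spec hM P B'.1).1
    have hξ'θ := over_br hM P K hK hKC E hPE hcomm hθ B' hξ'
    obtain ⟨l, -, hl⟩ := exists_lin_block hM P K hK hKC E hab hC hθ hξθ hξ'θ
    have h1 : br hM P B'.1 = tl (l.comp (Subgroup.normalizer ((P : Subgroup G) : Set G)).subtype) '' b := by
      refine (Blocks.Basic.isPBlock_eq_of_mem (isPBlock_tl hMp _ hb.1) (br_spec hM P B'.1).1 (χ := ξ') ?_ hξ').symm
      exact Blocks.Basic.isPBlock_mem_of_sameBlock (isPBlock_tl hMp _ hb.1) ⟨ξ, hξ, rfl⟩ hl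
    refine ⟨l, ?_, h1⟩
    have h2 := br_spec hM P B'.1
    rw [h1] at h2
    exact Blocks.CentralizerSum.inducedBlock_unique h2 (induced_tl _ l hb)
  have hc1 : ∀ B' : Tb p M (P : Subgroup G) θ, Nat.card B'.1.1 = Nat.card B := by
    intro B'
    obtain ⟨l, h1, -⟩ := hconj B'
    rw [h1]
    exact Nat.card_image_of_injective (tl_injective l) B
  have hc2 : ∀ B' : Tb p M (P : Subgroup G) θ, Nat.card (br hM P B'.1) = Nat.card b := by
    intro B'
    obtain ⟨l, -, h1⟩ := hconj B'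
    rw [h1]
    exact Nat.card_image_of_injective (tl_injective _) b
  letI : Fintype (Tb p M (P : Subgroup G) θ) := Fintype.ofFinite _
  rw [Nat.card_sigma, Nat.card_sigma, Finset.sum_congr rfl fun B' _ => hc1 B',
    Finset.sum_congr rfl fun B' _ => hc2 B', Finset.sum_const, Finset.sum_const, smul_eq_mul, smul_eq_mul] at e4
  refine Nat.eq_of_mul_eq_mul_left ?_ e4
  rw [Finset.card_univ, Fintype.card_pos_iff]
  exact ⟨⟨⟨B, hb.2.1, hBP⟩, mem_Tb hM P hKC hθ ⟨B, hb.2.1, hBP⟩ (by rw [hBb]; exact hξ) hξθ⟩⟩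

end main

end Cfsg.Agent.H608.TI
end

-- part: H681/TI/Frame
section
prune_inst 0x2f02033450540020000180592d1007ce2b7000192006b8001d1a406440684cf632903a721ec2017181118aa64003d8048100800790010000020008600411901a08caa72c62340b10424000fc1f887190c00000000000000000000000000000004004010000
set_option linter.all false
open scoped Cfsg.Agent.FastGrp

-- part: H681/TI/Final
section
/-!
# S4819, Clifford part: the assembly (helper681)

`G` finite with TI Sylow `p`-subgroup `P`, `K` a normal `p'`-subgroup, `E` a normal subgroup containing `P` and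
centralising `K`, `K` contains the `p'`-elements of `C(P)`, `G / K E` is cyclic. Then `k(B) = k(b)` for all blocks `B`
with defect group `P` and `b` of `N(P)` inducing `B`, if

* `hrow` : for all `T ≥ K E` the group `T / K` satisfies `RowEq`, i.e. `k(T/K) = k(N_{T/K}(P)) + #dz(T/K)` (S4820);
* `hlin` : for all `θ ∈ Irr K` not trivial on `Z = K ∩ E`, `θ_Z = θ(1) l`: the stabiliser of `θ` is `K E` and
  `#{η ∈ Irr(E | l), not dz} = #Irr(N_E(P) | l)`.

`card_eq_of_disjoint` : the case `K ∩ E = 1`; `card_eq_of_prod` : the case `G = K × E`.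
-/

set_option autoImplicit false
set_option linter.style.haveILetI false
set_option linter.unusedSectionVars false

open Cfsg
open scoped Pointwise

namespace Cfsg.Agent.H681.TI

open Cfsg.Agent.H672 Cfsg.Agent.H672.RM Cfsg.Agent.H675.Nd Cfsg.Agent.Characters.Core

universe u v w

theorem RowEq.congr {p : ℕ} [hp : Fact p.Prime] {Q : Type v} {Q' : Type w} [Group Q] [Group Q'] [Finite Q] [Finite Q']
    (h : RowEq p Q) (e : Q ≃* Q') : RowEq p Q' := by
  intro R'
  let R : Sylow p Q := R'.comapOfInjective e.toMonoidHom e.injective (by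
    rw [MonoidHom.range_eq_top.2 e.surjective]; exact le_top)
  have hR : (R : Subgroup Q) = (R' : Subgroup Q').comap e.toMonoidHom := rfl
  have h1 := h R
  have h2 : Nat.card {β : IrrCharacter Q' // ¬ DZ p (β : Q' → ℂ)} = Nat.card {β : IrrCharacter Q // ¬ DZ p (β : Q → ℂ)} :=
    Nat.card_congr ((irrEquiv e).subtypeEquiv fun χ => (dz_comp p e (χ : Q' → ℂ)).not.symm)
  rw [h2, h1]
  have hmem : ∀ x : Q, e x ∈ Subgroup.normalizer ((R' : Subgroup Q') : Set Q') ↔
      x ∈ Subgroup.normalizer ((R : Subgroup Q) : Set Q) := by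
    intro x
    rw [Subgroup.mem_normalizer_iff, Subgroup.mem_normalizer_iff]
    constructor
    · intro hx y
      have h3 := hx (e y)
      rw [hR]
      change e y ∈ (R' : Subgroup Q') ↔ e (x * y * x⁻¹) ∈ (R' : Subgroup Q')
      rw [map_mul, map_mul, map_inv]
      exact h3
    · intro hx y
      obtain ⟨y, rfl⟩ := e.surjective y
      have h3 := hx y
      rw [hR] at h3
      change e y ∈ (R' : Subgroup Q') ↔ e (x * y * x⁻¹) ∈ (R' : Subgroup Q') at h3
      rw [map_mul, map_mul, map_inv] at h3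
      exact h3
  refine H540.ClassNum.card_conjClasses_congr
    { toFun := fun x => ⟨e x, (hmem x).2 x.2⟩
      invFun := fun y => ⟨e.symm y, (hmem _).1 (by rw [MulEquiv.apply_symm_apply]; exact y.2)⟩
      left_inv := fun x => Subtype.ext (e.symm_apply_apply _)
      right_inv := fun y => Subtype.ext (e.apply_symm_apply _)
      map_mul' := fun x y => Subtype.ext (map_mul e _ _) }

section final
variable {G : Type u} [Group G] [Finite G] {p : ℕ} [hp : Fact p.Prime]

theorem le_stab_of_comm {K E : Subgroup G} [hKn : K.Normal] (hcomm : ∀ k ∈ K, ∀ e ∈ E, k * e = e * k) (θ : K → ℂ) :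
    E ≤ stab θ := by
  intro x hx
  have hxn : x ∈ Subgroup.normalizer (K : Set G) := by
    rw [Subgroup.normalizer_eq_top]; exact Subgroup.mem_top x
  refine mem_stab.2 ⟨hxn, ?_⟩
  funext k
  rw [tw_apply hxn]
  congr 1
  apply Subtype.ext
  change x * (k : G) * x⁻¹ = k
  rw [← hcomm k k.2 x hx, mul_inv_cancel_right]

theorem isCyclic_sub {L T : Subgroup G} [hLn : L.Normal] (h : IsCyclic (G ⧸ L)) : IsCyclic (T ⧸ L.subgroupOf T) := by
  let f : T →* G ⧸ L := (QuotientGroup.mk' L).comp T.subtype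
  have hf : f.ker = L.subgroupOf T := by
    ext t
    rw [MonoidHom.mem_ker, Subgroup.mem_subgroupOf]
    exact QuotientGroup.eq_one_iff _
  have h1 : IsCyclic (T ⧸ f.ker) := isCyclic_of_injective (QuotientGroup.kerLift f) (QuotientGroup.kerLift_injective f)
  exact isCyclic_of_surjective (QuotientGroup.quotientMulEquivOfEq hf) (QuotientGroup.quotientMulEquivOfEq hf).surjective

/-- The general assembly. -/
theorem card_eq_of_rows {M : Ideal AlgInt} (hM : IsPModular p M) (P : Sylow p G) (hP1 : (P : Subgroup G) ≠ ⊥)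
    (hTI : ∀ g : G, g ∉ Subgroup.normalizer ((P : Subgroup G) : Set G) →
      (P : Subgroup G) ⊓ (MulAut.conj g • (P : Subgroup G)) = ⊥)
    (K : Subgroup G) [hKn : K.Normal] (hK : ¬ p ∣ Nat.card K)
    (hC : ∀ x ∈ Subgroup.centralizer ((P : Subgroup G) : Set G), ¬ p ∣ orderOf x → x ∈ K)
    (E : Subgroup G) [hEn : E.Normal] (hPE : (P : Subgroup G) ≤ E)
    (hcomm : ∀ k ∈ K, ∀ e ∈ E, k * e = e * k) (hcyc : IsCyclic (G ⧸ (K ⊔ E)))
    (hrow : ∀ T : Subgroup G, K ⊔ E ≤ T → RowEq p (T ⧸ K.subgroupOf T))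
    (hlin : ∀ (θ : K → ℂ), IsIrrCharacter K θ → ∀ l : ↥(K ⊓ E) →* ℂˣ,
      (∀ z : ↥(K ⊓ E), θ ⟨z, z.2.1⟩ = (l z : ℂ) * θ 1) → l ≠ 1 → stab θ ≤ K ⊔ E ∧
        Nat.card {η : IrrCharacter E // (∀ z : ↥(K ⊓ E), (η : E → ℂ) ⟨z, z.2.2⟩ = (l z : ℂ) * (η : E → ℂ) 1) ∧
          ¬ DZ p (η : E → ℂ)} =
        Nat.card {η : IrrCharacter (Subgroup.normalizer ((P : Subgroup G) : Set G) ⊓ E : Subgroup G) //
          ∀ z : ↥(K ⊓ E), ∀ hz : (z : G) ∈ Subgroup.normalizer ((P : Subgroup G) : Set G) ⊓ E,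
            (η : (Subgroup.normalizer ((P : Subgroup G) : Set G) ⊓ E : Subgroup G) → ℂ) ⟨z, hz⟩ = (l z : ℂ) *
              (η : (Subgroup.normalizer ((P : Subgroup G) : Set G) ⊓ E : Subgroup G) → ℂ) 1})
    (B : Set (IrrCharacter G)) (hBP : IsDefectGroup p M B P)
    (b : Set (IrrCharacter (Subgroup.normalizer ((P : Subgroup G) : Set G))))
    (hb : IsInducedBlock M (Subgroup.normalizer ((P : Subgroup G) : Set G)) b B) :
    Nat.card B = Nat.card b := by
  classical
  have hKC : K ≤ Subgroup.centralizer ((P : Subgroup G) : Set G) := by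
    intro k hk
    rw [Subgroup.mem_centralizer_iff]
    intro x hx
    exact (hcomm k hk x (hPE hx)).symm
  refine card_eq_of_cond hM P hP1 hTI K hK hKC hC (fun θ hθ => ?_) B hBP b hb
  have hKT : K ≤ stab θ := le_stab (isIrr_isClassFunction hθ)
  have hET : E ≤ stab θ := le_stab_of_comm hcomm θ
  -- the central character
  obtain ⟨c, hc⟩ := H622.Over.exists_hom (N := (K ⊓ E).subgroupOf K) (by
    intro z hz
    rw [Subgroup.mem_center_iff]
    intro k
    exact Subtype.ext (hcomm k k.2 z (Subgroup.mem_subgroupOf.1 hz).2)) hθ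
  let l : ↥(K ⊓ E) →* ℂˣ := c.comp
    ((Subgroup.subgroupOfEquivOfLe (inf_le_left : K ⊓ E ≤ K)).symm.toMonoidHom)
  have hl : ∀ z : ↥(K ⊓ E), θ ⟨z, z.2.1⟩ = (l z : ℂ) * θ 1 := by
    intro z
    have h1 := hc 1 ⟨⟨z, z.2.1⟩, Subgroup.mem_subgroupOf.2 z.2⟩
    rw [one_mul, mul_comm] at h1
    exact h1
  by_cases hl1 : l = 1
  · have htriv : ∀ z : ↥(K ⊓ E), θ ⟨z, z.2.1⟩ = θ 1 := by
      intro z
      rw [hl, hl1, MonoidHom.one_apply, Units.val_one, one_mul]
    obtain ⟨χ, hχ, hres⟩ := exists_ext_of_cyclic K E (stab θ) hcomm hKT hET hθ le_rfl htriv (isCyclic_sub hcyc)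
    refine cond_of_ext P K hK hKC hθ hKT (hPE.trans hET) hχ hres (QuotientGroup.mk' (K.subgroupOf (stab θ)))
      (QuotientGroup.mk'_surjective _) ?_ (hrow _ (sup_le hKT hET))
    intro t
    rw [← Subgroup.mem_subgroupOf]
    exact QuotientGroup.eq_one_iff _
  · obtain ⟨h1, h2⟩ := hlin θ hθ l hl hl1
    refine cond_of_central P K E (stab θ) hK hKC hcomm hKT hET h1 hθ l hl ?_
    rw [h2]
    refine Nat.card_congr (Equiv.subtypeEquivRight fun η => ?_)
    exact ⟨fun h z => h z _, fun h z _ => h z⟩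

end final

end Cfsg.Agent.H681.TI
end

-- part: H681/TI/Frame
section
/-!
# S4819: the exceptional rows from the counts `Cnt` (helper681)

`H = G / O_{p'}(G)`, `S1` the image of the normal closure `E` of the TI Sylow `p`-subgroup `P`.

* `isTI_surj` : the Sylow `p`-subgroups of `T / K` are TI;
* `rk_of_frame` : `Rk p P` from `O_{p'}(G) ≤ C(P)`, `C_H(P)` has no `p'`-elements, `H / S1` cyclic, `Cnt p U` for
  `S1 ≤ U ≤ H`, and the condition `hlin` on the characters of `O_{p'}(G)` nontrivial on `O_{p'}(G) ∩ E`;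
* `rk_of_disj` : the case `O_{p'}(G) ∩ E = 1`;
* `normalClosure_eq` : `S1 = S` when `P ≤ S` in `Sit`;
* `disj_of_mult`, `card_dvd_of_mult` : `O_{p'}(G) ∩ E` and the Schur multiplier of `S1`.
-/

set_option autoImplicit false
set_option linter.style.haveILetI false
set_option linter.unusedSectionVars false

open Cfsg
open scoped Pointwise commutatorElement

namespace Cfsg.Agent.H681.TI

open Cfsg.Agent.H672 Cfsg.Agent.H672.RM Cfsg.Agent.H675.Nd Cfsg.Agent.Characters.Core
open Cfsg.Agent.H723.TI (TIs Rk Sit img)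
open Cfsg.Agent.H34.TI (Cnt IsTI)

universe u v w

section ti
variable {G : Type u} [Group G] [Finite G] {p : ℕ} [hp : Fact p.Prime]

/-- An element `a c` of `p`-power order, `a ∈ P`, `c` in a `p'`-subgroup centralising `P`. -/
theorem eq_one_of_mul_pow (P : Sylow p G) {K : Subgroup G} (hK : ¬ p ∣ Nat.card K)
    (hKC : K ≤ Subgroup.centralizer ((P : Subgroup G) : Set G)) {a c : G} (ha : a ∈ (P : Subgroup G)) (hc : c ∈ K)
    (h : ∃ m : ℕ, (a * c) ^ p ^ m = 1) : c = 1 := by
  obtain ⟨m, hm⟩ := h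
  have hcomm : Commute a c := (Subgroup.mem_centralizer_iff.1 (hKC hc) a ha)
  rw [hcomm.mul_pow] at hm
  obtain ⟨l, hl⟩ := P.2 ⟨a, ha⟩
  have hl' : a ^ p ^ l = 1 := congrArg Subtype.val hl
  have h3 : (a * c) ^ p ^ (m + l) = 1 := by
    rw [hcomm.mul_pow, pow_add, pow_mul, pow_mul, ← (hcomm.pow_pow _ _).mul_pow, hm, one_pow]
  rw [hcomm.mul_pow, pow_add, mul_comm (p ^ m) (p ^ l), pow_mul a, hl', one_pow, one_mul] at h3
  have h4 : orderOf c ∣ p ^ l * p ^ m := orderOf_dvd_of_pow_eq_one h3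
  have h5 : orderOf c ∣ Nat.card K := by
    have := orderOf_dvd_natCard (⟨c, hc⟩ : K)
    rwa [Subgroup.orderOf_mk] at this
  have h6 : Nat.Coprime (p ^ l * p ^ m) (Nat.card K) := by
    rw [← pow_add]
    exact Nat.Coprime.pow_left _ ((Nat.Prime.coprime_iff_not_dvd hp.out).2 hK)
  exact orderOf_eq_one_iff.1 (Nat.eq_one_of_dvd_coprimes h6 h4 h5)

/-- The Sylow `p`-subgroups of `T / K` are TI. -/
theorem isTI_surj (P : Sylow p G) (hTI : TIs P) {K : Subgroup G} (hK : ¬ p ∣ Nat.card K)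
    (hKC : K ≤ Subgroup.centralizer ((P : Subgroup G) : Set G)) {T : Subgroup G} (hPT : (P : Subgroup G) ≤ T)
    {Q : Type w} [Group Q] [Finite Q] (π : T →* Q) (hπ : Function.Surjective π)
    (hker : ∀ t : T, π t = 1 ↔ (t : G) ∈ K) (R : Sylow p Q) : IsTI (R : Subgroup Q) := by
  let P' : Sylow p T := P.subtype hPT
  let R0 : Sylow p Q := P'.mapSurjective hπ
  obtain ⟨q, hq⟩ := MulAction.exists_smul_eq Q R0 R
  obtain ⟨t0, rfl⟩ := hπ q
  have hR : ∀ y : Q, y ∈ (R : Subgroup Q) ↔ ∃ a : T, (a : G) ∈ (P : Subgroup G) ∧ π (t0 * a * t0⁻¹) = y := by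
    intro y
    rw [← hq]
    constructor
    · rintro ⟨z, ⟨a, ha, rfl⟩, rfl⟩
      exact ⟨a, ha, by rw [map_mul, map_mul, map_inv]; rfl⟩
    · rintro ⟨a, ha, rfl⟩
      exact ⟨π a, ⟨a, ha, rfl⟩, by rw [map_mul, map_mul, map_inv]; rfl⟩
  intro x hx
  obtain ⟨s, rfl⟩ := hπ x
  rw [eq_bot_iff]
  rintro y ⟨hy1, hy2⟩
  rw [Subgroup.mem_bot]
  obtain ⟨a, ha, rfl⟩ := (hR y).1 hy1
  obtain ⟨z, hz, hz'⟩ := hy2
  obtain ⟨b, hb, rfl⟩ := (hR z).1 hz
  set g : T := t0⁻¹ * s * t0 with hg
  have hz2 : π s * π (t0 * b * t0⁻¹) * (π s)⁻¹ = π (t0 * a * t0⁻¹) := hz'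
  have h1 : π (a⁻¹ * (g * b * g⁻¹)) = 1 := by
    have h2 : π (g * b * g⁻¹) = π a := by
      have h3 : g * b * g⁻¹ = t0⁻¹ * (s * (t0 * b * t0⁻¹) * s⁻¹) * t0 := by rw [hg]; group
      have h4 : π (s * (t0 * b * t0⁻¹) * s⁻¹) = π (t0 * a * t0⁻¹) := by
        rw [map_mul, map_mul, map_inv]; exact hz2
      rw [h3, map_mul, map_mul, h4, ← map_mul, ← map_mul]
      congr 1
      group
    rw [map_mul, h2, map_inv, inv_mul_cancel]
  have h5 := (hker _).1 h1
  have h6 : ((a⁻¹ * (g * b * g⁻¹) : T) : G) = (a : G)⁻¹ * ((g : G) * b * (g : G)⁻¹) := rfl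
  rw [h6] at h5
  have h7 : (a : G)⁻¹ * ((g : G) * b * (g : G)⁻¹) = 1 := by
    refine eq_one_of_mul_pow P hK hKC ha h5 ?_
    obtain ⟨m, hm⟩ := P.2 ⟨(b : G), hb⟩
    refine ⟨m, ?_⟩
    have hm' : (b : G) ^ p ^ m = 1 := congrArg Subtype.val hm
    rw [mul_inv_cancel_left, conj_pow, hm', mul_one, mul_inv_cancel]
  have h8 : (a : G) = (g : G) * b * (g : G)⁻¹ := by
    rw [inv_mul_eq_one] at h7
    exact h7
  by_cases hgN : (g : G) ∈ Subgroup.normalizer ((P : Subgroup G) : Set G)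
  · exfalso
    apply hx
    have h9 : ∀ c : T, t0 * (g * c * g⁻¹) * t0⁻¹ = s * (t0 * c * t0⁻¹) * s⁻¹ := by
      intro c
      rw [hg]; group
    rw [Subgroup.mem_normalizer_iff]
    intro y
    constructor
    · intro hy
      obtain ⟨c, hc, rfl⟩ := (hR y).1 hy
      refine (hR _).2 ⟨g * c * g⁻¹, (Subgroup.mem_normalizer_iff.1 hgN _).1 hc, ?_⟩
      rw [h9, map_mul, map_mul, map_inv]
    · intro hy
      obtain ⟨c, hc, hc'⟩ := (hR _).1 hy
      refine (hR _).2 ⟨g⁻¹ * c * g, ?_, ?_⟩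
      · have h10 := (Subgroup.mem_normalizer_iff.1 (Subgroup.inv_mem _ hgN) (c : G)).1 hc
        simpa using h10
      · have h11 : t0 * (g⁻¹ * c * g) * t0⁻¹ = s⁻¹ * (t0 * c * t0⁻¹) * s := by
          rw [hg]; group
        rw [h11, map_mul, map_mul, map_inv, hc']
        group
  · have h10 := hTI g hgN
    have h11 : (a : G) ∈ (P : Subgroup G) ⊓ (MulAut.conj (g : G) • (P : Subgroup G)) :=
      ⟨ha, ⟨b, hb, h8.symm⟩⟩
    rw [h10, Subgroup.mem_bot] at h11
    have h12 : a = 1 := Subtype.ext h11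
    rw [h12, mul_one, mul_inv_cancel, map_one]

end ti

section frame
variable {G : Type u} [Group G] [Finite G] {p : ℕ} [hp : Fact p.Prime]

theorem core_not_dvd : ¬ p ∣ Nat.card (pPrimeCore p G) := fun h =>
  hp.out.one_lt.ne' (Nat.Coprime.eq_one_of_dvd (Nat.Coprime.symm (Lib.Cores.pPrimeCore_coprime p)) h)

/-- The normal closure of `P` centralises the subgroups normal in `G` and centralising `P`. -/
theorem comm_normalClosure {P : Subgroup G} {K : Subgroup G} [K.Normal] (hKC : K ≤ Subgroup.centralizer (P : Set G)) :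
    ∀ k ∈ K, ∀ e ∈ Subgroup.normalClosure (P : Set G), k * e = e * k := by
  have h1 : Subgroup.normalClosure (P : Set G) ≤ Subgroup.centralizer (K : Set G) := by
    apply Subgroup.normalClosure_le_normal
    intro x hx
    rw [SetLike.mem_coe, Subgroup.mem_centralizer_iff]
    intro k hk
    exact (Subgroup.mem_centralizer_iff.1 (hKC hk) x hx).symm
  intro k hk e he
  exact Subgroup.mem_centralizer_iff.1 (h1 he) k hk

theorem rowEq_map (P : Sylow p G) (hTI : TIs P) {K : Subgroup G} [hKn : K.Normal] (hK : ¬ p ∣ Nat.card K)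
    (hKC : K ≤ Subgroup.centralizer ((P : Subgroup G) : Set G)) {T : Subgroup G} (hPT : (P : Subgroup G) ≤ T)
    (h : Cnt p (T.map (QuotientGroup.mk' K))) : RowEq p (T ⧸ K.subgroupOf T) := by
  let π : T →* T.map (QuotientGroup.mk' K) := (QuotientGroup.mk' K).subgroupMap T
  have hπ : Function.Surjective π := (QuotientGroup.mk' K).subgroupMap_surjective T
  have hker : ∀ t : T, π t = 1 ↔ (t : G) ∈ K := by
    intro t
    rw [← QuotientGroup.eq_one_iff (N := K)]
    exact ⟨fun h => congrArg Subtype.val h, fun h => Subtype.ext h⟩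
  have h1 : RowEq p (T.map (QuotientGroup.mk' K)) :=
    rowEq_of p fun R => h R (isTI_surj P hTI hK hKC hPT π hπ hker R)
  have h2 : π.ker = K.subgroupOf T := by
    ext t
    rw [MonoidHom.mem_ker, hker, Subgroup.mem_subgroupOf]
  exact h1.congr ((QuotientGroup.quotientMulEquivOfEq h2.symm).trans
    (QuotientGroup.quotientKerEquivOfSurjective π hπ)).symm

/-- **The frame.** -/
theorem rk_of_frame (P : Sylow p G) (hP1 : (P : Subgroup G) ≠ ⊥) (hTI : TIs P)
    (cen : pPrimeCore p G ≤ Subgroup.centralizer ((P : Subgroup G) : Set G))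
    (hCH : ∀ x ∈ Subgroup.centralizer (img p P : Set (G ⧸ pPrimeCore p G)), ¬ p ∣ orderOf x → x = 1)
    (S1 : Subgroup (G ⧸ pPrimeCore p G)) [hS1n : S1.Normal]
    (hS1 : (Subgroup.normalClosure ((P : Subgroup G) : Set G)).map (QuotientGroup.mk' (pPrimeCore p G)) = S1)
    (hcyc : IsCyclic ((G ⧸ pPrimeCore p G) ⧸ S1))
    (hrow : ∀ U : Subgroup (G ⧸ pPrimeCore p G), S1 ≤ U → Cnt p U)
    (hlin : ∀ (θ : pPrimeCore p G → ℂ), IsIrrCharacter (pPrimeCore p G) θ →
      ∀ l : ↥(pPrimeCore p G ⊓ Subgroup.normalClosure ((P : Subgroup G) : Set G)) →* ℂˣ,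
      (∀ z : ↥(pPrimeCore p G ⊓ Subgroup.normalClosure ((P : Subgroup G) : Set G)),
        θ ⟨z, z.2.1⟩ = (l z : ℂ) * θ 1) → l ≠ 1 →
      stab θ ≤ pPrimeCore p G ⊔ Subgroup.normalClosure ((P : Subgroup G) : Set G) ∧
        Nat.card {η : IrrCharacter (Subgroup.normalClosure ((P : Subgroup G) : Set G)) //
          (∀ z : ↥(pPrimeCore p G ⊓ Subgroup.normalClosure ((P : Subgroup G) : Set G)),
            (η : Subgroup.normalClosure ((P : Subgroup G) : Set G) → ℂ) ⟨z, z.2.2⟩ =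
              (l z : ℂ) * (η : Subgroup.normalClosure ((P : Subgroup G) : Set G) → ℂ) 1) ∧
          ¬ DZ p (η : Subgroup.normalClosure ((P : Subgroup G) : Set G) → ℂ)} =
        Nat.card {η : IrrCharacter (Subgroup.normalizer ((P : Subgroup G) : Set G) ⊓
            Subgroup.normalClosure ((P : Subgroup G) : Set G) : Subgroup G) //
          ∀ z : ↥(pPrimeCore p G ⊓ Subgroup.normalClosure ((P : Subgroup G) : Set G)),
            ∀ hz : (z : G) ∈ Subgroup.normalizer ((P : Subgroup G) : Set G) ⊓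
              Subgroup.normalClosure ((P : Subgroup G) : Set G),
            (η : (Subgroup.normalizer ((P : Subgroup G) : Set G) ⊓
              Subgroup.normalClosure ((P : Subgroup G) : Set G) : Subgroup G) → ℂ) ⟨z, hz⟩ = (l z : ℂ) *
              (η : (Subgroup.normalizer ((P : Subgroup G) : Set G) ⊓
                Subgroup.normalClosure ((P : Subgroup G) : Set G) : Subgroup G) → ℂ) 1}) :
    Rk p P := by
  classical
  intro M hM B hB hBP b hb
  have hcount := H608.TI.count hM P hTI hB hBP hb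
  suffices h : Nat.card B = Nat.card b by omega
  set K := pPrimeCore p G with hKdef
  haveI : K.Normal := Lib.Cores.pPrimeCore_normal p
  have hK : ¬ p ∣ Nat.card K := core_not_dvd
  have hPE : (P : Subgroup G) ≤ Subgroup.normalClosure ((P : Subgroup G) : Set G) := Subgroup.le_normalClosure
  have hcomm := comm_normalClosure cen
  refine card_eq_of_rows hM P hP1 hTI K hK ?_ (Subgroup.normalClosure ((P : Subgroup G) : Set G)) hPE hcomm ?_ ?_
    hlin B hBP b hb
  · intro x hx hxo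
    rw [← QuotientGroup.eq_one_iff (N := K)]
    refine hCH (x : G ⧸ K) ?_ ?_
    · rw [Subgroup.mem_centralizer_iff]
      rintro _ ⟨y, hy, rfl⟩
      have h1 := Subgroup.mem_centralizer_iff.1 hx y hy
      exact congrArg (QuotientGroup.mk' K) h1
    · intro hd
      exact hxo (hd.trans (orderOf_map_dvd (QuotientGroup.mk' K) x))
  · let f : G →* (G ⧸ K) ⧸ S1 := (QuotientGroup.mk' S1).comp (QuotientGroup.mk' K)
    have hf : f.ker = K ⊔ Subgroup.normalClosure ((P : Subgroup G) : Set G) := by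
      have h1 : f.ker = S1.comap (QuotientGroup.mk' K) := by
        rw [← MonoidHom.comap_ker, QuotientGroup.ker_mk']
      rw [h1, ← hS1, Subgroup.comap_map_eq, QuotientGroup.ker_mk', sup_comm]
    have h1 : IsCyclic (G ⧸ f.ker) :=
      isCyclic_of_injective (QuotientGroup.kerLift f) (QuotientGroup.kerLift_injective f)
    exact isCyclic_of_surjective (QuotientGroup.quotientMulEquivOfEq hf)
      (QuotientGroup.quotientMulEquivOfEq hf).surjective
  · intro T hT
    refine rowEq_map P hTI hK cen (hPE.trans (le_sup_right.trans hT)) (hrow _ ?_)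
    rw [← hS1]
    exact Subgroup.map_mono (le_sup_right.trans hT)

/-- The frame when `O_{p'}(G)` meets the normal closure of `P` trivially. -/
theorem rk_of_disj (P : Sylow p G) (hP1 : (P : Subgroup G) ≠ ⊥) (hTI : TIs P)
    (cen : pPrimeCore p G ≤ Subgroup.centralizer ((P : Subgroup G) : Set G))
    (hCH : ∀ x ∈ Subgroup.centralizer (img p P : Set (G ⧸ pPrimeCore p G)), ¬ p ∣ orderOf x → x = 1)
    (S1 : Subgroup (G ⧸ pPrimeCore p G)) [hS1n : S1.Normal]
    (hS1 : (Subgroup.normalClosure ((P : Subgroup G) : Set G)).map (QuotientGroup.mk' (pPrimeCore p G)) = S1)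
    (hcyc : IsCyclic ((G ⧸ pPrimeCore p G) ⧸ S1))
    (hrow : ∀ U : Subgroup (G ⧸ pPrimeCore p G), S1 ≤ U → Cnt p U)
    (hdisj : pPrimeCore p G ⊓ Subgroup.normalClosure ((P : Subgroup G) : Set G) = ⊥) : Rk p P := by
  refine rk_of_frame P hP1 hTI cen hCH S1 hS1 hcyc hrow (fun θ _ l _ hl => ?_)
  exfalso
  apply hl
  ext z
  have h1 : z = 1 := Subtype.ext (Subgroup.mem_bot.1 (hdisj ▸ z.2))
  rw [h1, map_one, map_one]

end frame

section sit
variable {G : Type u} [Group G] [Finite G] {p : ℕ} [hp : Fact p.Prime]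

theorem ne_bot_of_dvd (P : Sylow p G) {S : Subgroup (G ⧸ pPrimeCore p G)} (h : p ∣ Nat.card S) :
    (P : Subgroup G) ≠ ⊥ :=
  P.ne_bot_of_dvd_card ((h.trans S.card_subgroup_dvd_card).trans (Subgroup.card_quotient_dvd_card _))

theorem img_ne_bot (P : Sylow p G) (hP1 : (P : Subgroup G) ≠ ⊥) : img p P ≠ ⊥ := by
  intro h
  apply hP1
  haveI : (pPrimeCore p G).Normal := Lib.Cores.pPrimeCore_normal p
  have h1 : (P : Subgroup G) ≤ pPrimeCore p G := by
    have h2 := (Subgroup.map_eq_bot_iff _).1 h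
    rwa [QuotientGroup.ker_mk'] at h2
  have h3 := Subgroup.card_dvd_of_le h1
  have h4 : Nat.Coprime (Nat.card (P : Subgroup G)) (Nat.card (pPrimeCore p G)) := by
    rw [show Nat.card (P : Subgroup G) = _ from P.card_eq_multiplicity]
    exact Nat.Coprime.pow_left _ ((Nat.Prime.coprime_iff_not_dvd hp.out).2 core_not_dvd)
  exact Subgroup.card_eq_one.1 (Nat.Coprime.eq_one_of_dvd h4 h3)

/-- The image of the normal closure of `P` is `S`. -/
theorem normalClosure_eq (P : Sylow p G) {S : Subgroup (G ⧸ pPrimeCore p G)} (h : Sit p P S)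
    (hP1 : (P : Subgroup G) ≠ ⊥) (hPS : img p P ≤ S) :
    (Subgroup.normalClosure ((P : Subgroup G) : Set G)).map (QuotientGroup.mk' (pPrimeCore p G)) = S := by
  haveI := h.normal
  haveI := h.simple
  have hle : (Subgroup.normalClosure ((P : Subgroup G) : Set G)).map (QuotientGroup.mk' (pPrimeCore p G)) ≤ S := by
    rw [Subgroup.map_le_iff_le_comap]
    apply Subgroup.normalClosure_le_normal
    intro x hx
    exact hPS ⟨x, hx, rfl⟩
  haveI hn : ((Subgroup.normalClosure ((P : Subgroup G) : Set G)).map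
      (QuotientGroup.mk' (pPrimeCore p G))).Normal :=
    Subgroup.Normal.map Subgroup.normalClosure_normal _ (QuotientGroup.mk'_surjective _)
  rcases (hn.subgroupOf S).eq_bot_or_eq_top with h1 | h1
  · exfalso
    apply img_ne_bot P hP1
    have h2 := Subgroup.subgroupOf_eq_bot.1 h1
    have h3 : (Subgroup.normalClosure ((P : Subgroup G) : Set G)).map
      (QuotientGroup.mk' (pPrimeCore p G)) = ⊥ := by
      rw [← inf_eq_left.2 hle]
      exact h2.eq_bot
    rw [eq_bot_iff, ← h3]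
    exact Subgroup.map_mono Subgroup.le_normalClosure
  · exact le_antisymm hle (Subgroup.subgroupOf_eq_top.1 h1)

theorem perfect_of_simple {S : Type u} [Group S] [IsSimpleGroup S] (h : ¬ IsMulCommutative S) : commutator S = ⊤ := by
  rcases (inferInstance : (commutator S).Normal).eq_bot_or_eq_top with h1 | h1
  · exfalso
    apply h
    refine ⟨⟨fun a b => ?_⟩⟩
    have h2 : ⁅a, b⁆ ∈ commutator S := Subgroup.commutator_mem_commutator (Subgroup.mem_top a) (Subgroup.mem_top b)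
    rw [h1, Subgroup.mem_bot] at h2
    exact commutatorElement_eq_one_iff_mul_comm.1 h2
  · exact h1

/-- The normal closure of `P` is perfect. -/
theorem perfect_normalClosure (P : Sylow p G)
    (cen : pPrimeCore p G ≤ Subgroup.centralizer ((P : Subgroup G) : Set G))
    {S1 : Subgroup (G ⧸ pPrimeCore p G)}
    (hS1 : (Subgroup.normalClosure ((P : Subgroup G) : Set G)).map (QuotientGroup.mk' (pPrimeCore p G)) = S1)
    (hperf : commutator S1 = ⊤) : commutator (Subgroup.normalClosure ((P : Subgroup G) : Set G)) = ⊤ := by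
  set E := Subgroup.normalClosure ((P : Subgroup G) : Set G) with hE
  haveI hKn : (pPrimeCore p G).Normal := Lib.Cores.pPrimeCore_normal p
  haveI hEn : E.Normal := Subgroup.normalClosure_normal
  have h1 : ⁅S1, S1⁆ = S1 := by
    have h2 := congrArg (Subgroup.map S1.subtype) hperf
    rw [commutator_def, Subgroup.map_commutator, ← MonoidHom.range_eq_map, Subgroup.range_subtype] at h2
    exact h2
  have h3 : (⁅E, E⁆).map (QuotientGroup.mk' (pPrimeCore p G)) = E.map (QuotientGroup.mk' (pPrimeCore p G)) := by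
    rw [Subgroup.map_commutator, hS1, h1]
  have hcomm := comm_normalClosure cen
  have hPD : (P : Subgroup G) ≤ ⁅E, E⁆ := by
    intro x hx
    have hxE : x ∈ E := Subgroup.le_normalClosure hx
    have h4 : QuotientGroup.mk' (pPrimeCore p G) x ∈ (⁅E, E⁆).map (QuotientGroup.mk' (pPrimeCore p G)) := by
      rw [h3]; exact ⟨x, hxE, rfl⟩
    obtain ⟨d, hd, hdx⟩ := h4
    rw [QuotientGroup.mk'_eq_mk'] at hdx
    obtain ⟨k, hk, hkx⟩ := hdx
    have hdE : d ∈ E := Subgroup.commutator_le_right _ _ hd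
    have hcdk : Commute d k := (hcomm k hk d hdE).symm
    have hm : x ^ orderOf k ∈ ⁅E, E⁆ := by
      rw [← hkx, hcdk.mul_pow, pow_orderOf_eq_one, mul_one]
      exact Subgroup.pow_mem _ hd _
    have hcop : Nat.Coprime (orderOf x) (orderOf k) := by
      obtain ⟨m, hm⟩ := P.2 ⟨x, hx⟩
      have hm' : x ^ p ^ m = 1 := congrArg Subtype.val hm
      have h5 : orderOf k ∣ Nat.card (pPrimeCore p G) := by
        have := orderOf_dvd_natCard (⟨k, hk⟩ : pPrimeCore p G)
        rwa [Subgroup.orderOf_mk] at this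
      refine Nat.Coprime.coprime_dvd_left (orderOf_dvd_of_pow_eq_one hm') ?_
      refine Nat.Coprime.coprime_dvd_right h5 ?_
      exact Nat.Coprime.pow_left _ ((Nat.Prime.coprime_iff_not_dvd hp.out).2 core_not_dvd)
    obtain ⟨n, hn⟩ := exists_pow_eq_self_of_coprime hcop.symm
    rw [← hn]
    exact Subgroup.pow_mem _ hm n
  have hED : E ≤ ⁅E, E⁆ := by
    rw [hE]
    exact Subgroup.normalClosure_le_normal hPD
  rw [eq_top_iff]
  rintro ⟨x, hx⟩ -
  have h6 := hED hx
  have h7 : ⁅E, E⁆ = (commutator E).map E.subtype := by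
    rw [commutator_def, Subgroup.map_commutator, ← MonoidHom.range_eq_map, Subgroup.range_subtype]
  rw [h7] at h6
  obtain ⟨y, hy, hyx⟩ := h6
  have h8 : y = ⟨x, hx⟩ := Subtype.ext hyx
  exact h8 ▸ hy

/-- The order of `O_{p'}(G) ∩ E` divides the order of the multiplier. -/
theorem card_dvd_of_mult (P : Sylow p G)
    (cen : pPrimeCore p G ≤ Subgroup.centralizer ((P : Subgroup G) : Set G))
    {S1 : Subgroup (G ⧸ pPrimeCore p G)}
    (hS1 : (Subgroup.normalClosure ((P : Subgroup G) : Set G)).map (QuotientGroup.mk' (pPrimeCore p G)) = S1)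
    (hperf : commutator S1 = ⊤) {Y : Type v} [Group Y] (e : S1 ≃* Y) {n : ℕ} (hY : HasCyclicSchurMultiplier Y n) :
    Nat.card ↥(pPrimeCore p G ⊓ Subgroup.normalClosure ((P : Subgroup G) : Set G)) ∣ n := by
  have hEp := perfect_normalClosure P cen hS1 hperf
  have hcomm := comm_normalClosure cen
  set E := Subgroup.normalClosure ((P : Subgroup G) : Set G) with hE
  haveI hKn : (pPrimeCore p G).Normal := Lib.Cores.pPrimeCore_normal p
  subst hS1
  let π : E →* Y := e.toMonoidHom.comp ((QuotientGroup.mk' (pPrimeCore p G)).subgroupMap E)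
  have hπ : Function.Surjective π :=
    e.surjective.comp ((QuotientGroup.mk' (pPrimeCore p G)).subgroupMap_surjective E)
  have hker : ∀ x : E, x ∈ π.ker ↔ (x : G) ∈ pPrimeCore p G := by
    intro x
    rw [MonoidHom.mem_ker, ← QuotientGroup.eq_one_iff (N := pPrimeCore p G)]
    constructor
    · intro h
      have h1 := e.map_eq_one_iff.1 h
      exact congrArg Subtype.val h1
    · intro h
      exact e.map_eq_one_iff.2 (Subtype.ext h)
  have h1 := H95.StemCover.card_ker_dvd_cyclic hY hEp π hπ (by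
    intro x hx
    rw [Subgroup.mem_center_iff]
    intro y
    exact Subtype.ext (hcomm x ((hker x).1 hx) y y.2).symm)
  have h2 : π.ker = (pPrimeCore p G).subgroupOf E := by
    ext x
    rw [hker, Subgroup.mem_subgroupOf]
  rw [h2] at h1
  have h3 : Nat.card ((pPrimeCore p G).subgroupOf E) = Nat.card ↥(pPrimeCore p G ⊓ E) := by
    rw [← Subgroup.card_map_of_injective (Subgroup.subtype_injective E), Subgroup.subgroupOf_map_subtype]
  rw [← h3]
  exact h1

theorem disj_of_mult (P : Sylow p G)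
    (cen : pPrimeCore p G ≤ Subgroup.centralizer ((P : Subgroup G) : Set G))
    {S1 : Subgroup (G ⧸ pPrimeCore p G)}
    (hS1 : (Subgroup.normalClosure ((P : Subgroup G) : Set G)).map (QuotientGroup.mk' (pPrimeCore p G)) = S1)
    (hperf : commutator S1 = ⊤) {Y : Type v} [Group Y] (e : S1 ≃* Y) (hY : HasCyclicSchurMultiplier Y 1) :
    pPrimeCore p G ⊓ Subgroup.normalClosure ((P : Subgroup G) : Set G) = ⊥ :=
  Subgroup.card_eq_one.1 (Nat.dvd_one.1 (card_dvd_of_mult P cen hS1 hperf e hY))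

/-- **The rows with trivial multiplier**, `P ≤ S`. -/
theorem rk_of_sit (P : Sylow p G) {S : Subgroup (G ⧸ pPrimeCore p G)} (h : Sit p P S) (hpS : p ∣ Nat.card S)
    (hPS : img p P ≤ S)
    (hCH : ∀ x ∈ Subgroup.centralizer (img p P : Set (G ⧸ pPrimeCore p G)), ¬ p ∣ orderOf x → x = 1)
    (hcyc : S.index = 1 ∨ S.index.Prime)
    {Y : Type v} [Group Y] (e : S ≃* Y) (hY : HasCyclicSchurMultiplier Y 1)
    (hrow : ∀ U : Subgroup (G ⧸ pPrimeCore p G), S ≤ U → Cnt p U) : Rk p P := by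
  have hP1 := ne_bot_of_dvd P hpS
  haveI := h.normal
  haveI := h.simple
  have hS1 := normalClosure_eq P h hP1 hPS
  refine rk_of_disj P hP1 h.ti h.cen hCH S hS1 ?_ hrow
    (disj_of_mult P h.cen hS1 (perfect_of_simple h.nonab) e hY)
  rcases hcyc with h1 | h1
  · have : Subsingleton ((G ⧸ pPrimeCore p G) ⧸ S) := by
      rw [← Finite.card_le_one_iff_subsingleton, ← Subgroup.index_eq_card, h1]
    exact isCyclic_of_subsingleton
  · haveI : Fact S.index.Prime := ⟨h1⟩
    exact isCyclic_of_prime_card (p := S.index) S.index_eq_card.symm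

end sit

end Cfsg.Agent.H681.TI
end
end

-- part: H681/TI/McLRow
section
prune_inst 0x4010000
set_option linter.all false
open scoped Cfsg.Agent.FastGrp

-- part: H681/TI/Rows
section
/-!
# S4819: the exceptional rows, in terms of almost simple groups (helper681)

* `row_of` : `Row p X` from facts on the groups `H` with a normal subgroup `S` of type `X`, `C_H(S) = 1`;
* `disj_of_mult_ext`, `rowSz32_of` : the same for `Sz(32) : 5`, `p = 5`, `P` not in `S`;
* `stab_le_of_inv` : `stab θ ≤ K E` when the elements outside of `K E` invert `K ∩ E`.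
-/

set_option autoImplicit false
set_option linter.style.haveILetI false
set_option linter.unusedSectionVars false

open Cfsg
open scoped Pointwise commutatorElement

namespace Cfsg.Agent.H681.TI

open Cfsg.Agent.H672 Cfsg.Agent.H672.RM Cfsg.Agent.H675.Nd Cfsg.Agent.Characters.Core
open Cfsg.Agent.H723.TI (TIs Rk Sit img Row RowSz32)
open Cfsg.Agent.H34.TI (Cnt IsTI)

universe u v w

section almost
variable {H : Type u} [Group H] [Finite H] {S : Subgroup H}

/-- `S` is normal with trivial centralizer. -/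
structure Alm (S : Subgroup H) : Prop where
  normal : S.Normal
  cent : Subgroup.centralizer (S : Set H) = ⊥

theorem Alm.sub (h : Alm S) {U : Subgroup H} (hSU : S ≤ U) : Alm (S.subgroupOf U) := by
  haveI := h.normal
  refine ⟨inferInstance, ?_⟩
  rw [eq_bot_iff]
  intro x hx
  rw [Subgroup.mem_bot]
  have h1 : (x : H) ∈ Subgroup.centralizer (S : Set H) := by
    rw [Subgroup.mem_centralizer_iff] at hx ⊢
    intro y hy
    exact congrArg Subtype.val (hx ⟨y, hSU hy⟩ (Subgroup.mem_subgroupOf.2 hy))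
  rw [h.cent, Subgroup.mem_bot] at h1
  exact Subtype.ext h1

end almost

theorem isCyclic_of_index {H : Type u} [Group H] [Finite H] {S : Subgroup H} [S.Normal]
    (hcyc : S.index = 1 ∨ S.index.Prime) : IsCyclic (H ⧸ S) := by
  rcases hcyc with h1 | h1
  · have : Subsingleton (H ⧸ S) := by
      rw [← Finite.card_le_one_iff_subsingleton, ← Subgroup.index_eq_card, h1]
    exact isCyclic_of_subsingleton
  · haveI : Fact S.index.Prime := ⟨h1⟩
    exact isCyclic_of_prime_card (p := S.index) S.index_eq_card.symm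

/-- **The rows with trivial multiplier.** -/
theorem row_of (p : ℕ) [hp : Fact p.Prime] (X : (S : Type u) → [Group S] → Prop)
    (hX : ∀ (S S' : Type u) [Group S] [Group S'], (S ≃* S') → X S → X S')
    (hdvd : ∀ (S : Type u) [Group S] [Finite S], X S → p ∣ Nat.card S)
    (hidx : ∀ (H : Type u) [Group H] [Finite H] (S : Subgroup H), Alm S → X S → S.index = 1 ∨ S.index.Prime)
    (hC : ∀ (H : Type u) [Group H] [Finite H] (S : Subgroup H), Alm S → X S → ∀ R : Sylow p H,
      (R : Subgroup H) ≤ S → ∀ x ∈ Subgroup.centralizer ((R : Subgroup H) : Set H), ¬ p ∣ orderOf x → x = 1)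
    (hmult : ∀ (S : Type u) [Group S], X S →
      ∃ (Y : Type) (_ : Group Y), Nonempty (S ≃* Y) ∧ HasCyclicSchurMultiplier Y 1)
    (hcnt : ∀ (H : Type u) [Group H] [Finite H] (S : Subgroup H), Alm S → X S → Cnt p H) : Row.{u} p X := by
  intro G _ _ P S hS hPS hXS
  obtain ⟨Y, hY, ⟨e⟩, hm⟩ := hmult S hXS
  have hA : Alm S := ⟨hS.normal, hS.cent⟩
  haveI := hS.normal
  refine rk_of_sit P hS (hdvd S hXS) hPS ?_ (hidx _ S hA hXS) e hm (fun U hU => ?_)
  · exact hC _ S hA hXS (P.mapSurjective (QuotientGroup.mk'_surjective _)) hPS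
  · exact hcnt U (S.subgroupOf U) (hA.sub hU) (hX _ _ (Subgroup.subgroupOfEquivOfLe hU).symm hXS)

section ext
variable {G : Type u} [Group G] [Finite G] {p : ℕ} [hp : Fact p.Prime]

/-- `O_{p'}(G) ∩ E = 1` when `E` maps onto `H` and `H / S` is cyclic, `S` perfect with trivial multiplier. -/
theorem disj_of_mult_ext (P : Sylow p G)
    (cen : pPrimeCore p G ≤ Subgroup.centralizer ((P : Subgroup G) : Set G))
    (htop : (Subgroup.normalClosure ((P : Subgroup G) : Set G)).map (QuotientGroup.mk' (pPrimeCore p G)) = ⊤)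
    (S : Subgroup (G ⧸ pPrimeCore p G)) [hSn : S.Normal] (hcyc : IsCyclic ((G ⧸ pPrimeCore p G) ⧸ S))
    (hperf : commutator S = ⊤) {Y : Type v} [Group Y] (e : S ≃* Y) (hY : HasCyclicSchurMultiplier Y 1) :
    pPrimeCore p G ⊓ Subgroup.normalClosure ((P : Subgroup G) : Set G) = ⊥ := by
  classical
  have hcomm := comm_normalClosure cen
  set E := Subgroup.normalClosure ((P : Subgroup G) : Set G) with hE
  set K := pPrimeCore p G with hKdef
  haveI hKn : K.Normal := Lib.Cores.pPrimeCore_normal p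
  haveI hEn : E.Normal := Subgroup.normalClosure_normal
  set E0 : Subgroup G := E ⊓ S.comap (QuotientGroup.mk' K) with hE0
  haveI : (S.comap (QuotientGroup.mk' K)).Normal := inferInstance
  haveI hE0n : E0.Normal := inferInstance
  have hKS : K ≤ S.comap (QuotientGroup.mk' K) := by
    intro k hk
    rw [Subgroup.mem_comap, QuotientGroup.mk'_apply, (QuotientGroup.eq_one_iff k).2 hk]
    exact S.one_mem
  have hmap : E0.map (QuotientGroup.mk' K) = S := by
    apply le_antisymm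
    · rintro _ ⟨x, hx, rfl⟩
      exact hx.2
    · intro y hy
      have h1 : y ∈ E.map (QuotientGroup.mk' K) := by rw [htop]; exact Subgroup.mem_top y
      obtain ⟨x, hx, rfl⟩ := h1
      exact ⟨x, ⟨hx, hy⟩, rfl⟩
  set D : Subgroup G := ⁅E0, E0⁆ with hD
  haveI hDn : D.Normal := Subgroup.commutator_normal _ _
  have hDE0 : D ≤ E0 := Subgroup.commutator_le_right _ _
  have hSS : ⁅S, S⁆ = S := by
    have h2 := congrArg (Subgroup.map S.subtype) hperf
    rw [commutator_def, Subgroup.map_commutator, ← MonoidHom.range_eq_map, Subgroup.range_subtype] at h2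
    exact h2
  have hDS : D.map (QuotientGroup.mk' K) = S := by
    rw [hD, Subgroup.map_commutator, hmap, hSS]
  -- `K ∩ E` meets `D` trivially
  have hKD : ∀ z ∈ K, z ∈ D → z = 1 := by
    intro z hz hzD
    let τ0 : E0 →* E0.map (QuotientGroup.mk' K) := (QuotientGroup.mk' K).subgroupMap E0
    let τ : E0 →* Y := (e.toMonoidHom.comp (MulEquiv.subgroupCongr hmap).toMonoidHom).comp τ0
    have hτ : Function.Surjective τ :=
      (e.surjective.comp (MulEquiv.subgroupCongr hmap).surjective).comp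
        ((QuotientGroup.mk' K).subgroupMap_surjective E0)
    have hker : ∀ x : E0, x ∈ τ.ker ↔ (x : G) ∈ K := by
      intro x
      rw [MonoidHom.mem_ker, ← QuotientGroup.eq_one_iff (N := K)]
      constructor
      · intro h
        have h1 := e.map_eq_one_iff.1 h
        exact congrArg Subtype.val h1
      · intro h
        exact e.map_eq_one_iff.2 (Subtype.ext h)
    have h1 := H487.mult_eq_bot_of_trivial hY hτ (by
      intro x hx
      rw [Subgroup.mem_center_iff]
      intro y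
      exact Subtype.ext (hcomm x ((hker x).1 hx) y y.2.1).symm)
    have h2 : (⟨z, hDE0 hzD⟩ : E0) ∈ τ.ker ⊓ commutator E0 := by
      refine ⟨(hker _).2 hz, ?_⟩
      have h7 : D = (commutator E0).map E0.subtype := by
        rw [commutator_def, Subgroup.map_commutator, ← MonoidHom.range_eq_map, Subgroup.range_subtype]
      rw [h7] at hzD
      obtain ⟨y, hy, hyz⟩ := hzD
      have h8 : y = ⟨z, hDE0 (h7 ▸ ⟨y, hy, hyz⟩)⟩ := Subtype.ext hyz
      exact h8 ▸ hy
    have h3 : τ.ker ⊓ commutator E0 = ⊥ := h1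
    rw [h3, Subgroup.mem_bot] at h2
    exact congrArg Subtype.val h2
  -- `E / D` is abelian
  let F : G ⧸ D →* (G ⧸ K) ⧸ S := QuotientGroup.lift D ((QuotientGroup.mk' S).comp (QuotientGroup.mk' K)) (by
    intro x hx
    have h1 := (hDE0 hx).2
    exact (QuotientGroup.eq_one_iff _).2 h1)
  let F' : E.map (QuotientGroup.mk' D) →* (G ⧸ K) ⧸ S := F.comp (Subgroup.subtype _)
  have hF' : F'.ker ≤ Subgroup.center (E.map (QuotientGroup.mk' D)) := by
    rintro ⟨_, x, hx, rfl⟩ hxF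
    have h1 : QuotientGroup.mk' K x ∈ S := (QuotientGroup.eq_one_iff _).1 ((MonoidHom.mem_ker).1 hxF)
    rw [← hDS] at h1
    obtain ⟨d, hd, hdx⟩ := h1
    rw [QuotientGroup.mk'_eq_mk'] at hdx
    obtain ⟨k, hk, rfl⟩ := hdx
    rw [Subgroup.mem_center_iff]
    rintro ⟨_, y, hy, rfl⟩
    apply Subtype.ext
    have h2 : QuotientGroup.mk' D (d * k) = QuotientGroup.mk' D k := by
      rw [map_mul, QuotientGroup.mk'_apply, (QuotientGroup.eq_one_iff d).2 hd, one_mul]
    change QuotientGroup.mk' D y * QuotientGroup.mk' D (d * k) = QuotientGroup.mk' D (d * k) * QuotientGroup.mk' D y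
    rw [h2, ← map_mul, ← map_mul, hcomm k hk y hy]
  have hab : ∀ x ∈ E, ∀ y ∈ E, Commute (QuotientGroup.mk' D x) (QuotientGroup.mk' D y) := by
    intro x hx y hy
    exact congrArg Subtype.val (commutative_of_cyclic_center_quotient F' hF' ⟨_, x, hx, rfl⟩ ⟨_, y, hy, rfl⟩)
  -- the elements of `p`-power order mod `D`
  let q := Nat.card (P : Subgroup G)
  let W : Subgroup G :=
    { carrier := {x | x ∈ E ∧ x ^ q ∈ D}
      one_mem' := ⟨E.one_mem, by rw [one_pow]; exact D.one_mem⟩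
      mul_mem' := by
        rintro x y ⟨hx, hx'⟩ ⟨hy, hy'⟩
        refine ⟨E.mul_mem hx hy, ?_⟩
        rw [← QuotientGroup.eq_one_iff (N := D)] at hx' hy' ⊢
        have h1 := (hab x hx y hy).mul_pow q
        change (QuotientGroup.mk' D) ((x * y) ^ q) = 1
        rw [map_pow, map_mul, h1, ← map_pow, ← map_pow]
        change (((x ^ q : G) : G ⧸ D)) * (((y ^ q : G) : G ⧸ D)) = 1
        rw [hx', hy', one_mul]
      inv_mem' := by
        rintro x ⟨hx, hx'⟩
        exact ⟨E.inv_mem hx, by rw [inv_pow]; exact D.inv_mem hx'⟩ }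
  have hWn : W.Normal := ⟨by
    rintro x ⟨hx, hx'⟩ g
    refine ⟨hEn.conj_mem x hx g, ?_⟩
    rw [conj_pow]
    exact hDn.conj_mem _ hx' g⟩
  have hPW : (P : Subgroup G) ≤ W := by
    intro x hx
    refine ⟨Subgroup.le_normalClosure hx, ?_⟩
    have h1 : x ^ q = 1 := by
      have h2 := pow_card_eq_one' (x := (⟨x, hx⟩ : (P : Subgroup G)))
      exact congrArg Subtype.val h2
    rw [h1]
    exact D.one_mem
  have hEW : E ≤ W := by
    rw [hE]
    exact Subgroup.normalClosure_le_normal hPW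
  rw [eq_bot_iff]
  rintro z ⟨hzK, hzE⟩
  rw [Subgroup.mem_bot]
  have h1 := (hEW hzE).2
  have h2 := hKD _ (K.pow_mem hzK q) h1
  have h3 : orderOf z ∣ q := orderOf_dvd_of_pow_eq_one h2
  have h4 : orderOf z ∣ Nat.card K := by
    have := orderOf_dvd_natCard (⟨z, hzK⟩ : K)
    rwa [Subgroup.orderOf_mk] at this
  have h5 : Nat.Coprime q (Nat.card K) := by
    change Nat.Coprime (Nat.card (P : Subgroup G)) (Nat.card K)
    rw [show Nat.card (P : Subgroup G) = _ from P.card_eq_multiplicity]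
    exact Nat.Coprime.pow_left _ ((Nat.Prime.coprime_iff_not_dvd hp.out).2 core_not_dvd)
  exact orderOf_eq_one_iff.1 (Nat.eq_one_of_dvd_coprimes h5 h3 h4)

/-- The normal closure of `P` maps onto `H` when `P` is not in `S` and `S` is of prime index. -/
theorem normalClosure_eq_top (P : Sylow p G) {S : Subgroup (G ⧸ pPrimeCore p G)} (h : Sit p P S)
    (hPS : ¬ img p P ≤ S) (hidx : S.index.Prime) :
    (Subgroup.normalClosure ((P : Subgroup G) : Set G)).map (QuotientGroup.mk' (pPrimeCore p G)) = ⊤ := by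
  haveI := h.normal
  haveI := h.simple
  set S1 := (Subgroup.normalClosure ((P : Subgroup G) : Set G)).map (QuotientGroup.mk' (pPrimeCore p G)) with hS1
  have hP1 : img p P ≤ S1 := Subgroup.map_mono Subgroup.le_normalClosure
  haveI hn : S1.Normal := Subgroup.Normal.map Subgroup.normalClosure_normal _ (QuotientGroup.mk'_surjective _)
  have hSS1 : S ≤ S1 := by
    rcases (hn.subgroupOf S).eq_bot_or_eq_top with h1 | h1
    · exfalso
      apply hPS
      have h2 := Subgroup.subgroupOf_eq_bot.1 h1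
      have h3 : S1 ≤ Subgroup.centralizer (S : Set (G ⧸ pPrimeCore p G)) := by
        intro x hx
        rw [Subgroup.mem_centralizer_iff]
        intro y hy
        exact (Subgroup.commute_of_normal_of_disjoint S1 S inferInstance inferInstance h2 x y hx hy).symm.eq
      rw [h.cent] at h3
      exact (hP1.trans h3).trans bot_le
    · exact Subgroup.subgroupOf_eq_top.1 h1
  have h4 := Subgroup.relIndex_mul_index hSS1
  have h5 : S.relIndex S1 ≠ 1 := by
    intro h6
    rw [Subgroup.relIndex_eq_one] at h6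
    exact hPS (hP1.trans h6)
  have h6 : S.relIndex S1 = S.index :=
    (hidx.eq_one_or_self_of_dvd _ ⟨_, h4.symm⟩).resolve_left h5
  rw [h6] at h4
  have h7 : S1.index = 1 := by
    have h8 : S.index ≠ 0 := hidx.ne_zero
    exact Nat.eq_of_mul_eq_mul_left (Nat.pos_of_ne_zero h8) (by rw [h4, mul_one])
  exact Subgroup.index_eq_one.1 h7

end ext

/-- **The row `Sz(32) : 5`.** -/
theorem rowSz32_of
    (hidx : ∀ (H : Type u) [Group H] [Finite H] (S : Subgroup H), Alm S →
      (∃ (F : Type) (_ : Field F) (_ : Fintype F), Fintype.card F = 32 ∧ Nonempty (S ≃* ↥(Lie.Sz F 8))) →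
      S.index = 1 ∨ S.index = 5)
    (hC : ∀ (H : Type u) [Group H] [Finite H] (S : Subgroup H), Alm S →
      (∃ (F : Type) (_ : Field F) (_ : Fintype F), Fintype.card F = 32 ∧ Nonempty (S ≃* ↥(Lie.Sz F 8))) →
      S.index = 5 → ∀ R : Sylow 5 H, ∀ x ∈ Subgroup.centralizer ((R : Subgroup H) : Set H), ¬ 5 ∣ orderOf x → x = 1)
    (hmult : ∀ (F : Type) [Field F] [Fintype F], Fintype.card F = 32 → HasCyclicSchurMultiplier ↥(Lie.Sz F 8) 1)
    (hcnt : ∀ (H : Type u) [Group H] [Finite H] (S : Subgroup H), Alm S →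
      (∃ (F : Type) (_ : Field F) (_ : Fintype F), Fintype.card F = 32 ∧ Nonempty (S ≃* ↥(Lie.Sz F 8))) →
      S.index = 5 → Cnt 5 H) : RowSz32.{u} := by
  intro G _ _ P S hS hPS hXS
  haveI : Fact (Nat.Prime 5) := ⟨by norm_num⟩
  haveI := hS.normal
  haveI := hS.simple
  have hA : Alm S := ⟨hS.normal, hS.cent⟩
  have h5 : S.index = 5 := by
    rcases hidx _ S hA hXS with h1 | h1
    · exfalso
      apply hPS
      rw [Subgroup.index_eq_one.1 h1]
      exact le_top
    · exact h1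
  have htop := normalClosure_eq_top P hS hPS (by rw [h5]; norm_num)
  have hcyc : IsCyclic ((G ⧸ pPrimeCore 5 G) ⧸ S) := isCyclic_of_index (Or.inr (by rw [h5]; norm_num))
  have hP1 : (P : Subgroup G) ≠ ⊥ := by
    intro h1
    apply hPS
    unfold img
    rw [h1, Subgroup.map_bot]
    exact bot_le
  obtain ⟨F, hF, hF', hF32, ⟨e⟩⟩ := hXS
  refine rk_of_disj P hP1 hS.ti hS.cen ?_ ⊤ htop ?_ (fun U hU => ?_)
    (disj_of_mult_ext P hS.cen htop S hcyc (perfect_of_simple hS.nonab) e (hmult F hF32))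
  · exact hC _ S hA ⟨F, hF, hF', hF32, ⟨e⟩⟩ h5 (P.mapSurjective (QuotientGroup.mk'_surjective _))
  · exact isCyclic_of_index (Or.inl Subgroup.index_top)
  · have hSU : S ≤ U := le_top.trans hU
    have hUt : U = ⊤ := top_le_iff.1 hU
    refine hcnt U (S.subgroupOf U) (hA.sub hSU) ⟨F, hF, hF', hF32, ⟨(Subgroup.subgroupOfEquivOfLe hSU).trans e⟩⟩ ?_
    rw [hUt]
    change (S.relIndex ⊤) = 5
    rw [Subgroup.relIndex_top_right, h5]

section inv
variable {G : Type u} [Group G] [Finite G]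

/-- The stabiliser of `θ` when the elements outside of `L` invert the central subgroup. -/
theorem stab_le_of_inv {K E L : Subgroup G} [K.Normal] (hodd : Odd (Nat.card ↥(K ⊓ E)))
    (hinv : ∀ x : G, x ∉ L → ∀ z ∈ K ⊓ E, x * z * x⁻¹ = z⁻¹) {θ : K → ℂ} (hθ : IsIrrCharacter K θ)
    (l : ↥(K ⊓ E) →* ℂˣ) (hl : ∀ z : ↥(K ⊓ E), θ ⟨z, z.2.1⟩ = (l z : ℂ) * θ 1) (hl1 : l ≠ 1) : stab θ ≤ L := by
  intro x hx
  by_contra hxL
  apply hl1
  have hθ0 := isIrr_apply_one_ne_zero hθ
  have h1 : ∀ z : ↥(K ⊓ E), l z⁻¹ = l z := by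
    intro z
    obtain ⟨hxn, h2⟩ := mem_stab.1 hx
    have h3 := tw_apply' hxn θ ⟨z, z.2.1⟩ ⟨(z : G)⁻¹, K.inv_mem z.2.1⟩ (hinv x hxL z z.2).symm
    rw [h2] at h3
    have h4 := hl z⁻¹
    have h5 := hl z
    have h6 : (⟨((z⁻¹ : ↥(K ⊓ E)) : G), (z⁻¹ : ↥(K ⊓ E)).2.1⟩ : K) = ⟨(z : G)⁻¹, K.inv_mem z.2.1⟩ := rfl
    rw [h6, ← h3, h5] at h4
    exact Units.ext (mul_right_cancel₀ hθ0 h4).symm
  ext z
  congr 1
  rw [MonoidHom.one_apply]
  have h2 : l z * l z = 1 := by
    calc l z * l z = l z⁻¹ * l z := by rw [h1]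
      _ = 1 := by rw [← map_mul, inv_mul_cancel, map_one]
  have h3 : (l z) ^ 2 = 1 := by rw [sq]; exact h2
  have h4 : (l z) ^ Nat.card ↥(K ⊓ E) = 1 := by
    rw [← map_pow, pow_card_eq_one', map_one]
  have h5 : orderOf (l z) ∣ 2 := orderOf_dvd_of_pow_eq_one h3
  have h6 : orderOf (l z) ∣ Nat.card ↥(K ⊓ E) := orderOf_dvd_of_pow_eq_one h4
  exact orderOf_eq_one_iff.1 (Nat.eq_one_of_dvd_coprimes hodd.coprime_two_left h5 h6)

end inv

end Cfsg.Agent.H681.TI
end

-- part: H681/TI/McLRow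
section
/-!
# S4819: the row `McL`, `p = 5`, from the counts (helper681)

* `Alm.index_dvd` : `|H : S|` divides `|Out S|`;
* `rowMcL_of` : `RowMcL` from `C_H(R)`, the counts `Cnt 5` for `McL`, `McL.2`, and the two numbers for `3.McL`.
-/

set_option autoImplicit false
set_option linter.style.haveILetI false
set_option linter.unusedSectionVars false

open Cfsg
open scoped Pointwise commutatorElement

namespace Cfsg.Agent.H681.TI

open Cfsg.Agent.H672 Cfsg.Agent.H672.RM Cfsg.Agent.H675.Nd Cfsg.Agent.Characters.Core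
open Cfsg.Agent.H723.TI (TIs Rk Sit img Row RowMcL)
open Cfsg.Agent.H34.TI (Cnt IsTI)

universe u v w

/-- `|H : S|` divides `|Out S|`. -/
theorem Alm.index_dvd {H : Type u} [Group H] {S : Subgroup H} (h : Alm S) {Y : Type v} [Group Y] (e : S ≃* Y) :
    S.index ∣ Nat.card (Out Y) := by
  haveI := h.normal
  let φ : H →* MulAut Y := (MulAut.congr e).toMonoidHom.comp MulAut.conjNormal
  have hφ : ∀ (x : H) (y : S), φ x (e y) = e (MulAut.conjNormal x y) := by
    intro x y
    show e (MulAut.conjNormal x (e.symm (e y))) = _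
    rw [MulEquiv.symm_apply_apply]
  have hker : φ.ker = ⊥ := by
    rw [eq_bot_iff, ← h.cent]
    intro x hx
    rw [Subgroup.mem_centralizer_iff]
    intro y hy
    have h1 : φ x (e ⟨y, hy⟩) = e ⟨y, hy⟩ := by rw [(MonoidHom.mem_ker).1 hx]; rfl
    rw [hφ] at h1
    have h2 := congrArg Subtype.val (e.injective h1)
    rw [MulAut.conjNormal_apply] at h2
    change x * y * x⁻¹ = y at h2
    rw [mul_inv_eq_iff_eq_mul] at h2
    exact h2.symm
  have hinj : Function.Injective φ := (MonoidHom.ker_eq_bot_iff φ).1 hker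
  have hS : S.map φ = (MulAut.conj : Y →* MulAut Y).range := by
    ext α
    constructor
    · rintro ⟨x, hx, rfl⟩
      refine ⟨e ⟨x, hx⟩, ?_⟩
      ext y
      obtain ⟨y, rfl⟩ := e.surjective y
      rw [hφ, MulAut.conj_apply, ← map_inv, ← map_mul, ← map_mul]
      congr 1
    · rintro ⟨y, rfl⟩
      obtain ⟨x, rfl⟩ := e.surjective y
      refine ⟨x, x.2, ?_⟩
      ext y
      obtain ⟨y, rfl⟩ := e.surjective y
      rw [hφ, MulAut.conj_apply, ← map_inv, ← map_mul, ← map_mul]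
      congr 1
  have h1 : S.index = (S.map φ).relIndex φ.range := by
    rw [← Subgroup.relIndex_top_right, ← Subgroup.relIndex_map_map_of_injective S ⊤ hinj, MonoidHom.range_eq_map]
  rw [h1, hS]
  have h2 : Nat.card (Out Y) = (MulAut.conj : Y →* MulAut Y).range.index := rfl
  rw [h2]
  haveI : (MulAut.conj : Y →* MulAut Y).range.Normal := inferInstanceAs (Inn Y).Normal
  exact Subgroup.relIndex_dvd_index_of_normal _ _

theorem Alm.index_prime {H : Type u} [Group H] {S : Subgroup H} (h : Alm S) {Y : Type v} [Group Y] (e : S ≃* Y)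
    {q : ℕ} (hq : q.Prime) (hY : Nat.card (Out Y) = q) : S.index = 1 ∨ S.index = q :=
  (Nat.dvd_prime hq).1 (hY ▸ h.index_dvd e)

section mcl
variable {G : Type u} [Group G] [Finite G] {p : ℕ} [hp : Fact p.Prime]

/-- the normalizer of `P` in `E` -/
theorem mem_normalizer_sub {E P : Subgroup G} (hPE : P ≤ E) (x : E) :
    x ∈ Subgroup.normalizer ((P.subgroupOf E : Subgroup E) : Set E) ↔ (x : G) ∈ Subgroup.normalizer (P : Set G) := by
  rw [Subgroup.mem_normalizer_iff, Subgroup.mem_normalizer_iff]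
  constructor
  · intro h y
    by_cases hy : y ∈ E
    · exact h ⟨y, hy⟩
    · constructor
      · intro hy'
        exact absurd (hPE hy') hy
      · intro hy'
        exfalso
        apply hy
        have h1 := hPE hy'
        have h2 : (x : G)⁻¹ * ((x : G) * y * (x : G)⁻¹) * x = y := by group
        rw [← h2]
        exact E.mul_mem (E.mul_mem (E.inv_mem x.2) h1) x.2
  · intro h y
    exact h y

/-- a Sylow TI subgroup is TI in every overgroup -/
theorem tis_subtype {p : ℕ} {P : Sylow p G} {E : Subgroup G} (hPE : (P : Subgroup G) ≤ E) (h : TIs P) :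
    TIs (P.subtype hPE) := by
  intro g hg
  have hg' : (g : G) ∉ Subgroup.normalizer ((P : Subgroup G) : Set G) := fun e => hg ((mem_normalizer_sub hPE g).2 e)
  have h1 := h g hg'
  rw [Subgroup.eq_bot_iff_forall]
  intro x hx
  obtain ⟨hx1, hx2⟩ := Subgroup.mem_inf.1 hx
  have h3 : (x : G) ∈ (P : Subgroup G) ⊓ (MulAut.conj (g : G) • (P : Subgroup G)) := by
    refine Subgroup.mem_inf.2 ⟨Subgroup.mem_subgroupOf.1 hx1, ?_⟩
    rw [Subgroup.mem_pointwise_smul_iff_inv_smul_mem] at hx2 ⊢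
    exact Subgroup.mem_subgroupOf.1 hx2
  rw [h1, Subgroup.mem_bot] at h3
  exact Subtype.ext h3

end mcl

/-- **The row `McL`.** -/
theorem rowMcL_of
    (hC : ∀ (H : Type u) [Group H] [Finite H] (S : Subgroup H), Alm S → Spor.IsoMcL S → ∀ R : Sylow 5 H,
      (R : Subgroup H) ≤ S → ∀ x ∈ Subgroup.centralizer ((R : Subgroup H) : Set H), ¬ 5 ∣ orderOf x → x = 1)
    (hcnt : ∀ (H : Type u) [Group H] [Finite H] (S : Subgroup H), Alm S → Spor.IsoMcL S → Cnt 5 H)
    (n : ℕ)
    (hE : ∀ (E : Type u) [Group E] [Finite E], commutator E = ⊤ → ∀ (Z : Subgroup E) [Z.Normal],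
      Z ≤ Subgroup.center E → Nat.card Z = 3 → Spor.IsoMcL (E ⧸ Z) → ∀ l : Z →* ℂˣ, l ≠ 1 →
      Nat.card {η : IrrCharacter E // (∀ z : Z, (η : E → ℂ) z = (l z : ℂ) * (η : E → ℂ) 1) ∧ ¬ DZ 5 (η : E → ℂ)} = n)
    (hN : ∀ (E : Type u) [Group E] [Finite E], commutator E = ⊤ → ∀ (Z : Subgroup E) [Z.Normal],
      Z ≤ Subgroup.center E → Nat.card Z = 3 → Spor.IsoMcL (E ⧸ Z) → ∀ l : Z →* ℂˣ, l ≠ 1 → ∀ R : Sylow 5 E, TIs R →
      Nat.card {η : IrrCharacter (Subgroup.normalizer ((R : Subgroup E) : Set E)) //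
        ∀ z : Z, ∀ hz : (z : E) ∈ Subgroup.normalizer ((R : Subgroup E) : Set E),
          (η : Subgroup.normalizer ((R : Subgroup E) : Set E) → ℂ) ⟨z, hz⟩ = (l z : ℂ) *
            (η : Subgroup.normalizer ((R : Subgroup E) : Set E) → ℂ) 1} = n) :
    RowMcL.{u} := by
  intro G _ _ P S hS hPS hXS
  haveI : Fact (Nat.Prime 5) := ⟨by norm_num⟩
  haveI := hS.normal
  haveI := hS.simple
  have hA : Alm S := ⟨hS.normal, hS.cent⟩
  obtain ⟨e⟩ := id hXS
  have h5S : 5 ∣ Nat.card S := by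
    obtain ⟨-, -, hcard, -⟩ := Cfsg.Agent.TypeM.FactsMcL.facts hXS
    rw [hcard]; norm_num
  have hP1 := ne_bot_of_dvd P h5S
  have hS1 := normalClosure_eq P hS hP1 hPS
  have hperfS : commutator S = ⊤ := perfect_of_simple hS.nonab
  have hidx : S.index = 1 ∨ S.index = 2 := hA.index_prime e Nat.prime_two S2073.result
  refine rk_of_frame P hP1 hS.ti hS.cen (hC _ S hA hXS (P.mapSurjective (QuotientGroup.mk'_surjective _)) hPS) S hS1
    (isCyclic_of_index (hidx.imp id fun h => by rw [h]; exact Nat.prime_two))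
    (fun U hU => hcnt U (S.subgroupOf U) (hA.sub hU) ⟨(Subgroup.subgroupOfEquivOfLe hU).trans e⟩) ?_
  have hcomm := comm_normalClosure hS.cen
  have hEp := perfect_normalClosure P hS.cen hS1 hperfS
  have hdvd := card_dvd_of_mult P hS.cen hS1 hperfS e S2047.result
  have hPE : (P : Subgroup G) ≤ Subgroup.normalClosure ((P : Subgroup G) : Set G) := Subgroup.le_normalClosure
  set E := Subgroup.normalClosure ((P : Subgroup G) : Set G) with hEdef
  set K := pPrimeCore 5 G with hKdef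
  intro θ hθ l hl hl1
  haveI hKn : K.Normal := Lib.Cores.pPrimeCore_normal 5
  haveI hEn : E.Normal := Subgroup.normalClosure_normal
  have hcard3 : Nat.card ↥(K ⊓ E) = 3 := by
    rcases (Nat.dvd_prime Nat.prime_three).1 hdvd with h | h
    · exfalso
      apply hl1
      ext z
      have h1 : z = 1 := Subtype.ext (Subgroup.mem_bot.1 (Subgroup.card_eq_one.1 h ▸ z.2))
      rw [h1, map_one, map_one]
    · exact h
  -- the cover
  let e1 : E.map (QuotientGroup.mk' K) ≃* S := MulEquiv.subgroupCongr hS1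
  let ρ : E →* S := e1.toMonoidHom.comp ((QuotientGroup.mk' K).subgroupMap E)
  have hρ : Function.Surjective ρ := e1.surjective.comp ((QuotientGroup.mk' K).subgroupMap_surjective E)
  have hρv : ∀ x : E, ((ρ x : S) : G ⧸ K) = QuotientGroup.mk' K x := fun _ => rfl
  have hρk : ρ.ker = K.subgroupOf E := by
    ext x
    rw [MonoidHom.mem_ker, Subgroup.mem_subgroupOf, ← QuotientGroup.eq_one_iff (N := K)]
    exact ⟨fun h => congrArg Subtype.val h, fun h => Subtype.ext h⟩
  let π : E →* ↥Spor.McL := e.toMonoidHom.comp ρ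
  have hπ : Function.Surjective π := e.surjective.comp hρ
  have hπk : π.ker = K.subgroupOf E := by
    rw [← hρk]
    ext x
    rw [MonoidHom.mem_ker, MonoidHom.mem_ker]
    exact e.map_eq_one_iff
  have hZc : K.subgroupOf E ≤ Subgroup.center E := by
    intro x hx
    rw [Subgroup.mem_center_iff]
    intro y
    exact Subtype.ext (hcomm x (Subgroup.mem_subgroupOf.1 hx) y y.2).symm
  have hZ3 : Nat.card (K.subgroupOf E) = 3 := by
    rw [← Subgroup.card_map_of_injective (Subgroup.subtype_injective E), Subgroup.subgroupOf_map_subtype]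
    exact hcard3
  have hiso : Spor.IsoMcL (E ⧸ K.subgroupOf E) :=
    ⟨((QuotientGroup.quotientMulEquivOfEq hπk.symm).trans (QuotientGroup.quotientKerEquivOfSurjective π hπ))⟩
  -- inversion
  have hinv : ∀ x : G, x ∉ K ⊔ E → ∀ z ∈ K ⊓ E, x * z * x⁻¹ = z⁻¹ := by
    intro x hx z hz
    refine McLCov.inv_of_outer E hEp π hπ (hπk ▸ hZc) (by rw [hπk]; exact hZ3) x ?_ ⟨z, hz.2⟩ (by
      rw [hπk]; exact hz.1)
    rintro ⟨g, hg, hge⟩
    apply hx
    have h1 : QuotientGroup.mk' K (g⁻¹ * x) ∈ Subgroup.centralizer (S : Set (G ⧸ K)) := by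
      rw [Subgroup.mem_centralizer_iff]
      intro s hs
      have hs' : s ∈ E.map (QuotientGroup.mk' K) := by rw [hS1]; exact hs
      obtain ⟨y, hy, rfl⟩ := hs'
      rw [← map_mul, ← map_mul]
      congr 1
      have h2 := hge y hy
      calc y * (g⁻¹ * x) = g⁻¹ * (g * y * g⁻¹) * x := by group
        _ = g⁻¹ * (x * y * x⁻¹) * x := by rw [h2]
        _ = g⁻¹ * x * y := by group
    rw [hS.cent, Subgroup.mem_bot] at h1
    have h3 : g⁻¹ * x ∈ K := (QuotientGroup.eq_one_iff _).1 h1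
    have h4 : x = g * (g⁻¹ * x) := by group
    rw [h4]
    exact Subgroup.mul_mem _ ((le_sup_right : E ≤ K ⊔ E) hg) ((le_sup_left : K ≤ K ⊔ E) h3)
  refine ⟨stab_le_of_inv (by rw [hcard3]; decide) hinv hθ l hl hl1, ?_⟩
  -- the numbers
  let zE : K.subgroupOf E →* ↥(K ⊓ E) :=
    { toFun := fun z => ⟨(z : E), Subgroup.mem_subgroupOf.1 z.2, (z : E).2⟩
      map_one' := rfl
      map_mul' := fun _ _ => rfl }
  have hzE : Function.Surjective zE := fun z => ⟨⟨⟨z, z.2.2⟩, Subgroup.mem_subgroupOf.2 z.2.1⟩, rfl⟩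
  have hl' : l.comp zE ≠ 1 := by
    intro h
    apply hl1
    ext z
    obtain ⟨z, rfl⟩ := hzE z
    have h1 := DFunLike.congr_fun h z
    exact congrArg Units.val h1
  have n1 := hE E hEp (K.subgroupOf E) hZc hZ3 hiso (l.comp zE) hl'
  have n2 := hN E hEp (K.subgroupOf E) hZc hZ3 hiso (l.comp zE) hl' (P.subtype hPE) (tis_subtype hPE hS.ti)
  have m1 : Nat.card {η : IrrCharacter E // (∀ z : ↥(K ⊓ E), (η : E → ℂ) ⟨z, z.2.2⟩ = (l z : ℂ) * (η : E → ℂ) 1) ∧
      ¬ DZ 5 (η : E → ℂ)} = n := by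
    rw [← n1]
    refine Nat.card_congr (Equiv.subtypeEquivRight fun η => ?_)
    refine and_congr_left fun _ => ?_
    constructor
    · intro h z
      exact h (zE z)
    · intro h z
      exact h ⟨⟨z, z.2.2⟩, Subgroup.mem_subgroupOf.2 z.2.1⟩
  rw [m1, ← n2]
  -- the normalizer
  have hNmem : ∀ x : E, x ∈ Subgroup.normalizer (((P.subtype hPE : Sylow 5 E) : Subgroup E) : Set E) ↔
      (x : G) ∈ Subgroup.normalizer ((P : Subgroup G) : Set G) := mem_normalizer_sub hPE
  let ν : (Subgroup.normalizer ((P : Subgroup G) : Set G) ⊓ E : Subgroup G) ≃*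
      Subgroup.normalizer (((P.subtype hPE : Sylow 5 E) : Subgroup E) : Set E) :=
    { toFun := fun x => ⟨⟨x, x.2.2⟩, (hNmem _).2 x.2.1⟩
      invFun := fun y => ⟨(y : E), (hNmem _).1 y.2, (y : E).2⟩
      left_inv := fun _ => rfl
      right_inv := fun _ => rfl
      map_mul' := fun _ _ => rfl }
  refine Nat.card_congr ((irrEquiv ν).subtypeEquiv fun η => ?_)
  constructor
  · intro h z hz
    exact h ⟨⟨z, z.2.2⟩, Subgroup.mem_subgroupOf.2 z.2.1⟩ ((hNmem _).2 hz.1)
  · intro h z hz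
    exact h (zE z) ⟨(hNmem _).1 hz, (z : E).2⟩

end Cfsg.Agent.H681.TI
end
end

-- part: H199/TI/Grp
section
set_option linter.all false
open scoped Cfsg.Agent.FastGrp

/-!
# S4819/S4820, row `PSL₃(4)`: TI Sylow subgroups and central `p'`-kernels (helper199)

`f : A →* B` with a kernel of order prime to `p` centralised by the Sylow `p`-subgroup `P` of `A`:

* `norm_iff` : `f a` normalises `f P` iff `a` normalises `P`;
* `ti_map` : `f P` is TI iff `P` is TI.
-/

set_option autoImplicit false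

open Cfsg
open scoped Pointwise

namespace Cfsg.Agent.H199.TI

open Cfsg.Agent.H723.TI (TIs)

universe u v

section
variable {A : Type u} {B : Type v} [Group A] [Group B] [Finite A] {p : ℕ} [hp : Fact p.Prime]

/-- An element `y k` of `p`-power order, `k` in a `p'`-subgroup centralising `y`. -/
theorem eq_one_of_mul {P L : Subgroup A} (hP : IsPGroup p P) (hL : ¬ p ∣ Nat.card L)
    (hc : ∀ k ∈ L, ∀ x ∈ P, k * x = x * k) {y k : A} (hy : y ∈ P) (hk : k ∈ L)
    (h : ∃ m : ℕ, (y * k) ^ p ^ m = 1) : k = 1 := by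
  obtain ⟨m, hm⟩ := h
  have hcomm : Commute y k := (hc k hk y hy).symm
  obtain ⟨l, hl⟩ := hP ⟨y, hy⟩
  have hl' : y ^ p ^ l = 1 := congrArg Subtype.val hl
  have h3 : (y * k) ^ p ^ (m + l) = 1 := by
    rw [pow_add, pow_mul, hm, one_pow]
  rw [hcomm.mul_pow, pow_add, mul_comm (p ^ m) (p ^ l), pow_mul y, hl', one_pow, one_mul] at h3
  have h4 : orderOf k ∣ p ^ l * p ^ m := orderOf_dvd_of_pow_eq_one h3
  have h5 : orderOf k ∣ Nat.card L := by
    have := orderOf_dvd_natCard (⟨k, hk⟩ : L)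
    rwa [Subgroup.orderOf_mk] at this
  have h6 : Nat.Coprime (p ^ l * p ^ m) (Nat.card L) := by
    rw [← pow_add]
    exact Nat.Coprime.pow_left _ ((Nat.Prime.coprime_iff_not_dvd hp.out).2 hL)
  exact orderOf_eq_one_iff.1 (Nat.eq_one_of_dvd_coprimes h6 h4 h5)

/-- `f (a b a⁻¹) = f y` with `b`, `y` in `P`. -/
theorem conj_eq_of_map (f : A →* B) {P : Subgroup A} (hP : IsPGroup p P) (hk : ¬ p ∣ Nat.card f.ker)
    (hc : ∀ k ∈ f.ker, ∀ x ∈ P, k * x = x * k) {a b y : A} (hb : b ∈ P) (hy : y ∈ P)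
    (h : f (a * b * a⁻¹) = f y) : a * b * a⁻¹ = y := by
  have h1 : y⁻¹ * (a * b * a⁻¹) ∈ f.ker := by
    rw [MonoidHom.mem_ker, map_mul, h, map_inv, inv_mul_cancel]
  have h2 := eq_one_of_mul hP hk hc hy h1 (by
    obtain ⟨m, hm⟩ := hP ⟨b, hb⟩
    have hm' : b ^ p ^ m = 1 := congrArg Subtype.val hm
    refine ⟨m, ?_⟩
    rw [mul_inv_cancel_left, conj_pow, hm', mul_one, mul_inv_cancel])
  rw [inv_mul_eq_one] at h2
  exact h2.symm

theorem norm_iff (f : A →* B) {P : Subgroup A} (hP : IsPGroup p P) (hk : ¬ p ∣ Nat.card f.ker)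
    (hc : ∀ k ∈ f.ker, ∀ x ∈ P, k * x = x * k) (a : A) :
    f a ∈ Subgroup.normalizer (P.map f : Set B) ↔ a ∈ Subgroup.normalizer (P : Set A) := by
  constructor
  · intro h
    have hsub : ∀ b ∈ P, a * b * a⁻¹ ∈ P := by
      intro b hb
      obtain ⟨y, hy, hy'⟩ := (Subgroup.mem_normalizer_iff.1 h (f b)).1 ⟨b, hb, rfl⟩
      have h1 := conj_eq_of_map f hP hk hc (a := a) hb hy (by rw [hy', map_mul, map_mul, map_inv])
      rw [h1]
      exact hy
    have h7 : P.map (MulAut.conj a).toMonoidHom = P := by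
      apply Subgroup.eq_of_le_of_card_ge
      · rintro _ ⟨b, hb, rfl⟩
        exact hsub b hb
      · rw [Subgroup.card_map_of_injective (MulAut.conj a).injective]
    rw [Subgroup.mem_normalizer_iff]
    intro b
    refine ⟨fun hb => hsub b hb, fun hb => ?_⟩
    have hb' : a * b * a⁻¹ ∈ P := hb
    rw [← h7] at hb'
    obtain ⟨b', hb'', he⟩ := hb'
    have h8 : b' = b := (MulAut.conj a).injective he
    exact h8 ▸ hb''
  · intro h
    rw [Subgroup.mem_normalizer_iff]
    intro y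
    constructor
    · rintro ⟨b, hb, rfl⟩
      exact ⟨a * b * a⁻¹, (Subgroup.mem_normalizer_iff.1 h b).1 hb, by simp⟩
    · rintro ⟨b, hb, hb'⟩
      refine ⟨a⁻¹ * b * a, ?_, ?_⟩
      · have h9 := (Subgroup.mem_normalizer_iff.1 (Subgroup.inv_mem _ h) b).1 hb
        simpa using h9
      · rw [map_mul, map_mul, map_inv, hb']
        group

theorem ti_map (f : A →* B) (hf : Function.Surjective f) (P : Sylow p A) (hk : ¬ p ∣ Nat.card f.ker)
    (hc : ∀ k ∈ f.ker, ∀ x ∈ (P : Subgroup A), k * x = x * k) :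
    TIs (P.mapSurjective hf) ↔ TIs P := by
  have hmap : ((P.mapSurjective hf : Sylow p B) : Subgroup B) = (P : Subgroup A).map f := rfl
  unfold TIs
  rw [hmap]
  constructor
  · intro h a ha
    rw [eq_bot_iff]
    rintro x ⟨hx1, b, hb, hx2⟩
    have h1 := h (f a) (fun h2 => ha ((norm_iff f P.2 hk hc a).1 h2))
    have h2 : f x ∈ (P : Subgroup A).map f ⊓ MulAut.conj (f a) • (P : Subgroup A).map f := by
      refine ⟨⟨x, hx1, rfl⟩, f b, ⟨b, hb, rfl⟩, ?_⟩
      have hx2' : a * b * a⁻¹ = x := hx2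
      change f a * f b * (f a)⁻¹ = f x
      rw [← hx2', map_mul, map_mul, map_inv]
    rw [h1, Subgroup.mem_bot] at h2
    rw [Subgroup.mem_bot]
    have h3 : x⁻¹ ∈ f.ker := by rw [MonoidHom.mem_ker, map_inv, h2, inv_one]
    have h4 := eq_one_of_mul P.2 hk hc hx1 h3 ⟨0, by rw [pow_zero, pow_one, mul_inv_cancel]⟩
    exact inv_eq_one.1 h4
  · intro h g hg
    obtain ⟨a, rfl⟩ := hf g
    rw [eq_bot_iff]
    rintro y ⟨⟨x, hx, rfl⟩, z, ⟨b, hb, rfl⟩, hz⟩
    have hz' : f a * f b * (f a)⁻¹ = f x := hz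
    have h1 := conj_eq_of_map f P.2 hk hc (a := a) hb hx (by rw [← hz', map_mul, map_mul, map_inv])
    have h2 := h a (fun h3 => hg ((norm_iff f P.2 hk hc a).2 h3))
    have h3 : x ∈ (P : Subgroup A) ⊓ MulAut.conj a • (P : Subgroup A) := ⟨hx, b, hb, h1⟩
    rw [h2, Subgroup.mem_bot] at h3
    rw [h3, map_one]
    exact Subgroup.mem_bot.2 rfl

end

end Cfsg.Agent.H199.TI
end

-- part: H723/TI/Dich
section
prune_inst 0xc02012000140000000000580d10060000400009000008000d0c0064402000222090080000c00040810088000000500281000003000000000000004000001000008801204b1480000000006011003000000000000000000000000000000000004000000000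
set_option linter.all false
open scoped Cfsg.Agent.FastGrp

-- part: H723/TI/Triv
section
/-!
# S4819: the trivial cases (`P` normal or trivial)
-/

set_option autoImplicit false

namespace Cfsg.Agent.H723.TI

open Cfsg Cfsg.Agent.Characters
open scoped Pointwise

universe u

variable {G : Type u} [Group G] [Finite G]

/-- a block of `K = G` induces its transport to `G` -/
theorem isInducedBlock_top' {M : Ideal AlgInt} [M.IsPrime] {K : Subgroup G} (hK : K = ⊤) {f : Set (IrrCharacter K)}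
    (hf : IsPBlock M f) : ∃ ι : K ≃* G, IsInducedBlock M K f (H649.blkMap ι f) := by
  subst hK
  have := Fintype.ofFinite G
  have := Fintype.ofFinite (⊤ : Subgroup G)
  refine ⟨Subgroup.topEquiv, hf, H649.isPBlock_blkMap hf, ?_⟩
  rintro ξ hξ _ ⟨χ, hχ, rfl⟩ g
  have h1 : classInner (fun n : (⊤ : Subgroup G) =>
      (Cfsg.Agent.H649.irrMap Subgroup.topEquiv ξ : G → ℂ) n)
      (ξ : (⊤ : Subgroup G) → ℂ) ≠ 0 := by
    have h2 : (fun n : (⊤ : Subgroup G) =>
      (Cfsg.Agent.H649.irrMap Subgroup.topEquiv ξ : G → ℂ) n) = ξ := by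
      funext n
      exact H649.irrMap_apply' Subgroup.topEquiv ξ n
    rw [h2, Core.classInner_irr_self ξ.2]
    exact one_ne_zero
  have h2 := Cfsg.Agent.Blocks.CliffordCentral.centralChar_eq_inducedCentralChar ⊤ _ ξ h1
    ⟨g, Subgroup.mem_top g⟩
  rw [← h2]
  exact Cfsg.Agent.Blocks.Basic.isPBlock_sameBlock (H649.isPBlock_blkMap hf)
    (H649.irrMap_mem_blkMap.2 hξ) (H649.irrMap_mem_blkMap.2 hχ) g

/-- `K = G`: `b` and the block it induces have the same rank -/
theorem rank_top {p : ℕ} [Fact p.Prime] {M : Ideal AlgInt} (hM : IsPModular p M) {K : Subgroup G} (hK : K = ⊤)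
    {b : Set (IrrCharacter K)} {B : Set (IrrCharacter G)} (hb : IsInducedBlock M K b B) :
    blockRank p B = blockRank p b := by
  have := Fintype.ofFinite G
  have : M.IsPrime := hM.2.1.isPrime
  obtain ⟨ι, hι⟩ := isInducedBlock_top' hK hb.1
  rw [H648.Dict.isInducedBlock_unique hb hι, H649.blockRank_blkMap]

/-- S4819 for `N_G(P) = G` -/
theorem rk_normal {p : ℕ} [Fact p.Prime] (P : Sylow p G) (hP : Subgroup.normalizer ((P : Subgroup G) : Set G) = ⊤) :
    Rk p P :=
  fun _ hM _ _ _ _ hb => rank_top hM hP hb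

end Cfsg.Agent.H723.TI
end

-- part: H723/TI/QGrp
section
/-!
# Groups with a generalised quaternion TI Sylow 2-subgroup

`P` TI, generalised quaternion, `N = N_G(P)`, `K = O_{2'}(G)`: `G = K N`, `K ∩ N` centralises `P`, `K P` is normal of index
1 or 3 (`QH`), and the same holds in `N` with `K ∩ N`.
-/

set_option autoImplicit false

namespace Cfsg.Agent.H723.TI

open Cfsg
open scoped Pointwise

universe u

/-- the structure of the groups in question -/
structure QH {X : Type u} [Group X] (K P : Subgroup X) (n : ℕ) : Prop where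
  Kn : K.Normal
  Kodd : ¬ 2 ∣ Nat.card K
  pP : IsPGroup 2 P
  sP : ¬ 2 ∣ P.index
  n3 : 3 ≤ n
  q : Nonempty (P ≃* QuaternionGroup (2 ^ (n - 2)))
  Gn : (K ⊔ P).Normal
  idx : (K ⊔ P).index = 1 ∨ ((K ⊔ P).index = 3 ∧ n = 3 ∧
    ∀ x : X, x ∉ K ⊔ P → ¬ 2 ∣ orderOf x → ¬ 4 ∣ Nat.card (Subgroup.centralizer ({x} : Set X)))

section

variable {G : Type u} [Group G]

theorem TIs.mem {p : ℕ} {P : Sylow p G} (h : TIs P) {x g : G} (hx : x ∈ (P : Subgroup G)) (hx1 : x ≠ 1)
    (hg : g⁻¹ * x * g ∈ (P : Subgroup G)) : g ∈ Subgroup.normalizer ((P : Subgroup G) : Set G) := by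
  by_contra hcon
  have h1 : x ∈ (P : Subgroup G) ⊓ (MulAut.conj g • (P : Subgroup G)) := by
    refine Subgroup.mem_inf.2 ⟨hx, ?_⟩
    rw [Subgroup.mem_pointwise_smul_iff_inv_smul_mem, ← map_inv, MulAut.smul_def,
      MulAut.conj_apply, inv_inv]
    exact hg
  rw [h g hcon, Subgroup.mem_bot] at h1
  exact hx1 h1

theorem TIs.cent_le {p : ℕ} {P : Sylow p G} (h : TIs P) {x : G} (hx : x ∈ (P : Subgroup G)) (hx1 : x ≠ 1)
    {g : G} (hg : g * x = x * g) : g ∈ Subgroup.normalizer ((P : Subgroup G) : Set G) := by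
  apply h.mem hx hx1
  rw [mul_assoc, ← hg, inv_mul_cancel_left]
  exact hx

variable [Finite G]

/-- an involution commuting with no other conjugate of itself is central modulo the odd core -/
theorem centralizer_sup_core {t : G} (ht : orderOf t = 2)
    (hiso : ∀ g : G, g * t * g⁻¹ * t = t * (g * t * g⁻¹) → g * t * g⁻¹ = t) (g : G) :
    ∃ m ∈ pPrimeCore 2 G, (m⁻¹ * g) * t = t * (m⁻¹ * g) := by
  have : Fact (Nat.Prime 2) := ⟨Nat.prime_two⟩
  have htt : t * t = 1 := by rw [← pow_two, ← ht, pow_orderOf_eq_one]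
  -- a Sylow 2-subgroup containing `t`
  have hp : IsPGroup 2 (Subgroup.zpowers t) := IsPGroup.of_card (n := 1) (by rw [Nat.card_zpowers, ht, pow_one])
  obtain ⟨P, hP⟩ := hp.exists_le_sylow
  have htP : t ∈ P := hP (Subgroup.mem_zpowers t)
  -- `t` is central in `P`
  have hcen : ∀ x ∈ P, x * t = t * x := by
    by_contra hne
    set H : Subgroup ↥(P : Subgroup G) := Subgroup.centralizer {(⟨t, htP⟩ : ↥(P : Subgroup G))} with hH
    have : Group.IsNilpotent ↥(P : Subgroup G) := P.isPGroup'.isNilpotent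
    have hlt : H < ⊤ := by
      rw [lt_top_iff_ne_top]
      intro h
      apply hne
      intro x hx
      have h1 : (⟨x, hx⟩ : ↥(P : Subgroup G)) ∈ H := by rw [h]; trivial
      rw [hH, Subgroup.mem_centralizer_singleton_iff] at h1
      exact congrArg Subtype.val h1
    have h2 := Group.normalizerCondition_of_isNilpotent H hlt
    obtain ⟨x, hx1, hx2⟩ := SetLike.exists_of_lt h2
    have h3 : x * (⟨t, htP⟩ : ↥(P : Subgroup G)) * x⁻¹ ∈ H :=
      (Subgroup.mem_normalizer_iff.1 hx1 _).1 (by rw [hH, Subgroup.mem_centralizer_singleton_iff])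
    rw [hH, Subgroup.mem_centralizer_singleton_iff] at h3
    have h4 := congrArg Subtype.val h3
    have h5 : (x : G) * t * (x : G)⁻¹ = t := hiso x h4
    apply hx2
    rw [hH, Subgroup.mem_centralizer_singleton_iff]
    refine Subtype.ext ?_
    change (x : G) * t = t * x
    exact mul_inv_eq_iff_eq_mul.1 h5
  obtain ⟨N, hN, hodd, hcomm⟩ := Cfsg.Agent.S0215.result P t ht htP (fun g hg => hiso g (hcen _ hg))
  have hNle : N ≤ pPrimeCore 2 G := le_sSup ⟨hN, (Nat.coprime_two_right.2 hodd)⟩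
  -- `n = g t g⁻¹ t` lies in `N` and is inverted by `t`
  set n : G := g * t * g⁻¹ * t with hn
  have hnN : n ∈ N := by
    have h1 := N.inv_mem (hcomm g)
    have h2 : (t * g * t⁻¹ * g⁻¹)⁻¹ = g * t * g⁻¹ * t⁻¹ := by group
    have h3 : t⁻¹ = t := inv_eq_of_mul_eq_one_left htt
    rw [h2, h3] at h1
    exact h1
  have hinv : t * n * t = n⁻¹ := by
    have h3 : t⁻¹ = t := inv_eq_of_mul_eq_one_left htt
    rw [hn, mul_inv_rev, mul_inv_rev, mul_inv_rev, inv_inv, h3]
    simp only [← mul_assoc]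
    rw [mul_assoc (t * g * t * g⁻¹), htt, mul_one]
  have hno : Odd (orderOf n) := by
    have h1 : orderOf n ∣ Nat.card N := by
      have := orderOf_dvd_natCard (⟨n, hnN⟩ : N)
      rwa [Subgroup.orderOf_mk] at this
    exact hodd.of_dvd_nat h1
  obtain ⟨k, hk⟩ := hno
  -- a square root
  set m : G := n ^ (k + 1) with hm
  have hmm : m * m = n := by
    rw [hm, ← pow_add]
    have : k + 1 + (k + 1) = orderOf n + 1 := by omega
    rw [this, pow_succ, pow_orderOf_eq_one, one_mul]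
  have hminv : t * m * t = m⁻¹ := by
    have h3 : t⁻¹ = t := inv_eq_of_mul_eq_one_left htt
    have h4 : t * m * t = (t * n * t⁻¹) ^ (k + 1) := by
      rw [conj_pow, h3]
    rw [h4, h3, hinv, inv_pow]
  have hmN : m ∈ N := N.pow_mem hnN _
  refine ⟨m, hNle hmN, ?_⟩
  have h7 : g * t = n * t * g := by
    rw [hn]
    have : g * t * g⁻¹ * t * t * g = g * t * g⁻¹ * (t * t) * g := by group
    rw [this, htt]; group
  have h8 : m * t = t * m⁻¹ := by
    rw [← hminv, ← mul_assoc, ← mul_assoc, htt, one_mul]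
  calc m⁻¹ * g * t = m⁻¹ * (m * m) * t * g := by rw [mul_assoc, h7, hmm]; group
    _ = (m * t) * g := by group
    _ = t * (m⁻¹ * g) := by rw [h8]; group

/-- A `p`-element normalising a Sylow `p`-subgroup lies in it. -/
theorem mem_of_normalizes {p : ℕ} [Fact p.Prime] {P : Sylow p G} {x : G}
    (hx : x ∈ Subgroup.normalizer ((P : Subgroup G) : Set G)) {k : ℕ} (hxk : x ^ p ^ k = 1) : x ∈ (P : Subgroup G) := by
  have hz : IsPGroup p (Subgroup.zpowers x) := by
    have : orderOf x ∣ p ^ k := orderOf_dvd_of_pow_eq_one hxk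
    obtain ⟨j, -, hj⟩ := (Nat.dvd_prime_pow (Fact.out : p.Prime)).1 this
    exact IsPGroup.of_card (n := j) (by rw [Nat.card_zpowers, hj])
  have h1 := IsPGroup.inf_normalizer_sylow hz P
  exact (h1.le ⟨Subgroup.mem_zpowers x, hx⟩).2

/-- the quaternion TI situation -/
structure QG (P : Sylow 2 G) (z : G) : Prop where
  ti : TIs P
  mem : z ∈ (P : Subgroup G)
  ord : orderOf z = 2
  uniq : ∀ x ∈ (P : Subgroup G), orderOf x = 2 → x = z

variable {P : Sylow 2 G} {z : G}

theorem QG.ne (h : QG P z) : z ≠ 1 := by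
  intro h1
  have := h.ord
  rw [h1, orderOf_one] at this
  omega

theorem QG.iso (h : QG P z) (g : G) (hg : g * z * g⁻¹ * z = z * (g * z * g⁻¹)) : g * z * g⁻¹ = z := by
  have : Fact (Nat.Prime 2) := ⟨Nat.prime_two⟩
  have h1 := h.ti.cent_le h.mem h.ne hg
  have ho : orderOf (g * z * g⁻¹) = 2 := by
    rw [← h.ord]
    exact (MulAut.conj g).orderOf_eq z
  have h2 : (g * z * g⁻¹) ^ 2 ^ 1 = 1 := by
    rw [pow_one, ← ho, pow_orderOf_eq_one]
  exact h.uniq _ (mem_of_normalizes h1 h2) ho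

theorem QG.sup_top (h : QG P z) : pPrimeCore 2 G ⊔ Subgroup.normalizer ((P : Subgroup G) : Set G) = ⊤ := by
  rw [eq_top_iff]
  intro g _
  obtain ⟨m, hm, hmg⟩ := centralizer_sup_core h.ord h.iso g
  have h9 : g = m * (m⁻¹ * g) := by group
  rw [h9]
  exact mul_mem (Subgroup.mem_sup_left hm) (Subgroup.mem_sup_right (h.ti.cent_le h.mem h.ne hmg))

theorem core_odd : ¬ 2 ∣ Nat.card (pPrimeCore 2 G) := by
  have h1 := Lib.Cores.pPrimeCore_coprime (G := G) 2
  intro h2
  have := Nat.dvd_gcd h2 (dvd_refl 2)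
  rw [h1] at this
  omega

/-- `K ∩ P = 1` for `K` of odd order -/
theorem eq_one_of_mem {K : Subgroup G} (hK : ¬ 2 ∣ Nat.card K) {x : G} (hxK : x ∈ K) (hxP : x ∈ (P : Subgroup G)) :
    x = 1 := by
  have : Fact (Nat.Prime 2) := ⟨Nat.prime_two⟩
  obtain ⟨k, hk⟩ := P.isPGroup' ⟨x, hxP⟩
  have h2 : x ^ 2 ^ k = 1 := by simpa only [_root_.SubmonoidClass.mk_pow, _root_.OneMemClass.coe_one] using congrArg Subtype.val hk
  have h3 : orderOf x ∣ Nat.card K := by
    have := orderOf_dvd_natCard (⟨x, hxK⟩ : K)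
    rwa [Subgroup.orderOf_mk] at this
  have h4 : orderOf x ∣ 2 ^ k := orderOf_dvd_of_pow_eq_one h2
  have h5 : Nat.Coprime (Nat.card K) (2 ^ k) :=
    Nat.Coprime.pow_right k ((Nat.Prime.coprime_iff_not_dvd Nat.prime_two).2 hK).symm
  have h6 := Nat.dvd_gcd h3 h4
  rw [h5] at h6
  exact orderOf_eq_one_iff.1 (Nat.dvd_one.1 h6)

/-- `K ∩ N_G(P)` centralises `P` -/
theorem cent_of_mem {K : Subgroup G} (hKn : K.Normal) (hK : ¬ 2 ∣ Nat.card K) {x : G} (hxK : x ∈ K)
    (hx : x ∈ Subgroup.normalizer ((P : Subgroup G) : Set G)) : x ∈ Subgroup.centralizer ((P : Subgroup G) : Set G) := by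
  rw [Subgroup.mem_centralizer_iff]
  intro u hu
  have h1 : x * u * x⁻¹ * u⁻¹ ∈ (P : Subgroup G) :=
    mul_mem ((Subgroup.mem_normalizer_iff.1 hx u).1 hu) (inv_mem hu)
  have h2 : x * u * x⁻¹ * u⁻¹ ∈ K := by
    have := mul_mem hxK (hKn.conj_mem x⁻¹ (inv_mem hxK) u)
    simpa only [mul_assoc] using this
  have h3 := eq_one_of_mem hK h2 h1
  have h4 : x * u * x⁻¹ = u := mul_inv_eq_one.1 h3
  exact (mul_inv_eq_iff_eq_mul.1 h4).symm

/-- The `p'`-part of the centralizer of a Sylow `p`-subgroup. -/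
theorem exists_odd_cent (P : Sylow 2 G) : ∃ Y : Subgroup G, ¬ 2 ∣ Nat.card Y ∧
    ∀ y, y ∈ Y ↔ y ∈ Subgroup.centralizer ((P : Subgroup G) : Set G) ∧ ¬ 2 ∣ orderOf y := by
  classical
  have : Fact (Nat.Prime 2) := ⟨Nat.prime_two⟩
  let C := Subgroup.centralizer ((P : Subgroup G) : Set G)
  obtain ⟨T⟩ : Nonempty (Sylow 2 C) := inferInstance
  have hT : (T : Subgroup C) ≤ Subgroup.center C := by
    intro t ht
    have h1 : (t : G) ∈ (P : Subgroup G) := by
      obtain ⟨k, hk⟩ := T.2 ⟨t, ht⟩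
      have h2 : (t : G) ^ 2 ^ k = 1 := by
        have := congrArg (fun z : (T : Subgroup C) => ((z : C) : G)) hk
        simpa only [_root_.SubmonoidClass.mk_pow, _root_.SubmonoidClass.coe_pow, _root_.OneMemClass.coe_one] using this
      exact mem_of_normalizes (Subgroup.centralizer_le_normalizer _ t.2) h2
    rw [Subgroup.mem_center_iff]
    intro c
    refine Subtype.ext ?_
    exact (Subgroup.mem_centralizer_iff.1 c.2 t h1).symm
  obtain ⟨Y', -, -, hY'c, hY'⟩ := Cfsg.Agent.Blocks.CentralSylow.exists_complement T hT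
  refine ⟨Y'.map C.subtype, ?_, fun y => ?_⟩
  · rw [Subgroup.card_map_of_injective C.subtype_injective]
    exact (Nat.Prime.coprime_iff_not_dvd Nat.prime_two).1 hY'c.symm
  · constructor
    · rintro ⟨c, hc, rfl⟩
      refine ⟨c.2, ?_⟩
      have := (hY' c).1 hc
      rwa [show orderOf (C.subtype c) = orderOf c from
        orderOf_injective C.subtype C.subtype_injective c]
    · rintro ⟨h1, h2⟩
      refine ⟨⟨y, h1⟩, (hY' _).2 ?_, rfl⟩
      rwa [Subgroup.orderOf_mk]

/-- the elements of odd order of `C_G(P)` lie in the core if `G = K N_G(P)` -/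
theorem mem_core (hsup : pPrimeCore 2 G ⊔ Subgroup.normalizer ((P : Subgroup G) : Set G) = ⊤) {y : G}
    (hy : y ∈ Subgroup.centralizer ((P : Subgroup G) : Set G)) (hyo : ¬ 2 ∣ orderOf y) : y ∈ pPrimeCore 2 G := by
  obtain ⟨Y, hYc, hY⟩ := exists_odd_cent P
  have hKn : (pPrimeCore 2 G).Normal := Lib.Cores.pPrimeCore_normal 2
  have hn : (pPrimeCore 2 G ⊔ Y).Normal := by
    rw [← Subgroup.normalizer_eq_top_iff, eq_top_iff, ← hsup]
    refine sup_le (le_trans le_sup_left Subgroup.le_normalizer) ?_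
    refine le_trans ?_ (Subgroup.normalizer_inf_normalizer_le_normalizer_sup _ Y)
    refine le_inf ?_ ?_
    · rw [Subgroup.normalizer_eq_top_iff.2 hKn]
      exact le_top
    · have key : ∀ g ∈ Subgroup.normalizer ((P : Subgroup G) : Set G), ∀ y ∈ Y, g * y * g⁻¹ ∈ Y := by
        intro g hg y hy
        rw [hY] at hy ⊢
        refine ⟨?_, ?_⟩
        · rw [Subgroup.mem_centralizer_iff]
          intro u hu
          have h1 : g⁻¹ * u * g ∈ (P : Subgroup G) := by
            have := (Subgroup.mem_normalizer_iff.1 (inv_mem hg) u).1 hu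
            simpa using this
          have h2 := Subgroup.mem_centralizer_iff.1 hy.1 _ h1
          calc u * (g * y * g⁻¹) = g * (g⁻¹ * u * g * y) * g⁻¹ := by group
            _ = g * (y * (g⁻¹ * u * g)) * g⁻¹ := by rw [h2]
            _ = g * y * g⁻¹ * u := by group
        · rw [show orderOf (g * y * g⁻¹) = orderOf y from (MulAut.conj g).orderOf_eq y]
          exact hy.2
      intro g hg
      rw [Subgroup.mem_normalizer_iff]
      intro y
      refine ⟨key g hg y, fun h => ?_⟩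
      have := key g⁻¹ (inv_mem hg) _ h
      simpa [mul_assoc] using this
  have hc : (Nat.card (pPrimeCore 2 G ⊔ Y : Subgroup G)).Coprime 2 := by
    refine Nat.Coprime.coprime_dvd_left (Lib.Cores.card_sup_dvd _ _ hKn) (Nat.Coprime.mul_left ?_ ?_)
    · exact Lib.Cores.pPrimeCore_coprime 2
    · exact ((Nat.Prime.coprime_iff_not_dvd Nat.prime_two).2 hYc).symm
  exact Lib.Cores.le_pPrimeCore hn hc (Subgroup.mem_sup_right ((hY y).2 ⟨hy, hyo⟩))

/-- an element whose odd part lies in a normal subgroup of odd index lies in it -/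
theorem mem_of_odd_part {W H : Subgroup G} (hWn : W.Normal) (hW : ¬ 2 ∣ W.index)
    (h : ∀ y ∈ H, ¬ 2 ∣ orderOf y → y ∈ W) {x : G} (hx : x ∈ H) : x ∈ W := by
  obtain ⟨a, m, hm, hxm⟩ := Nat.exists_eq_two_pow_mul_odd (orderOf_pos x).ne'
  have h1 : x ^ 2 ^ a ∈ W := by
    apply h _ (pow_mem hx _)
    rw [orderOf_pow_of_dvd (by positivity) (Dvd.intro _ hxm.symm), hxm,
      Nat.mul_div_cancel_left _ (by positivity)]
    exact hm.not_two_dvd_nat
  have h2 : x ^ W.index ∈ W := Subgroup.pow_index_mem W x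
  have h3 : Nat.Coprime (2 ^ a) W.index :=
    Nat.Coprime.pow_left a ((Nat.Prime.coprime_iff_not_dvd Nat.prime_two).2 hW)
  have h4 := Nat.gcd_eq_gcd_ab (2 ^ a) W.index
  rw [h3, Nat.cast_one] at h4
  rw [← zpow_one x, h4, zpow_add, zpow_mul, zpow_mul, zpow_natCast, zpow_natCast]
  exact mul_mem (zpow_mem h1 _) (zpow_mem h2 _)

end

end Cfsg.Agent.H723.TI
end

-- part: H723/TI/QGrpB
section
/-!
# Groups with a generalised quaternion TI Sylow 2-subgroup, II
-/

set_option autoImplicit false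

namespace Cfsg.Agent.H723.TI

open Cfsg
open scoped Pointwise

universe u

variable {G : Type u} [Group G] [Finite G] {P : Sylow 2 G} {z : G}

theorem W_normal (hsup : pPrimeCore 2 G ⊔ Subgroup.normalizer ((P : Subgroup G) : Set G) = ⊤) :
    (pPrimeCore 2 G ⊔ (P : Subgroup G)).Normal := by
  have hKn : (pPrimeCore 2 G).Normal := Lib.Cores.pPrimeCore_normal 2
  rw [← Subgroup.normalizer_eq_top_iff, eq_top_iff, ← hsup]
  refine sup_le (le_trans le_sup_left Subgroup.le_normalizer) ?_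
  refine le_trans ?_ (Subgroup.normalizer_inf_normalizer_le_normalizer_sup _ _)
  refine le_inf ?_ le_rfl
  rw [Subgroup.normalizer_eq_top_iff.2 hKn]
  exact le_top

theorem W_odd : ¬ 2 ∣ (pPrimeCore 2 G ⊔ (P : Subgroup G)).index := by
  have : Fact (Nat.Prime 2) := ⟨Nat.prime_two⟩
  intro h
  exact P.not_dvd_index (h.trans (Subgroup.index_dvd_of_le le_sup_right))

/-- the automorphism induced by an element of odd order has odd order -/
theorem phi_pow (y : Subgroup.normalizer ((P : Subgroup G) : Set G)) :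
    ((P : Subgroup G).normalizerMonoidHom y) ^ orderOf (y : G) = 1 := by
  rw [← map_pow]
  have : y ^ orderOf (y : G) = 1 := by
    rw [Subgroup.orderOf_coe]; exact pow_orderOf_eq_one y
  rw [this, map_one]

theorem mem_cent_of_phi {y : Subgroup.normalizer ((P : Subgroup G) : Set G)}
    (h : (P : Subgroup G).normalizerMonoidHom y = 1) : (y : G) ∈ Subgroup.centralizer ((P : Subgroup G) : Set G) := by
  have h1 : y ∈ ((P : Subgroup G).normalizerMonoidHom).ker := h
  rw [Subgroup.normalizerMonoidHom_ker] at h1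
  exact h1

/-- order at least 16: `G = K P` -/
theorem index_one (hsup : pPrimeCore 2 G ⊔ Subgroup.normalizer ((P : Subgroup G) : Set G) = ⊤) {k : ℕ} (hk : 2 ≤ k)
    (e : (P : Subgroup G) ≃* QuaternionGroup (2 ^ k)) : (pPrimeCore 2 G ⊔ (P : Subgroup G)).index = 1 := by
  rw [Subgroup.index_eq_one, eq_top_iff, ← hsup]
  refine sup_le le_sup_left ?_
  intro x hx
  refine mem_of_odd_part (W_normal hsup) W_odd (H := Subgroup.normalizer ((P : Subgroup G) : Set G)) ?_ hx
  intro y hy hyo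
  have h1 : (P : Subgroup G).normalizerMonoidHom ⟨y, hy⟩ = 1 := by
    refine LFourB.ProdAut.eq_one_of_odd' hk e _ (n := orderOf y) ?_ (phi_pow ⟨y, hy⟩)
    exact Nat.odd_iff.2 (by omega)
  exact Subgroup.mem_sup_left (mem_core hsup (mem_cent_of_phi h1) hyo)

/-- order 8: `|G : K P| = 1` or `3` -/
theorem index_eight (hsup : pPrimeCore 2 G ⊔ Subgroup.normalizer ((P : Subgroup G) : Set G) = ⊤)
    (e : (P : Subgroup G) ≃* QuaternionGroup 2) : (pPrimeCore 2 G ⊔ (P : Subgroup G)).index = 1 ∨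
      (pPrimeCore 2 G ⊔ (P : Subgroup G)).index = 3 := by
  have hWn := W_normal hsup
  have hWo := W_odd (P := P)
  set W := pPrimeCore 2 G ⊔ (P : Subgroup G) with hW
  set N := Subgroup.normalizer ((P : Subgroup G) : Set G) with hN
  have hC : Subgroup.centralizer ((P : Subgroup G) : Set G) ≤ W := by
    intro y hy
    refine mem_of_odd_part hWn hWo (H := Subgroup.centralizer ((P : Subgroup G) : Set G)) ?_ hy
    intro y hy hyo
    exact Subgroup.mem_sup_left (mem_core hsup hy hyo)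
  have h1 : W.index = W.relIndex N := by
    have h2 : N ⊔ W = ⊤ := by
      rw [eq_top_iff, ← hsup]
      exact sup_le (le_trans le_sup_left le_sup_right) le_sup_left
    rw [← Subgroup.relIndex_sup_right, h2, Subgroup.relIndex_top_right]
  have h3 : W.relIndex N ∣ (Subgroup.centralizer ((P : Subgroup G) : Set G)).relIndex N :=
    Subgroup.relIndex_dvd_of_le_left N hC
  have h4 : (Subgroup.centralizer ((P : Subgroup G) : Set G)).relIndex N ∣ 24 := by
    have h5 : (Subgroup.centralizer ((P : Subgroup G) : Set G)).relIndex N =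
        ((P : Subgroup G).normalizerMonoidHom).ker.index := by
      rw [Subgroup.normalizerMonoidHom_ker]; rfl
    have h6 : Nat.card (MulAut (P : Subgroup G)) = 24 := by
      rw [Nat.card_congr (MulAut.congr e).toEquiv, PermutationGroups.AutQuaternion.card_mulAut]
    rw [h5, Subgroup.index_ker, ← h6]
    exact Subgroup.card_subgroup_dvd_card _
  have h7 : W.index ∣ 24 := h1 ▸ h3.trans h4
  have h8 : Nat.Coprime W.index 8 := by
    have : Nat.Coprime W.index (2 ^ 3) :=
      Nat.Coprime.pow_right 3 ((Nat.Prime.coprime_iff_not_dvd Nat.prime_two).2 hWo).symm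
    exact this
  have h9 : W.index ∣ 3 := h8.dvd_of_dvd_mul_left (by norm_num; exact h7)
  exact (Nat.dvd_prime Nat.prime_three).1 h9

/-- elements of `C_G(x)`, `x` of odd order outside `K P`, `|P| = 8` -/
theorem cent_four (h : QG P z) (hc : Nat.card (P : Subgroup G) = 8) {x : G}
    (hx : x ∉ pPrimeCore 2 G ⊔ (P : Subgroup G)) (hxo : ¬ 2 ∣ orderOf x) :
    ¬ 4 ∣ Nat.card (Subgroup.centralizer ({x} : Set G)) := by
  classical
  have : Fact (Nat.Prime 2) := ⟨Nat.prime_two⟩
  intro h4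
  obtain ⟨R₀, hR₀⟩ := Sylow.exists_subgroup_card_pow_prime 2 (G := Subgroup.centralizer ({x} : Set G)) (n := 2)
    (by simpa only [_root_.Nat.reducePow] using h4)
  set R := R₀.map (Subgroup.centralizer ({x} : Set G)).subtype with hR
  have hRc : Nat.card R = 4 := by
    rw [hR, Subgroup.card_map_of_injective (Subgroup.subtype_injective _), hR₀]; norm_num
  have hRx : ∀ r ∈ R, x * r = r * x := by
    rintro _ ⟨r, -, rfl⟩
    exact (Subgroup.mem_centralizer_singleton_iff.1 r.2).symm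
  have hRp : IsPGroup 2 R := IsPGroup.of_card (n := 2) (by rw [hRc]; norm_num)
  obtain ⟨Q, hQ⟩ := hRp.exists_le_sylow
  obtain ⟨g, hg⟩ := MulAction.exists_smul_eq G P Q
  have hWn := W_normal h.sup_top
  -- move into `P`
  set x' := g⁻¹ * x * g with hx'
  have hx'W : x' ∉ pPrimeCore 2 G ⊔ (P : Subgroup G) := by
    intro h1
    apply hx
    have h2 := hWn.conj_mem _ h1 g
    have h3 : g * x' * g⁻¹ = x := by rw [hx']; group
    rwa [h3] at h2
  have hx'o : orderOf x' = orderOf x := by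
    have := (MulAut.conj g⁻¹).orderOf_eq x
    simpa only [MulAut.conj_apply, _root_.map_inv, _root_.MulAut.inv_apply, _root_.MulAut.conj_symm_apply] using this
  set R' := R.map (MulAut.conj g⁻¹).toMonoidHom with hR'
  have hR'c : Nat.card R' = 4 := by
    rw [hR', Subgroup.card_map_of_injective (MulAut.conj g⁻¹).injective, hRc]
  have hR'P : R' ≤ (P : Subgroup G) := by
    rintro _ ⟨r, hr, rfl⟩
    have h1 : r ∈ (Q : Subgroup G) := hQ hr
    rw [← hg, Sylow.coe_subgroup_smul, Subgroup.mem_pointwise_smul_iff_inv_smul_mem] at h1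
    simpa only [MulAut.smul_def, _root_.map_inv, _root_.MulEquiv.toMonoidHom_eq_coe, _root_.MonoidHom.coe_coe, _root_.MulAut.inv_apply, _root_.MulAut.conj_symm_apply] using h1
  have hR'x : ∀ r ∈ R', x' * r = r * x' := by
    rintro _ ⟨r, hr, rfl⟩
    have h1 := hRx r hr
    change g⁻¹ * x * g * (g⁻¹ * r * g⁻¹⁻¹) = (g⁻¹ * r * g⁻¹⁻¹) * (g⁻¹ * x * g)
    calc g⁻¹ * x * g * (g⁻¹ * r * g⁻¹⁻¹) = g⁻¹ * (x * r) * g := by group
      _ = g⁻¹ * (r * x) * g := by rw [h1]
      _ = (g⁻¹ * r * g⁻¹⁻¹) * (g⁻¹ * x * g) := by group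
  -- `x'` centralises `z`
  have hzR : z ∈ R' := by
    obtain ⟨r, hr⟩ := exists_prime_orderOf_dvd_card' (G := R') 2 (by rw [hR'c]; norm_num)
    have h1 : orderOf (r : G) = 2 := by rw [Subgroup.orderOf_coe, hr]
    have h2 := h.uniq _ (hR'P r.2) h1
    rw [← h2]
    exact r.2
  have hx'N := h.ti.cent_le h.mem h.ne (hR'x z hzR)
  -- `x'` centralises `P`
  have hidx : (R'.subgroupOf (P : Subgroup G)).index = 2 := by
    have h1 := Subgroup.card_mul_index (R'.subgroupOf (P : Subgroup G))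
    have h2 : Nat.card (R'.subgroupOf (P : Subgroup G)) = 4 := by
      rw [Nat.card_congr (Subgroup.subgroupOfEquivOfLe hR'P).toEquiv, hR'c]
    rw [h2, hc] at h1
    omega
  have hcent : x' ∈ Subgroup.centralizer ((P : Subgroup G) : Set G) := by
    rw [Subgroup.mem_centralizer_iff]
    intro u hu
    have hw : x' * u * x'⁻¹ ∈ (P : Subgroup G) := (Subgroup.mem_normalizer_iff.1 hx'N u).1 hu
    have hiff : u ∈ R' ↔ x' * u * x'⁻¹ ∈ R' := by
      constructor
      · intro h1
        rw [hR'x u h1, mul_inv_cancel_right]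
        exact h1
      · intro h1
        have h2 := hR'x _ h1
        have h3 : x' * u * x'⁻¹ = u := by
          have : x' * (x' * u * x'⁻¹) = x' * u := by rw [h2]; group
          exact mul_left_cancel this
        rwa [h3] at h1
    have hc1 : u⁻¹ * (x' * u * x'⁻¹) ∈ R' := by
      have h1 := Subgroup.mul_mem_iff_of_index_two hidx (a := (⟨u, hu⟩ : (P : Subgroup G))⁻¹)
        (b := ⟨x' * u * x'⁻¹, hw⟩)
      have h2 := h1.2 (by
        rw [Subgroup.inv_mem_iff, Subgroup.mem_subgroupOf, Subgroup.mem_subgroupOf]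
        exact hiff)
      exact h2
    set c := u⁻¹ * (x' * u * x'⁻¹) with hcdef
    have hxu : x' * u * x'⁻¹ = u * c := by rw [hcdef]; group
    have hcx := hR'x c hc1
    have hpow : ∀ k : ℕ, x' ^ k * u * (x' ^ k)⁻¹ = u * c ^ k := by
      intro k
      induction k with
      | zero => simp
      | succ k ih =>
        have h1 : x' ^ (k + 1) * u * (x' ^ (k + 1))⁻¹ = x' * (x' ^ k * u * (x' ^ k)⁻¹) * x'⁻¹ := by
          rw [pow_succ']; group
        have h2 : x' * c ^ k = c ^ k * x' := (Commute.pow_right (show Commute x' c from hcx) k).eq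
        rw [h1, ih]
        calc x' * (u * c ^ k) * x'⁻¹ = x' * u * (c ^ k * x'⁻¹) := by group
          _ = x' * u * (x'⁻¹ * (x' * c ^ k) * x'⁻¹) := by group
          _ = x' * u * (x'⁻¹ * (c ^ k * x') * x'⁻¹) := by rw [h2]
          _ = (x' * u * x'⁻¹) * c ^ k := by group
          _ = u * c ^ (k + 1) := by rw [hxu, pow_succ']; group
    have h1 := hpow (orderOf x')
    rw [pow_orderOf_eq_one, one_mul, inv_one, mul_one] at h1
    have h2 : c ^ orderOf x' = 1 := by
      have : u * 1 = u * c ^ orderOf x' := by rw [mul_one]; exact h1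
      exact (mul_left_cancel this).symm
    have h3 : c = 1 := by
      obtain ⟨k, hk⟩ := P.isPGroup' ⟨c, hR'P hc1⟩
      have h4 : c ^ 2 ^ k = 1 := by simpa only [_root_.SubmonoidClass.mk_pow, _root_.OneMemClass.coe_one] using congrArg Subtype.val hk
      have h5 : Nat.Coprime (orderOf x') (2 ^ k) :=
        Nat.Coprime.pow_right k ((Nat.Prime.coprime_iff_not_dvd Nat.prime_two).2 (hx'o ▸ hxo)).symm
      have h6 := Nat.dvd_gcd (orderOf_dvd_of_pow_eq_one h2) (orderOf_dvd_of_pow_eq_one h4)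
      rw [h5] at h6
      exact orderOf_eq_one_iff.1 (Nat.dvd_one.1 h6)
    rw [h3, mul_one] at hxu
    exact (mul_inv_eq_iff_eq_mul.1 hxu).symm
  exact hx'W (Subgroup.mem_sup_left (mem_core h.sup_top hcent (hx'o ▸ hxo)))

/-- the quaternion data -/
theorem exists_QG (hTI : TIs P) {k : ℕ} (e : (P : Subgroup G) ≃* QuaternionGroup (2 ^ k)) : ∃ z, QG P z := by
  obtain ⟨z, hz, ho⟩ := CharDeep.QuatSylowBasic.exists_of_equiv e
  exact ⟨z, hTI, hz, ho, fun x hx hxo => CharDeep.QuatSylowBasic.unique_of_equiv e x z hx hz hxo ho⟩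

/-- **The structure of `G`** -/
theorem QG.qh (h : QG P z) {n : ℕ} (hn : 3 ≤ n) (e : (P : Subgroup G) ≃* QuaternionGroup (2 ^ (n - 2))) :
    QH (pPrimeCore 2 G) (P : Subgroup G) n := by
  have : Fact (Nat.Prime 2) := ⟨Nat.prime_two⟩
  refine ⟨Lib.Cores.pPrimeCore_normal 2, core_odd, P.isPGroup', P.not_dvd_index, hn, ⟨e⟩, W_normal h.sup_top, ?_⟩
  by_cases h3 : n = 3
  · subst h3
    have e' : (P : Subgroup G) ≃* QuaternionGroup 2 := e
    rcases index_eight h.sup_top e' with h1 | h1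
    · exact Or.inl h1
    · refine Or.inr ⟨h1, rfl, fun x hx hxo => ?_⟩
      have hc : Nat.card (P : Subgroup G) = 8 := by
        rw [Nat.card_congr e'.toEquiv, Nat.card_eq_fintype_card, QuaternionGroup.card]
      exact cent_four h hc hx hxo
  · exact Or.inl (index_one h.sup_top (by omega) e)

theorem QG.subgroupOf_sup (P : Sylow 2 G) :
    (pPrimeCore 2 G).subgroupOf (Subgroup.normalizer ((P : Subgroup G) : Set G)) ⊔
      (P : Subgroup G).subgroupOf (Subgroup.normalizer ((P : Subgroup G) : Set G)) =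
    (pPrimeCore 2 G ⊔ (P : Subgroup G)).subgroupOf (Subgroup.normalizer ((P : Subgroup G) : Set G)) := by
  have hKn : (pPrimeCore 2 G).Normal := Lib.Cores.pPrimeCore_normal 2
  set N := Subgroup.normalizer ((P : Subgroup G) : Set G) with hN
  have hPN : (P : Subgroup G) ≤ N := Subgroup.le_normalizer
  apply le_antisymm
  · exact sup_le (Subgroup.comap_mono le_sup_left) (Subgroup.comap_mono le_sup_right)
  · rintro ⟨x, hx⟩ hxW
    rw [Subgroup.mem_subgroupOf] at hxW
    obtain ⟨k, hk, u, hu, hku⟩ := Subgroup.mem_sup_of_normal_left.1 hxW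
    change k * u = x at hku
    have huN : u ∈ N := hPN hu
    have hkN : k ∈ N := by
      have : k = x * u⁻¹ := by rw [← hku, mul_inv_cancel_right]
      rw [this]
      exact mul_mem hx (inv_mem huN)
    have : (⟨x, hx⟩ : N) = ⟨k, hkN⟩ * ⟨u, huN⟩ := Subtype.ext hku.symm
    rw [this]
    exact mul_mem (Subgroup.mem_sup_left hk) (Subgroup.mem_sup_right hu)

theorem QG.index_eq (h : QG P z) :
    ((pPrimeCore 2 G).subgroupOf (Subgroup.normalizer ((P : Subgroup G) : Set G)) ⊔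
      (P : Subgroup G).subgroupOf (Subgroup.normalizer ((P : Subgroup G) : Set G))).index =
    (pPrimeCore 2 G ⊔ (P : Subgroup G)).index := by
  have hWn := W_normal h.sup_top
  have h2 : Subgroup.normalizer ((P : Subgroup G) : Set G) ⊔ (pPrimeCore 2 G ⊔ (P : Subgroup G)) = ⊤ := by
    rw [eq_top_iff, ← h.sup_top]
    exact sup_le (le_trans le_sup_left le_sup_right) le_sup_left
  rw [QG.subgroupOf_sup]
  change (pPrimeCore 2 G ⊔ (P : Subgroup G)).relIndex (Subgroup.normalizer ((P : Subgroup G) : Set G)) = _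
  rw [← Subgroup.relIndex_sup_right, h2, Subgroup.relIndex_top_right]

/-- **The structure of `N_G(P)`** -/
theorem QG.qhN (h : QG P z) {n : ℕ} (hn : 3 ≤ n) (e : (P : Subgroup G) ≃* QuaternionGroup (2 ^ (n - 2))) :
    QH ((pPrimeCore 2 G).subgroupOf (Subgroup.normalizer ((P : Subgroup G) : Set G)))
      ((P : Subgroup G).subgroupOf (Subgroup.normalizer ((P : Subgroup G) : Set G))) n := by
  have : Fact (Nat.Prime 2) := ⟨Nat.prime_two⟩
  have hG := h.qh hn e
  have hKn : (pPrimeCore 2 G).Normal := hG.Kn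
  have hWn := hG.Gn
  set N := Subgroup.normalizer ((P : Subgroup G) : Set G) with hN
  have hPN : (P : Subgroup G) ≤ N := Subgroup.le_normalizer
  have heq : (pPrimeCore 2 G).subgroupOf N ⊔ (P : Subgroup G).subgroupOf N =
      (pPrimeCore 2 G ⊔ (P : Subgroup G)).subgroupOf N := by
    apply le_antisymm
    · exact sup_le (Subgroup.comap_mono le_sup_left) (Subgroup.comap_mono le_sup_right)
    · rintro ⟨x, hx⟩ hxW
      rw [Subgroup.mem_subgroupOf] at hxW
      obtain ⟨k, hk, u, hu, hku⟩ := Subgroup.mem_sup_of_normal_left.1 hxW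
      change k * u = x at hku
      have huN : u ∈ N := hPN hu
      have hkN : k ∈ N := by
        have : k = x * u⁻¹ := by rw [← hku, mul_inv_cancel_right]
        rw [this]
        exact mul_mem hx (inv_mem huN)
      have : (⟨x, hx⟩ : N) = ⟨k, hkN⟩ * ⟨u, huN⟩ := Subtype.ext hku.symm
      rw [this]
      exact mul_mem (Subgroup.mem_sup_left hk) (Subgroup.mem_sup_right hu)
  have hidx : ((pPrimeCore 2 G).subgroupOf N ⊔ (P : Subgroup G).subgroupOf N).index =
      (pPrimeCore 2 G ⊔ (P : Subgroup G)).index := by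
    have h2 : N ⊔ (pPrimeCore 2 G ⊔ (P : Subgroup G)) = ⊤ := by
      rw [eq_top_iff, ← h.sup_top]
      exact sup_le (le_trans le_sup_left le_sup_right) le_sup_left
    rw [heq]
    change (pPrimeCore 2 G ⊔ (P : Subgroup G)).relIndex N = _
    rw [← Subgroup.relIndex_sup_right, h2, Subgroup.relIndex_top_right]
  refine ⟨inferInstance, ?_, ?_, ?_, hn, ?_, ?_, ?_⟩
  · intro h2
    apply hG.Kodd
    refine h2.trans ?_
    exact Subgroup.card_dvd_of_injective
      ((N.subtype).subgroupComap (pPrimeCore 2 G)) (fun a b hab => Subtype.ext (Subtype.ext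
        (congrArg (fun t : (pPrimeCore 2 G) => (t : G)) hab)))
  · exact P.isPGroup'.comap_of_injective _ (Subgroup.subtype_injective _)
  · intro h2
    exact P.not_dvd_index (h2.trans (Subgroup.relIndex_dvd_index_of_le hPN))
  · exact ⟨(Subgroup.subgroupOfEquivOfLe hPN).trans e⟩
  · rw [heq]
    infer_instance
  · rw [hidx]
    rcases hG.idx with h1 | ⟨h1, h3, h4⟩
    · exact Or.inl h1
    · refine Or.inr ⟨h1, h3, fun x hx hxo h5 => ?_⟩
      rw [heq, Subgroup.mem_subgroupOf] at hx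
      refine h4 (x : G) hx (by rwa [Subgroup.orderOf_coe]) (h5.trans ?_)
      let f : Subgroup.centralizer ({x} : Set N) →* Subgroup.centralizer ({(x : G)} : Set G) :=
        { toFun := fun y => ⟨(y : N), by
            have := Subgroup.mem_centralizer_singleton_iff.1 y.2
            rw [Subgroup.mem_centralizer_singleton_iff]
            exact congrArg Subtype.val this⟩
          map_one' := rfl
          map_mul' := fun _ _ => rfl }
      exact Subgroup.card_dvd_of_injective f (fun a b hab => Subtype.ext (Subtype.ext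
        (congrArg (fun t : Subgroup.centralizer ({(x : G)} : Set G) => (t : G)) hab)))

end Cfsg.Agent.H723.TI
end

-- part: H723/TI/QBlk
section
/-!
# 2-blocks of the groups `QH`: the rank is 1 or 3
-/

set_option autoImplicit false

namespace Cfsg.Agent.H723.TI

open Cfsg
open Cfsg.Agent.Blocks.Local

universe u

theorem mem_of_coprime_pow {X : Type u} [Group X] {W : Subgroup X} {x : X} {a b : ℕ} (hab : Nat.Coprime a b)
    (ha : x ^ a ∈ W) (hb : x ^ b ∈ W) : x ∈ W := by
  have h4 := Nat.gcd_eq_gcd_ab a b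
  rw [hab, Nat.cast_one] at h4
  rw [← zpow_one x, h4, zpow_add, zpow_mul, zpow_mul, zpow_natCast, zpow_natCast]
  exact mul_mem (zpow_mem ha _) (zpow_mem hb _)

variable {X : Type u} [Group X] [Finite X] {K P : Subgroup X} {n : ℕ} {M : Ideal AlgInt} {B : Set (IrrCharacter X)}

theorem QH.mem_K (h : QH K P n) {x : X} (hx : x ∈ K ⊔ P) (hxo : ¬ 2 ∣ orderOf x) : x ∈ K := by
  have := h.Kn
  obtain ⟨k, hk, u, hu, rfl⟩ := Subgroup.mem_sup_of_normal_left.1 hx
  obtain ⟨a, ha⟩ := h.pP ⟨u, hu⟩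
  have ha' : u ^ 2 ^ a = 1 := by simpa only [_root_.SubmonoidClass.mk_pow, _root_.OneMemClass.coe_one] using congrArg Subtype.val ha
  refine mem_of_coprime_pow (a := 2 ^ a) (b := orderOf (k * u)) ?_ ?_ ?_
  · exact Nat.Coprime.pow_left a ((Nat.Prime.coprime_iff_not_dvd Nat.prime_two).2 hxo)
  · rw [← QuotientGroup.eq_one_iff]
    have h1 : ((k * u : X) : X ⧸ K) = (u : X ⧸ K) := by
      rw [QuotientGroup.mk_mul, (QuotientGroup.eq_one_iff k).2 hk, one_mul]
    rw [QuotientGroup.mk_pow, h1, ← QuotientGroup.mk_pow, ha', QuotientGroup.mk_one]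
  · rw [pow_orderOf_eq_one]
    exact one_mem _

theorem prop_K (hM : IsPModular 2 M) [hKn : K.Normal] (hK : ¬ 2 ∣ Nat.card K) (hB : IsPBlock M B)
    {χ χ' : IrrCharacter X} (hχ : χ ∈ B) (hχ' : χ' ∈ B) {k : X} (hk : k ∈ K) :
    (χ : X → ℂ) k * (χ' : X → ℂ) 1 = (χ' : X → ℂ) k * (χ : X → ℂ) 1 := by
  classical
  have := Fintype.ofFinite X
  have := Fintype.ofFinite K
  have : M.IsPrime := hM.2.1.isPrime
  obtain ⟨θ, hθ⟩ := Blocks.Fong.exists_constituent K χ
  have h1 := Blocks.PrimeNormal.constituent_of_sameBlock hM K hK χ.2 χ'.2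
    (Blocks.Basic.isPBlock_sameBlock hB hχ hχ') θ.2 hθ
  have h2 := Blocks.Over.centralChar_eq_of_over K χ.2 θ.2 hθ ⟨k, hk⟩
  have h3 := Blocks.Over.centralChar_eq_of_over K χ'.2 θ.2 h1 ⟨k, hk⟩
  rw [← h3] at h2
  unfold centralChar at h2
  have h4 : (χ : X → ℂ) 1 ≠ 0 := Blocks.CliffordCentral.irr_one_ne_zero χ
  have h5 : (χ' : X → ℂ) 1 ≠ 0 := Blocks.CliffordCentral.irr_one_ne_zero χ'
  have h6 : ((Subgroup.centralizer ({k} : Set X)).index : ℂ) ≠ 0 := by
    exact_mod_cast Subgroup.index_ne_zero_of_finite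
  have h7 : (χ : X → ℂ) k / (χ : X → ℂ) 1 = (χ' : X → ℂ) k / (χ' : X → ℂ) 1 := by
    rw [mul_div_assoc, mul_div_assoc] at h2
    exact mul_left_cancel₀ h6 h2
  rw [div_eq_div_iff h4 h5] at h7
  exact h7

/-- all members vanish on the elements of odd order outside `K P`: rank 1 -/
theorem QH.rank_one (h : QH K P n) (hM : IsPModular 2 M) (hB : IsPBlock M B)
    (hv : ∀ χ ∈ B, ∀ x : X, x ∉ K ⊔ P → ¬ 2 ∣ orderOf x → (χ : X → ℂ) x = 0) : blockRank 2 B = 1 := by
  have := h.Kn
  have : M.IsPrime := hM.2.1.isPrime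
  obtain ⟨χ₀, hχ₀⟩ := Blocks.Basic.isPBlock_nonempty hB
  have h1 : (χ₀ : X → ℂ) 1 ≠ 0 := Blocks.CliffordCentral.irr_one_ne_zero χ₀
  have key : ∀ χ ∈ B, pRegularPart 2 (χ : X → ℂ) = ((χ : X → ℂ) 1 / (χ₀ : X → ℂ) 1) • pRegularPart 2 (χ₀ : X → ℂ) := by
    intro χ hχ
    funext x
    simp only [Pi.smul_apply, smul_eq_mul]
    unfold pRegularPart
    by_cases hx : IsPRegular 2 x
    · simp only [hx, if_true]
      by_cases hxW : x ∈ K ⊔ P
      · have h2 := prop_K hM h.Kodd hB hχ hχ₀ (h.mem_K hxW hx)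
        field_simp
        linear_combination h2
      · rw [hv χ hχ x hxW hx, hv χ₀ hχ₀ x hxW hx, mul_zero]
    · simp [hx]
  unfold blockRank
  have hspan : Submodule.span ℂ ((fun χ : IrrCharacter X => pRegularPart 2 (χ : X → ℂ)) '' B) =
      Submodule.span ℂ {pRegularPart 2 (χ₀ : X → ℂ)} := by
    apply le_antisymm
    · rw [Submodule.span_le]
      rintro _ ⟨χ, hχ, rfl⟩
      have h2 := key χ hχ
      simp only [SetLike.mem_coe]
      rw [h2]
      exact Submodule.smul_mem _ _ (Submodule.subset_span rfl)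
    · rw [Submodule.span_le, Set.singleton_subset_iff]
      exact Submodule.subset_span ⟨χ₀, hχ₀, rfl⟩
  rw [hspan, finrank_span_singleton]
  intro h0
  have h2 := congrFun h0 1
  unfold pRegularPart at h2
  have h3 : IsPRegular 2 (1 : X) := by unfold IsPRegular; rw [orderOf_one]; omega
  simp only [h3, if_true] at h2
  exact h1 h2

theorem QH.card8 (h : QH K P 3) : Nat.card P = 8 := by
  obtain ⟨e⟩ := h.q
  have e' : P ≃* QuaternionGroup 2 := e
  rw [Nat.card_congr e'.toEquiv, Nat.card_eq_fintype_card, QuaternionGroup.card]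

theorem QH.fact8 (h : QH K P 3) : (Nat.card X).factorization 2 = 3 := by
  have h1 := Subgroup.card_mul_index P
  rw [h.card8] at h1
  rw [← h1, show (8 : ℕ) = 2 ^ 3 by norm_num, Nat.factorization_mul (by norm_num) Subgroup.index_ne_zero_of_finite,
    Nat.Prime.factorization_pow Nat.prime_two]
  simp [Nat.factorization_eq_zero_of_not_dvd h.sP]

/-- the degrees are not divisible by 4 -/
theorem QH.deg (h : QH K P 3) (hM : IsPModular 2 M) (hB : IsPBlock M B) (hD : IsDefectGroup 2 M B P)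
    {χ : IrrCharacter X} (hχ : χ ∈ B) : ¬ 4 ∣ charDegree (χ : X → ℂ) := by
  have : Fact (Nat.Prime 2) := ⟨Nat.prime_two⟩
  have h1 := Cfsg.Agent.S0908.result 2 M hM B hB P hD
  rw [h.card8] at h1
  have h2 : blockDefect 2 B = 3 := by
    have : (2 : ℕ) ^ 3 = 2 ^ blockDefect 2 B := by rw [← h1]; norm_num
    exact (Nat.pow_right_injective (le_refl 2) this).symm
  rw [Blocks.Basic.blockDefect_def, h.fact8] at h2
  have h3 := (Cfsg.Agent.S4530.result M hM B hB P hD 3 le_rfl h.q).2.2.2.2.1 χ hχ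
  rw [Blocks.Basic.blockHeight_def] at h3
  have h4 : (charDegree (χ : X → ℂ)).factorization 2 ≤ 1 := by omega
  intro h5
  have h6 : charDegree (χ : X → ℂ) ≠ 0 := by
    intro h0
    have h7 := Cfsg.Agent.H672.coe_charDegree χ.2
    rw [h0, Nat.cast_zero] at h7
    exact Blocks.CliffordCentral.irr_one_ne_zero χ h7.symm
  have h7 : 2 ≤ (charDegree (χ : X → ℂ)).factorization 2 := by
    rw [← Nat.Prime.pow_dvd_iff_le_factorization Nat.prime_two h6]
    exact h5
  omega

/-- central characters at elements of odd order outside `K P` -/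
theorem QH.central_mem (h : QH K P 3) (hM : IsPModular 2 M)
    {χ : X → ℂ} (hχ : IsIrrCharacter X χ) (hd : ¬ 4 ∣ charDegree χ) {x : X}
    (hx4 : ¬ 4 ∣ Nat.card (Subgroup.centralizer ({x} : Set X))) : MemLocalIdeal M (centralChar χ x) := by
  have : M.IsPrime := hM.2.1.isPrime
  have h1 : 4 ∣ (Subgroup.centralizer ({x} : Set X)).index := by
    have h2 := Subgroup.card_mul_index (Subgroup.centralizer ({x} : Set X))
    have h3 : (Nat.card (Subgroup.centralizer ({x} : Set X))).factorization 2 ≤ 1 := by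
      by_contra h4
      push Not at h4
      exact hx4 ((Nat.Prime.pow_dvd_iff_le_factorization Nat.prime_two Nat.card_pos.ne').2 h4)
    have h4 : (Nat.card (Subgroup.centralizer ({x} : Set X)) *
        (Subgroup.centralizer ({x} : Set X)).index).factorization 2 = (Nat.card X).factorization 2 := by rw [h2]
    rw [Nat.factorization_mul Nat.card_pos.ne' Subgroup.index_ne_zero_of_finite, Finsupp.add_apply, h.fact8] at h4
    have h5 : 2 ≤ ((Subgroup.centralizer ({x} : Set X)).index).factorization 2 := by omega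
    exact (Nat.Prime.pow_dvd_iff_le_factorization Nat.prime_two Subgroup.index_ne_zero_of_finite).2 h5
  obtain ⟨c, hc⟩ := h1
  have hdeg := Cfsg.Agent.H672.coe_charDegree hχ
  have hχx : MemLocalRing M (χ x) := memLocalRing_of_isIntegral (Blocks.Central.isIntegral_irr hχ x)
  have h2 : ∃ (e d : ℕ), charDegree χ = e * d ∧ ¬ 2 ∣ d ∧ (e = 1 ∨ e = 2) := by
    by_cases h3 : 2 ∣ charDegree χ
    · obtain ⟨d, hd'⟩ := h3
      refine ⟨2, d, hd', ?_, Or.inr rfl⟩
      rintro ⟨d', rfl⟩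
      exact hd ⟨d', by rw [hd']; ring⟩
    · exact ⟨1, charDegree χ, (one_mul _).symm, h3, Or.inl rfl⟩
  obtain ⟨e, d, hed, hd2, he⟩ := h2
  have hd0 : (d : ℂ) ≠ 0 := by
    have : d ≠ 0 := by rintro rfl; exact hd2 (dvd_zero 2)
    exact_mod_cast this
  have h3 : ∃ m : ℕ, (2 : ℕ) ∣ m ∧ centralChar χ x = (m : ℂ) * (((d : ℂ))⁻¹ * χ x) := by
    unfold centralChar
    rw [hc, ← hdeg, hed]
    rcases he with rfl | rfl
    · refine ⟨4 * c, ⟨2 * c, by ring⟩, ?_⟩
      push_cast
      field_simp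
    · refine ⟨2 * c, ⟨c, rfl⟩, ?_⟩
      push_cast
      field_simp
      ring
  obtain ⟨m, hm, h4⟩ := h3
  rw [h4]
  exact memLocalIdeal_mul_right ((memLocalIdeal_natCast_iff hM m).2 hm)
    (memLocalRing_mul (memLocalRing_inv_natCast hM hd2) hχx)

end Cfsg.Agent.H723.TI
end

-- part: H723/TI/QBlkB
section
/-!
# 2-blocks of the groups `QH`, II: rank 3, invariant and non-invariant characters of `K`
-/

set_option autoImplicit false

namespace Cfsg.Agent.H723.TI

open Cfsg
open Cfsg.Agent.Blocks.Local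
open scoped ComplexConjugate

universe u

variable {X : Type u} [Group X] [Finite X] {K P : Subgroup X} {n : ℕ} {M : Ideal AlgInt} {B : Set (IrrCharacter X)}

/-- a linear character with kernel containing `W` -/
theorem exists_lam {W : Subgroup X} (hW : W.Normal) (hidx : W.index = 3) {x : X} (hx : x ∉ W) :
    ∃ l : X →* ℂˣ, l x ≠ 1 ∧ ∀ y ∈ W, l y = 1 := by
  have : Fact (Nat.Prime 3) := ⟨Nat.prime_three⟩
  have hc : Nat.card (X ⧸ W) = 3 := hidx
  have hcyc : IsCyclic (X ⧸ W) := isCyclic_of_prime_card hc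
  have hcomm : ∀ a b : X ⧸ W, a * b = b * a := by
    intro a b
    obtain ⟨g, hg⟩ := hcyc.exists_generator
    obtain ⟨i, rfl⟩ := Subgroup.mem_zpowers_iff.1 (hg a)
    obtain ⟨j, rfl⟩ := Subgroup.mem_zpowers_iff.1 (hg b)
    rw [← zpow_add, ← zpow_add, add_comm]
  have ht : (x : X ⧸ W) ∉ (⊥ : Subgroup (X ⧸ W)) := by
    rw [Subgroup.mem_bot, QuotientGroup.eq_one_iff]
    exact hx
  obtain ⟨l, hl, -⟩ := H743.LSIndex.exists_char hcomm ⊥ ht
  refine ⟨l.comp (QuotientGroup.mk' W), hl, fun y hy => ?_⟩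
  rw [MonoidHom.comp_apply, QuotientGroup.mk'_apply, (QuotientGroup.eq_one_iff y).2 hy, map_one]

/-- the twist -/
noncomputable def tw (l : X →* ℂˣ) (χ : IrrCharacter X) : IrrCharacter X :=
  ⟨fun g => (χ : X → ℂ) g * l g, CharactersDeep.ExtUnique.isIrr_mul_hom χ.2 l⟩

omit [Finite X] in
theorem tw_apply (l : X →* ℂˣ) (χ : IrrCharacter X) (g : X) : (tw l χ : X → ℂ) g = (χ : X → ℂ) g * l g := rfl

omit [Finite X] in
theorem tw_deg (l : X →* ℂˣ) (χ : IrrCharacter X) : charDegree (tw l χ : X → ℂ) = charDegree (χ : X → ℂ) := by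
  unfold charDegree
  rw [tw_apply, map_one]
  simp

/-- twists by characters of `X / K P` stay in the block -/
theorem QH.twist_mem (h : QH K P 3) (h4 : ∀ x : X, x ∉ K ⊔ P → ¬ 2 ∣ orderOf x →
    ¬ 4 ∣ Nat.card (Subgroup.centralizer ({x} : Set X))) (hM : IsPModular 2 M) (hB : IsPBlock M B)
    (hD : IsDefectGroup 2 M B P) {χ : IrrCharacter X} (hχ : χ ∈ B) {l : X →* ℂˣ} (hl : ∀ y ∈ K ⊔ P, l y = 1) :
    tw l χ ∈ B := by
  have := Fintype.ofFinite X
  have : Fact (Nat.Prime 2) := ⟨Nat.prime_two⟩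
  have : M.IsPrime := hM.2.1.isPrime
  refine Blocks.Basic.isPBlock_mem_of_sameBlock hB hχ ?_
  refine Blocks.PRegular.sameBlock_of_isPRegular hM χ.2 (tw l χ).2 ?_
  intro g hg
  have hd := h.deg hM hB hD hχ
  by_cases hgW : g ∈ K ⊔ P
  · have h1 : centralChar (tw l χ : X → ℂ) g = centralChar (χ : X → ℂ) g := by
      unfold centralChar
      rw [tw_apply, tw_apply, hl g hgW, map_one]
      simp
    rw [h1, sub_self]
    exact memLocalIdeal_zero
  · exact memLocalIdeal_sub (h.central_mem hM χ.2 hd (h4 g hgW hg))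
      (h.central_mem hM (tw l χ).2 (by rw [tw_deg]; exact hd) (h4 g hgW hg))

/-- some member does not vanish at some element of odd order outside `K P`: rank 3 -/
theorem QH.rank_three (h : QH K P n) (hM : IsPModular 2 M) (hB : IsPBlock M B)
    (hD : IsDefectGroup 2 M B P) {χ : IrrCharacter X} (hχ : χ ∈ B) {x : X} (hx : x ∉ K ⊔ P) (hxo : ¬ 2 ∣ orderOf x)
    (hχx : (χ : X → ℂ) x ≠ 0) : blockRank 2 B = 3 := by
  have := Fintype.ofFinite X
  rcases h.idx with h1 | ⟨h1, rfl, h4⟩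
  · exact absurd (by rw [Subgroup.index_eq_one.1 h1]; trivial) hx
  refine le_antisymm (Cfsg.Agent.S4530.result M hM B hB P hD 3 le_rfl h.q).2.1 ?_
  obtain ⟨l, hlx, hl⟩ := exists_lam h.Gn h1 hx
  have hm1 := h.twist_mem h4 hM hB hD hχ hl
  have hm2 := h.twist_mem h4 hM hB hD hm1 hl
  -- the value at `x`
  have hGn := h.Gn
  have hx3 : x ^ 3 ∈ K ⊔ P := by
    have := Subgroup.pow_index_mem (K ⊔ P) x
    rwa [h1] at this
  have hw3 : ((l x : ℂˣ) : ℂ) ^ 3 = 1 := by
    rw [← Units.val_pow_eq_pow_val, ← map_pow, hl _ hx3, Units.val_one]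
  set w : ℂ := ((l x : ℂˣ) : ℂ) with hw
  have hw1 : w ≠ 1 := by
    intro h2
    exact hlx (Units.ext h2)
  have hw2 : 1 + w + w ^ 2 = 0 := by
    have h2 : (w - 1) * (1 + w + w ^ 2) = 0 := by linear_combination hw3
    rcases mul_eq_zero.1 h2 with h3 | h3
    · exact absurd (sub_eq_zero.1 h3) hw1
    · exact h3
  have hw0 : w ≠ 0 := by
    rintro h2
    rw [h2] at hw3
    norm_num at hw3
  -- the values at the inverse
  have hinv : ((l x⁻¹ : ℂˣ) : ℂ) = w ^ 2 := by
    rw [map_inv, Units.val_inv_eq_inv_val, ← hw]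
    field_simp
    linear_combination -hw3
  have hχx' : (χ : X → ℂ) x⁻¹ ≠ 0 := by
    rw [Blocks.Orthogonality.irr_apply_inv χ.2]
    simpa using hχx
  have hχ1 : (χ : X → ℂ) 1 ≠ 0 := Blocks.CliffordCentral.irr_one_ne_zero χ
  have hr1 : IsPRegular 2 (1 : X) := by unfold IsPRegular; rw [orderOf_one]; omega
  have hrx : IsPRegular 2 x := hxo
  have hrx' : IsPRegular 2 x⁻¹ := by unfold IsPRegular; rwa [orderOf_inv]
  let v : Fin 3 → (X → ℂ) := ![pRegularPart 2 (χ : X → ℂ), pRegularPart 2 (tw l χ : X → ℂ),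
    pRegularPart 2 (tw l (tw l χ) : X → ℂ)]
  have hv : LinearIndependent ℂ v := by
    rw [Fintype.linearIndependent_iff]
    intro g hg
    rw [Fin.sum_univ_three] at hg
    have e1 := congrFun hg 1
    have e2 := congrFun hg x
    have e3 := congrFun hg x⁻¹
    simp only [v, Matrix.cons_val_zero, Matrix.cons_val_one, Matrix.cons_val_two, Matrix.tail_cons, Matrix.head_cons,
      Pi.add_apply, Pi.smul_apply, Pi.zero_apply, smul_eq_mul, pRegularPart, hr1, hrx, hrx', if_true, tw_apply,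
      map_one, Units.val_one, mul_one, hinv, ← hw] at e1 e2 e3
    have f1 : g 0 + g 1 + g 2 = 0 := by
      have : (χ : X → ℂ) 1 * (g 0 + g 1 + g 2) = 0 := by linear_combination e1
      exact (mul_eq_zero.1 this).resolve_left hχ1
    have f2 : g 0 + g 1 * w + g 2 * w ^ 2 = 0 := by
      have : (χ : X → ℂ) x * (g 0 + g 1 * w + g 2 * w ^ 2) = 0 := by linear_combination e2
      exact (mul_eq_zero.1 this).resolve_left hχx
    have f3 : g 0 + g 1 * w ^ 2 + g 2 * w ^ 4 = 0 := by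
      have : (χ : X → ℂ) x⁻¹ * (g 0 + g 1 * w ^ 2 + g 2 * w ^ 4) = 0 := by linear_combination e3
      exact (mul_eq_zero.1 this).resolve_left hχx'
    have g0 : g 0 = 0 := by
      have : 3 * g 0 = 0 := by
        linear_combination f1 + f2 + f3 - (g 1) * hw2 - (g 2) * hw2 - (g 2) * w * hw3
      simpa using this
    have g1 : g 1 = 0 := by
      have h5 : g 1 * (w * (1 - w)) = 0 := by linear_combination f2 - w ^ 2 * f1 - (1 - w ^ 2) * g0
      rcases mul_eq_zero.1 h5 with h6 | h6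
      · exact h6
      · rcases mul_eq_zero.1 h6 with h7 | h7
        · exact absurd h7 hw0
        · exact absurd (sub_eq_zero.1 h7).symm hw1
    have g2 : g 2 = 0 := by linear_combination f1 - g0 - g1
    intro i
    fin_cases i
    · exact g0
    · exact g1
    · exact g2
  unfold blockRank
  have h5 := finrank_span_eq_card hv
  rw [Fintype.card_fin] at h5
  rw [← h5]
  refine Submodule.finrank_mono (Submodule.span_mono ?_)
  rintro _ ⟨i, rfl⟩
  fin_cases i
  · exact ⟨χ, hχ, rfl⟩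
  · exact ⟨_, hm1, rfl⟩
  · exact ⟨_, hm2, rfl⟩

/-- the inertia group -/
def inr (K : Subgroup X) [K.Normal] (θ : K → ℂ) : Subgroup X where
  carrier := {g | ∀ k : K, θ (MulAut.conjNormal g k) = θ k}
  mul_mem' := by
    intro a b ha hb k
    rw [map_mul, MulAut.mul_apply, ha, hb]
  one_mem' := by
    intro k
    rw [map_one, MulAut.one_apply]
  inv_mem' := by
    intro a ha k
    have h := ha (MulAut.conjNormal a⁻¹ k)
    rw [← MulAut.mul_apply, ← map_mul, mul_inv_cancel, map_one, MulAut.one_apply] at h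
    exact h.symm

omit [Finite X] in
theorem mem_inr [K.Normal] {θ : K → ℂ} {g : X} : g ∈ inr K θ ↔ ∀ k : K, θ (MulAut.conjNormal g k) = θ k := Iff.rfl

/-- `θ` not invariant: the characters over `θ` vanish outside `K P` -/
theorem QH.vanish (h : QH K P n) [hKn : K.Normal] (hidx : (K ⊔ P).index = 3) {θ : K → ℂ} (hθ : IsIrrCharacter K θ)
    (hP : P ≤ inr K θ) (hni : inr K θ ≠ ⊤) [Fintype K] {χ : X → ℂ} (hχ : IsIrrCharacter X χ)
    (ho : classInner (fun k : K => χ k) θ ≠ 0) {x : X} (hx : x ∉ K ⊔ P) : χ x = 0 := by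
  classical
  have := Fintype.ofFinite X
  have := Fintype.ofFinite (K ⊔ P : Subgroup X)
  have hGn := h.Gn
  have hle : K ⊔ P ≤ inr K θ := by
    refine sup_le ?_ hP
    intro k hk k'
    exact Cfsg.Agent.Characters.Core.isIrr_isClassFunction hθ k' ⟨k, hk⟩
  have heq : inr K θ = K ⊔ P := by
    have h1 : (inr K θ).index ∣ 3 := hidx ▸ Subgroup.index_dvd_of_le hle
    have h2 : (inr K θ).index = 3 := by
      rcases (Nat.dvd_prime Nat.prime_three).1 h1 with h3 | h3
      · exact absurd (Subgroup.index_eq_one.1 h3) hni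
      · exact h3
    have h3 := Subgroup.relIndex_mul_index hle
    rw [h2, hidx] at h3
    have h4 : (K ⊔ P).relIndex (inr K θ) = 1 := by omega
    exact le_antisymm (Subgroup.relIndex_eq_one.1 h4) hle
  obtain ⟨ψ, -, hψ, -⟩ := CharDeep.CliffordCorr.clifford_correspondence K θ hθ (K ⊔ P)
    (fun g => by rw [← heq, mem_inr]; rfl) le_sup_left χ hχ ho
  rw [← hψ]
  exact CharactersDeep.NormalInd.indFun_of_not_mem (K ⊔ P) ψ hx

/-- extension to a cyclic overgroup -/
theorem exists_ext' {A C : Type*} [Group A] [Group C] [Finite C] (m : A →* C) (hm : Function.Injective m)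
    (hn : m.range.Normal) (hc : IsCyclic (C ⧸ m.range)) {θ : A → ℂ} (hθ : IsIrrCharacter A θ)
    (hinv : ∀ (g : C) (a a' : A), m a' = g * m a * g⁻¹ → θ a' = θ a) : ∃ η : C → ℂ, IsIrrCharacter C η ∧ η ∘ m = θ := by
  let e : A ≃* m.range := MonoidHom.ofInjective hm
  have he : ∀ x : m.range, m (e.symm x) = x := fun x => congrArg Subtype.val (e.apply_symm_apply x)
  have h1 : IsIrrCharacter m.range (θ ∘ e.symm) :=
    Cfsg.Agent.Characters.Core.isIrr_comp (e.symm : m.range →* A) e.symm.surjective hθ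
  obtain ⟨η, hη, hηe⟩ := Cfsg.Agent.S0886.result m.range hc (θ ∘ e.symm) h1 (by
    intro g n
    exact hinv g _ _ (by rw [he, he]))
  refine ⟨η, hη, ?_⟩
  funext a
  have h2 := hηe (e a)
  rw [Function.comp_apply, e.symm_apply_apply] at h2
  rw [← h2]
  rfl

theorem QH.inf_bot (h : QH K P n) : K ⊓ P = ⊥ := by
  rw [eq_bot_iff]
  rintro x ⟨hxK, hxP⟩
  obtain ⟨k, hk⟩ := h.pP ⟨x, hxP⟩
  have h2 : x ^ 2 ^ k = 1 := by simpa only [_root_.SubmonoidClass.mk_pow, _root_.OneMemClass.coe_one] using congrArg Subtype.val hk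
  have h3 : orderOf x ∣ Nat.card K := by
    have := orderOf_dvd_natCard (⟨x, hxK⟩ : K)
    rwa [Subgroup.orderOf_mk] at this
  have h5 : Nat.Coprime (Nat.card K) (2 ^ k) :=
    Nat.Coprime.pow_right k ((Nat.Prime.coprime_iff_not_dvd Nat.prime_two).2 h.Kodd).symm
  have h6 := Nat.dvd_gcd h3 (orderOf_dvd_of_pow_eq_one h2)
  rw [h5] at h6
  exact orderOf_eq_one_iff.1 (Nat.dvd_one.1 h6)

theorem QH.K_index (h : QH K P 3) (hidx : (K ⊔ P).index = 3) : K.index = 24 := by
  have := h.Kn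
  have h1 := Subgroup.relIndex_mul_index (show K ≤ K ⊔ P from le_sup_left)
  rw [Subgroup.relIndex_sup_left, ← Subgroup.inf_relIndex_right, h.inf_bot, Subgroup.relIndex_bot_left, h.card8,
    hidx] at h1
  omega

/-- `θ` invariant: some character over `θ` in the block does not vanish at some element of odd order outside `K P` -/
theorem QH.nonvanish (h : QH K P 3) [hKn : K.Normal] (hidx : (K ⊔ P).index = 3) {θ : K → ℂ} (hθ : IsIrrCharacter K θ)
    (hinv : inr K θ = ⊤) [Fintype K] (hcov : ∀ χ ∈ B, classInner (fun k : K => (χ : X → ℂ) k) θ ≠ 0)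
    (h5 : 5 ≤ Nat.card B) : ∃ χ ∈ B, ∃ x : X, x ∉ K ⊔ P ∧ ¬ 2 ∣ orderOf x ∧ (χ : X → ℂ) x ≠ 0 := by
  classical
  have : Fact (Nat.Prime 3) := ⟨Nat.prime_three⟩
  have := Fintype.ofFinite X
  have := Cfsg.Agent.Characters.Core.finite_irr (G := X)
  have := Fintype.ofFinite (IrrCharacter X)
  by_contra hcon
  push Not at hcon
  have hWn := h.Gn
  -- an element of odd order outside `K P`
  obtain ⟨x, hx, hxo⟩ : ∃ x : X, x ∉ K ⊔ P ∧ ¬ 2 ∣ orderOf x := by
    by_contra hno
    push Not at hno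
    have h1 : K ⊔ P = ⊤ := by
      rw [eq_top_iff]
      intro g _
      refine mem_of_odd_part hWn (by rw [hidx]; omega) (H := ⊤) ?_ (Subgroup.mem_top g)
      intro y _ hy
      by_contra hyW
      exact hy (hno y hyW)
    rw [h1, Subgroup.index_top] at hidx
    omega
  set L : Subgroup X := K ⊔ Subgroup.zpowers x with hL
  have hKL : K ≤ L := le_sup_left
  have hLo : ¬ 2 ∣ Nat.card L := by
    intro h2
    have h3 := h2.trans (Lib.Cores.card_sup_dvd K (Subgroup.zpowers x) hKn)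
    rw [Nat.card_zpowers] at h3
    rcases (Nat.Prime.dvd_mul Nat.prime_two).1 h3 with h4 | h4
    · exact h.Kodd h4
    · exact hxo h4
  have hLodd : ∀ y ∈ L, ¬ 2 ∣ orderOf y := by
    intro y hy h2
    apply hLo
    refine h2.trans ?_
    have := orderOf_dvd_natCard (⟨y, hy⟩ : L)
    rwa [Subgroup.orderOf_mk] at this
  have hLW : ∀ y ∈ L, y ∉ K → y ∉ K ⊔ P := fun y hy hyK hyW => hyK (h.mem_K hyW (hLodd y hy))
  have hrel : K.relIndex L = 3 := by
    have h1 : K ⊓ L = (K ⊔ P) ⊓ L := by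
      apply le_antisymm
      · exact inf_le_inf_right _ le_sup_left
      · rintro y ⟨hyW, hyL⟩
        refine ⟨?_, hyL⟩
        by_contra hyK
        exact hLW y hyL hyK hyW
    have h2 : L ⊔ (K ⊔ P) = ⊤ := by
      have h3 : (L ⊔ (K ⊔ P)).index ∣ 3 := hidx ▸ Subgroup.index_dvd_of_le le_sup_right
      rcases (Nat.dvd_prime Nat.prime_three).1 h3 with h4 | h4
      · exact Subgroup.index_eq_one.1 h4
      · exfalso
        have h6 := Subgroup.relIndex_mul_index (show K ⊔ P ≤ L ⊔ (K ⊔ P) from le_sup_right)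
        rw [h4, hidx] at h6
        have h7 : (K ⊔ P).relIndex (L ⊔ (K ⊔ P)) = 1 := by omega
        exact hx (Subgroup.relIndex_eq_one.1 h7
          (Subgroup.mem_sup_left (Subgroup.mem_sup_right (Subgroup.mem_zpowers x))))
    rw [← Subgroup.inf_relIndex_right, h1, Subgroup.inf_relIndex_right, ← Subgroup.relIndex_sup_right, h2,
      Subgroup.relIndex_top_right, hidx]
  have hcardL : Nat.card L = 3 * Nat.card K := by
    have h1 := Subgroup.relIndex_mul_relIndex ⊥ K L bot_le hKL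
    rw [Subgroup.relIndex_bot_left, Subgroup.relIndex_bot_left, hrel] at h1
    (clear * - h1; omega)
  -- the extension
  let m : K →* L := Subgroup.inclusion hKL
  have hm : Function.Injective m := Subgroup.inclusion_injective hKL
  have hrange : m.range = K.subgroupOf L := Subgroup.inclusion_range hKL
  have hmn : m.range.Normal := by rw [hrange]; infer_instance
  have hcyc : IsCyclic (L ⧸ m.range) := by
    apply isCyclic_of_prime_card (p := 3)
    change m.range.index = 3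
    rw [hrange]
    exact hrel
  obtain ⟨η, hη, hηm⟩ := exists_ext' m hm hmn hcyc hθ (by
    intro g a a' haa
    have h1 : (g : X) ∈ inr K θ := by rw [hinv]; trivial
    have h2 := h1 a
    rw [← h2]
    congr 1
    exact Subtype.ext (congrArg (Subtype.val : L → X) haa))
  have h3 : ∀ χ ∈ B, ∃ a : ℕ, classInner (fun k : K => (χ : X → ℂ) k) θ = (3 * a : ℕ) := by
    intro χ hχ
    obtain ⟨a, ha⟩ := Cfsg.Agent.Characters.Core.classInner_isNat
      (Cfsg.Agent.Characters.Clifford.isCharacter_restrict L (Cfsg.Agent.Characters.Core.isIrr_isCharacter χ.2))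
      (Cfsg.Agent.Characters.Core.isIrr_isCharacter hη)
    refine ⟨a, ?_⟩
    rw [Cfsg.Agent.Characters.Core.classInner_def] at ha ⊢
    have hsum : ∑ y : L, (χ : X → ℂ) y * conj (η y) = ∑ k : K, (χ : X → ℂ) k * conj (θ k) := by
      rw [← Finset.sum_subset (Finset.subset_univ (Finset.univ.map ⟨m, hm⟩))]
      · rw [Finset.sum_map]
        refine Finset.sum_congr rfl fun k _ => ?_
        rw [← hηm]
        rfl
      · intro y _ hy
        have hyK : (y : X) ∉ K := by
          intro h6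
          apply hy
          rw [Finset.mem_map]
          exact ⟨⟨y, h6⟩, Finset.mem_univ _, rfl⟩
        rw [hcon χ hχ y (hLW y y.2 hyK) (hLodd y y.2), zero_mul]
    rw [hsum, hcardL] at ha
    have hK0 : (Nat.card K : ℂ) ≠ 0 := by exact_mod_cast Nat.card_pos.ne'
    push_cast at ha ⊢
    rw [← ha]
    field_simp
  obtain ⟨e, he, -, hsq⟩ := H669.OverCount.sum_sq_over K hθ (fun g n => by
    have h1 : g ∈ inr K θ := by rw [hinv]; trivial
    exact h1 n)
  rw [h.K_index hidx] at hsq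
  have h6 : ∀ χ ∈ B, 9 ≤ e χ ^ 2 := by
    intro χ hχ
    obtain ⟨a, ha⟩ := h3 χ hχ
    rw [he] at ha
    have h7 : e χ = 3 * a := by exact_mod_cast ha
    have h8 : e χ ≠ 0 := by
      intro h0
      apply hcov χ hχ
      rw [he, h0, Nat.cast_zero]
    have h9 : 1 ≤ a := by
      rcases Nat.eq_zero_or_pos a with h10 | h10
      · rw [h10] at h7; omega
      · exact h10
    rw [h7]
    nlinarith only [h9]
  have h7 : ∑ χ ∈ Finset.univ.filter (· ∈ B), 9 ≤ ∑ χ : IrrCharacter X, e χ ^ 2 := by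
    refine le_trans (Finset.sum_le_sum (fun χ hχ => h6 χ (Finset.mem_filter.1 hχ).2)) ?_
    exact Finset.sum_le_sum_of_subset (Finset.filter_subset _ _)
  rw [hsq, Finset.sum_const, smul_eq_mul] at h7
  have h8 : (Finset.univ.filter (· ∈ B)).card = Nat.card B := by
    rw [Nat.card_eq_fintype_card, ← Fintype.card_subtype]
  rw [h8] at h7
  omega

end Cfsg.Agent.H723.TI
end

-- part: H723/TI/QMid
section
/-!
# The blocks `b` of `N_G(P)` and `B` of `G` and the Glauberman correspondence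

`K` normal of odd order, `K ∩ N_G(P) ≤ C_G(P)`, `b` induces `B`, `β ∈ Irr (K ∩ N_G(P))` lies under `b`.  There is a
`P`-invariant `θ ∈ Irr K` under `B`, which is `G`-invariant if and only if `β` is `N_G(P)`-invariant.
-/

set_option autoImplicit false

namespace Cfsg.Agent.H723.TI

open Cfsg
open Cfsg.Agent.Blocks.Local
open Cfsg.Agent.H593.GlaubermanP
open Cfsg.Agent.Blocks.ConvCentral (lin lin_def)
open scoped ComplexConjugate

universe u

variable {G : Type u} [Group G] [Finite G] {P : Sylow 2 G} {K : Subgroup G} {M : Ideal AlgInt}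

/-- blocks of groups of order prime to `p` -/
theorem eq_of_sameBlock' {H : Type u} [Group H] [Finite H] {p : ℕ} (hM : IsPModular p M)
    (hH : ¬ p ∣ Nat.card H) {χ ψ : IrrCharacter H} (h : SameBlock M (χ : H → ℂ) (ψ : H → ℂ)) : χ = ψ := by
  classical
  have := Fintype.ofFinite H
  have := Fintype.ofFinite (⊤ : Subgroup H)
  let θ : IrrCharacter (⊤ : Subgroup H) := ⟨fun x => (χ : H → ℂ) x,
    Blocks.CliffordCentral.isIrrCharacter_comp χ.2 (⊤ : Subgroup H).subtype (fun x => ⟨⟨x, trivial⟩, rfl⟩)⟩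
  let θ' : IrrCharacter (⊤ : Subgroup H) := ⟨fun x => (ψ : H → ℂ) x,
    Blocks.CliffordCentral.isIrrCharacter_comp ψ.2 (⊤ : Subgroup H).subtype (fun x => ⟨⟨x, trivial⟩, rfl⟩)⟩
  have h1 : classInner (fun n : (⊤ : Subgroup H) => (χ : H → ℂ) n) (θ : (⊤ : Subgroup H) → ℂ) ≠ 0 := by
    have := Blocks.CliffordCentral.classInner_self θ
    change classInner (θ : (⊤ : Subgroup H) → ℂ) (θ : (⊤ : Subgroup H) → ℂ) ≠ 0
    rw [this]
    exact one_ne_zero
  have h2 := Blocks.PrimeNormal.constituent_of_sameBlock hM (⊤ : Subgroup H)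
    (by rwa [Subgroup.card_top]) χ.2 ψ.2 h θ.2 h1
  have h3 : θ' = θ := by
    by_contra hne
    exact h2 (Characters.Core.classInner_irr_ne θ'.2 θ.2 (fun h4 => hne (Subtype.ext h4)))
  apply Subtype.ext
  funext x
  exact (congrFun (congrArg Subtype.val h3) ⟨x, trivial⟩).symm

/-- the embedding of `K ∩ N` in `K` -/
def io (K N : Subgroup G) : K.subgroupOf N →* K where
  toFun d := ⟨((d : N) : G), d.2⟩
  map_one' := rfl
  map_mul' _ _ := rfl

/-- the action of `Q` on `K` by conjugation -/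
@[reducible] def actC (K : Subgroup G) [K.Normal] (Q : Subgroup G) : MulDistribMulAction Q K :=
  MulDistribMulAction.compHom K ((MulAut.conjNormal (H := K)).comp Q.subtype)

theorem setup [hKn : K.Normal] (hK : ¬ 2 ∣ Nat.card K) {N : Subgroup G}
    (hN : N = Subgroup.normalizer ((P : Subgroup G) : Set G)) :
    letI := actC K (P : Subgroup G)
    Setup (P : Subgroup G) (io K N) 2 := by
  let _ := actC K (P : Subgroup G)
  subst hN
  refine ⟨?_, ?_, P.isPGroup', hK⟩
  · intro a b hab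
    exact Subtype.ext (Subtype.ext (congrArg (Subtype.val : K → G) hab))
  · intro g
    constructor
    · intro h
      have hg : (g : G) ∈ Subgroup.normalizer ((P : Subgroup G) : Set G) := by
        apply Subgroup.centralizer_le_normalizer
        rw [Subgroup.mem_centralizer_iff]
        intro u hu
        have h1 := congrArg (Subtype.val : K → G) (h ⟨u, hu⟩)
        change u * (g : G) * u⁻¹ = g at h1
        exact mul_inv_eq_iff_eq_mul.1 h1
      exact ⟨⟨⟨g, hg⟩, g.2⟩, rfl⟩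
    · rintro ⟨c, rfl⟩ s
      apply Subtype.ext
      change (s : G) * ((c : Subgroup.normalizer ((P : Subgroup G) : Set G)) : G) * (s : G)⁻¹ = _
      have h1 := cent_of_mem hKn hK c.2 (c : Subgroup.normalizer ((P : Subgroup G) : Set G)).2
      rw [Subgroup.mem_centralizer_iff] at h1
      have h2 := h1 s s.2
      exact mul_inv_eq_iff_eq_mul.2 h2

/-- **`B` lies over the Glauberman correspondent of `β`** -/
theorem exists_theta (hM : IsPModular 2 M) [hKn : K.Normal] (hK : ¬ 2 ∣ Nat.card K) {N : Subgroup G}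
    (hN : N = Subgroup.normalizer ((P : Subgroup G) : Set G)) (hKN : K ⊔ N = ⊤)
    {bl : Set (IrrCharacter N)} {B : Set (IrrCharacter G)} (hb : IsInducedBlock M N bl B)
    {β : IrrCharacter (K.subgroupOf N)} [Fintype K] [Fintype (K.subgroupOf N)]
    {ξ : IrrCharacter N} (hξ : ξ ∈ bl)
    (hβ : classInner (fun c : K.subgroupOf N => (ξ : N → ℂ) c) (β : K.subgroupOf N → ℂ) ≠ 0) :
    ∃ θ : IrrCharacter K, (P : Subgroup G) ≤ inr K (θ : K → ℂ) ∧
      (∀ χ ∈ B, classInner (fun k : K => (χ : G → ℂ) k) (θ : K → ℂ) ≠ 0) ∧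
      (inr K (θ : K → ℂ) = ⊤ ↔ inr (K.subgroupOf N) (β : K.subgroupOf N → ℂ) = ⊤) := by
  classical
  have : Fact (Nat.Prime 2) := ⟨Nat.prime_two⟩
  have := Fintype.ofFinite G
  have hMp : M.IsPrime := hM.2.1.isPrime
  have := Fintype.ofFinite N
  let _ := actC K (P : Subgroup G)
  have hS : Setup (P : Subgroup G) (io K N) 2 := setup hK hN
  obtain ⟨θ, hθ, hθb⟩ := exists_chi hS hM β
  have hPθ : (P : Subgroup G) ≤ inr K (θ : K → ℂ) := fun u hu k => hθ ⟨u, hu⟩ k
  obtain ⟨χ₀, hχ₀⟩ := Blocks.Basic.isPBlock_nonempty hb.2.1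
  obtain ⟨θ', hθ'⟩ := Blocks.Fong.exists_constituent K χ₀
  -- the central characters of `θ` and `θ'` agree
  have hcc : ∀ y : K, MemLocalIdeal M (inducedCentralChar K (θ : K → ℂ) (y : G) -
      inducedCentralChar K (θ' : K → ℂ) (y : G)) := by
    intro y
    -- the class function
    let zf : K → ℂ := fun k => Blocks.CliffordCentral.classInd (y : G) (k : G)
    have hz1 : _root_.Cfsg.Agent.H593.GlaubermanP.Inv (P : Subgroup G) zf := by
      intro s k
      exact Blocks.CliffordCentral.classInd_conj (y : G) (k : G) (s : G)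
    have hz2 : IsClassFunction K zf := by
      intro a k
      exact Blocks.CliffordCentral.classInd_conj (y : G) _ _
    have hz3 : ∀ k, MemLocalRing M (zf k) := by
      intro k
      by_cases h : IsConj (y : G) (k : G)
      · simp only [zf, Blocks.CliffordCentral.classInd_pos h]
        exact memLocalRing_one
      · simp only [zf, Blocks.CliffordCentral.classInd_neg h]
        exact memLocalRing_zero
    have h1 := key hS hM θ β hθ hz1 hz2 hz3
    have h2 : MemLocalRing M (lin (θ : K → ℂ) zf / (θ : K → ℂ) 1 -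
        lin (β : K.subgroupOf N → ℂ) (zf ∘ io K N) / (β : K.subgroupOf N → ℂ) 1) :=
      memLocalRing_sub (lin_div_mem hM hK θ hz3) (lin_div_mem hM hS.ndvd' β (fun c => hz3 _))
    have h3 : MemLocalIdeal M (lin (θ : K → ℂ) zf / (θ : K → ℂ) 1 -
        lin (β : K.subgroupOf N → ℂ) (zf ∘ io K N) / (β : K.subgroupOf N → ℂ) 1) :=
      (memLocalIdeal_or_of_mul h2 (b_mem hS hM θ β) h1).resolve_right hθb
    -- the `K`-side
    have h4 : inducedCentralChar K (θ : K → ℂ) (y : G) = lin (θ : K → ℂ) zf / (θ : K → ℂ) 1 := by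
      rw [Blocks.CliffordCentral.inducedCentralChar_eq_sum, lin_def]
    -- the `N`-side
    have h5 : inducedCentralChar N (ξ : N → ℂ) (y : G) =
        lin (β : K.subgroupOf N → ℂ) (zf ∘ io K N) / (β : K.subgroupOf N → ℂ) 1 := by
      rw [Blocks.CliffordCentral.inducedCentralChar_eq_sum, lin_def]
      have h6 := Blocks.Over.sum_mul_eq_of_over (K.subgroupOf N) ξ.2 β.2 hβ
        (fun c => Blocks.CliffordCentral.classInd (y : G) ((c : N) : G)) (fun g c =>
          Blocks.CliffordCentral.classInd_conj (y : G) ((c : N) : G) (g : G))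
      rw [show (∑ c : K.subgroupOf N, (zf ∘ io K N) c * (β : K.subgroupOf N → ℂ) c) =
        ∑ c : K.subgroupOf N, Blocks.CliffordCentral.classInd (y : G) ((c : N) : G) *
          (β : K.subgroupOf N → ℂ) c from rfl, ← h6]
      congr 1
      rw [← Finset.sum_subset (Finset.subset_univ (Finset.univ.map
        ⟨(Subtype.val : K.subgroupOf N → N), Subtype.val_injective⟩))]
      · rw [Finset.sum_map]
        rfl
      · intro h _ hh
        have h7 : ¬ IsConj (y : G) (h : G) := by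
          intro h8
          apply hh
          rw [Finset.mem_map]
          obtain ⟨c, hc⟩ := isConj_iff.1 h8
          refine ⟨⟨h, ?_⟩, Finset.mem_univ _, rfl⟩
          rw [Subgroup.mem_subgroupOf, ← hc]
          exact hKn.conj_mem _ y.2 c
        rw [Blocks.CliffordCentral.classInd_neg h7, zero_mul]
    have h6 : inducedCentralChar K (θ' : K → ℂ) (y : G) = centralChar (χ₀ : G → ℂ) (y : G) :=
      (Blocks.Over.centralChar_eq_of_over K χ₀.2 θ'.2 hθ' y).symm
    have h7 := hb.2.2 ξ hξ χ₀ hχ₀ (y : G)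
    rw [h5, ← h6] at h7
    rw [← h4] at h3
    have h8 := memLocalIdeal_add h3 h7
    rw [sub_add_sub_cancel] at h8
    exact h8
  -- `θ` is a conjugate of `θ'`
  obtain ⟨g, hg⟩ := Blocks.CoverConj.exists_conjIrr_mem 2 hM K (blockOf M (θ' : K → ℂ)) ⟨θ', rfl⟩ θ'
    (Blocks.Basic.mem_blockOf_self θ') θ hcc
  have hgθ : θ' = Blocks.Covering.conjIrr K g θ := eq_of_sameBlock' hM hK hg
  have hover : classInner (fun k : K => (χ₀ : G → ℂ) k) (θ : K → ℂ) ≠ 0 := by
    rw [hgθ] at hθ'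
    have h1 := Characters.Clifford.classInner_restrict_conjNormal (N := K)
      (Characters.Core.isIrr_isClassFunction χ₀.2) (θ : K → ℂ) g
    intro h2
    apply hθ'
    rw [← h2, ← h1]
    rfl
  refine ⟨θ, hPθ, ?_, ?_⟩
  · intro χ hχ
    exact Blocks.PrimeNormal.constituent_of_sameBlock hM K hK χ₀.2 χ.2
      (Blocks.Basic.isPBlock_sameBlock hb.2.1 hχ₀ hχ) θ.2 hover
  -- invariance
  · have hbval : ∀ (θ₁ : IrrCharacter K) (β₁ : IrrCharacter (K.subgroupOf N)) (n : N),
        (∀ k : K, (θ₁ : K → ℂ) (MulAut.conjNormal (n : G) k) = (θ : K → ℂ) k) →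
        (∀ c : K.subgroupOf N, (β₁ : K.subgroupOf N → ℂ) (MulAut.conjNormal n c) = (β : K.subgroupOf N → ℂ) c) →
        b (io K N) θ₁ β₁ = b (io K N) θ β := by
      intro θ₁ β₁ n h1 h2
      rw [b_def, b_def, lin_def, lin_def]
      have h3 : (β₁ : K.subgroupOf N → ℂ) 1 = (β : K.subgroupOf N → ℂ) 1 := by
        rw [← h2 1, map_one]
      have h4 : (θ₁ : K → ℂ) 1 = (θ : K → ℂ) 1 := by
        rw [← h1 1, map_one]
      rw [h3]
      congr 1
      rw [← Equiv.sum_comp (MulAut.conjNormal n : K.subgroupOf N ≃* K.subgroupOf N).toEquiv]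
      refine Finset.sum_congr rfl fun c _ => ?_
      change idem θ₁ (io K N (MulAut.conjNormal n c)) * (β₁ : K.subgroupOf N → ℂ) (MulAut.conjNormal n c) =
        idem θ (io K N c) * (β : K.subgroupOf N → ℂ) c
      rw [h2, idem_apply, idem_apply, h4]
      have h5 : io K N (MulAut.conjNormal n c) = MulAut.conjNormal (n : G) (io K N c) := rfl
      rw [h5, h1]
    constructor
    · intro hinv
      rw [eq_top_iff]
      intro n _
      -- the conjugate of `β`
      let β₁ : IrrCharacter (K.subgroupOf N) := Blocks.Covering.conjIrr (K.subgroupOf N) n⁻¹ β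
      have h1 : b (io K N) θ β₁ = b (io K N) θ β := by
        apply hbval θ β₁ n
        · intro k
          have h2 : (n : G) ∈ inr K (θ : K → ℂ) := by rw [hinv]; trivial
          exact h2 k
        · intro c
          change (β : K.subgroupOf N → ℂ) (MulAut.conjNormal n⁻¹ (MulAut.conjNormal n c)) = _
          rw [← MulAut.mul_apply, ← map_mul, inv_mul_cancel, map_one, MulAut.one_apply]
      have h2 : β₁ = β := unique_beta hS hM hθ (by rw [h1]; exact hθb) hθb
      intro c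
      have h3 := congrFun (congrArg (Subtype.val : IrrCharacter (K.subgroupOf N) → _) h2) (MulAut.conjNormal n c)
      change (β : K.subgroupOf N → ℂ) (MulAut.conjNormal n⁻¹ (MulAut.conjNormal n c)) = _ at h3
      rw [← MulAut.mul_apply, ← map_mul, inv_mul_cancel, map_one, MulAut.one_apply] at h3
      exact h3.symm
    · intro hinv
      have hNθ : N ≤ inr K (θ : K → ℂ) := by
        intro n hn
        let θ₁ : IrrCharacter K := Blocks.Covering.conjIrr K n⁻¹ θ
        have h1 : b (io K N) θ₁ β = b (io K N) θ β := by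
          apply hbval θ₁ β ⟨n, hn⟩
          · intro k
            change (θ : K → ℂ) (MulAut.conjNormal n⁻¹ (MulAut.conjNormal n k)) = _
            rw [← MulAut.mul_apply, ← map_mul, inv_mul_cancel, map_one, MulAut.one_apply]
          · intro c
            have h2 : (⟨n, hn⟩ : N) ∈ inr (K.subgroupOf N) (β : K.subgroupOf N → ℂ) := by rw [hinv]; trivial
            exact h2 c
        have hθ₁ : _root_.Cfsg.Agent.H593.GlaubermanP.Inv (P : Subgroup G) (θ₁ : K → ℂ) := by
          intro s k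
          change (θ : K → ℂ) (MulAut.conjNormal n⁻¹ (MulAut.conjNormal (s : G) k)) =
            (θ : K → ℂ) (MulAut.conjNormal n⁻¹ k)
          have h2 : n⁻¹ * (s : G) * n ∈ (P : Subgroup G) := by
            have hn' := hn
            rw [hN] at hn'
            have := (Subgroup.mem_normalizer_iff.1 (inv_mem hn') (s : G)).1 s.2
            simpa using this
          have h3 := hPθ h2 (MulAut.conjNormal n⁻¹ k)
          rw [← h3]
          congr 1
          rw [← MulAut.mul_apply, ← map_mul, ← MulAut.mul_apply, ← map_mul]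
          congr 2
          group
        have h2 : θ₁ = θ := unique_chi hS hM hθ₁ hθ (by rw [h1]; exact hθb) hθb
        intro k
        have h3 := congrFun (congrArg (Subtype.val : IrrCharacter K → _) h2) (MulAut.conjNormal n k)
        change (θ : K → ℂ) (MulAut.conjNormal n⁻¹ (MulAut.conjNormal n k)) = _ at h3
        rw [← MulAut.mul_apply, ← map_mul, inv_mul_cancel, map_one, MulAut.one_apply] at h3
        exact h3.symm
      rw [eq_top_iff, ← hKN]
      refine sup_le ?_ hNθ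
      intro k hk k'
      exact Characters.Core.isIrr_isClassFunction θ.2 k' ⟨k, hk⟩

end Cfsg.Agent.H723.TI
end

-- part: H723/TI/Quat
section
/-!
# S4819: generalised quaternion TI Sylow 2-subgroups
-/

set_option autoImplicit false

namespace Cfsg.Agent.H723.TI

open Cfsg

universe u

variable {G : Type u} [Group G] [Finite G]

/-- a block of `QH` has at least 5 members -/
theorem QH.card_five {X : Type u} [Group X] [Finite X] {K P : Subgroup X} (h : QH K P 3) {M : Ideal AlgInt}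
    (hM : IsPModular 2 M) {B : Set (IrrCharacter X)} (hB : IsPBlock M B) (hD : IsDefectGroup 2 M B P) :
    5 ≤ Nat.card B := by
  have h1 := Cfsg.Agent.S4530.result M hM B hB P hD 3 le_rfl h.q
  have h2 := h1.1
  have h3 := h1.2.2.1
  rw [h3]
  norm_num
  omega

/-- S4819 for generalised quaternion TI Sylow 2-subgroups -/
theorem rk_quat (P : Sylow 2 G) (hTI : TIs P) {n : ℕ} (hn : 3 ≤ n)
    (e : (P : Subgroup G) ≃* QuaternionGroup (2 ^ (n - 2))) : Rk 2 P := by
  intro M hM B hB hBP b hb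
  classical
  have : Fact (Nat.Prime 2) := ⟨Nat.prime_two⟩
  have := Fintype.ofFinite G
  have hMp : M.IsPrime := hM.2.1.isPrime
  obtain ⟨z, h⟩ := exists_QG hTI e
  have hG := h.qh hn e
  have hN := h.qhN hn e
  have hidxN := h.index_eq
  have hbD := defect_b hM P hb.1
  have hKn := hG.Kn
  rcases hG.idx with h1 | ⟨h1, rfl, -⟩
  · have hvG : ∀ χ ∈ B, ∀ x : G, x ∉ pPrimeCore 2 G ⊔ (P : Subgroup G) → ¬ 2 ∣ orderOf x → (χ : G → ℂ) x = 0 := by
      intro χ _ x hx
      rw [Subgroup.index_eq_one.1 h1] at hx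
      exact absurd (Subgroup.mem_top x) hx
    rw [hG.rank_one hM hB hvG]
    symm
    apply hN.rank_one hM hb.1
    intro χ _ x hx
    rw [h1] at hidxN
    rw [Subgroup.index_eq_one.1 hidxN] at hx
    exact absurd (Subgroup.mem_top x) hx
  · rw [h1] at hidxN
    have := Fintype.ofFinite (Subgroup.normalizer ((P : Subgroup G) : Set G))
    have := Fintype.ofFinite (pPrimeCore 2 G)
    have := Fintype.ofFinite ((pPrimeCore 2 G).subgroupOf (Subgroup.normalizer ((P : Subgroup G) : Set G)))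
    obtain ⟨ξ, hξ⟩ := Blocks.Basic.isPBlock_nonempty hb.1
    obtain ⟨β, hβ⟩ := Blocks.Fong.exists_constituent
      ((pPrimeCore 2 G).subgroupOf (Subgroup.normalizer ((P : Subgroup G) : Set G))) ξ
    obtain ⟨θ, hPθ, hcov, hiff⟩ := exists_theta hM hG.Kodd rfl h.sup_top hb hξ hβ
    have hcovN : ∀ ξ' ∈ b, classInner (fun c : (pPrimeCore 2 G).subgroupOf
        (Subgroup.normalizer ((P : Subgroup G) : Set G)) =>
        (ξ' : Subgroup.normalizer ((P : Subgroup G) : Set G) → ℂ) c) (β : (pPrimeCore 2 G).subgroupOf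
        (Subgroup.normalizer ((P : Subgroup G) : Set G)) → ℂ) ≠ 0 := by
      intro ξ' hξ'
      exact Blocks.PrimeNormal.constituent_of_sameBlock hM _ hN.Kodd ξ.2 ξ'.2
        (Blocks.Basic.isPBlock_sameBlock hb.1 hξ hξ') β.2 hβ
    by_cases hinv : inr (pPrimeCore 2 G) (θ : pPrimeCore 2 G → ℂ) = ⊤
    · obtain ⟨χ, hχ, x, hx, hxo, hχx⟩ := hG.nonvanish h1 θ.2 hinv hcov (hG.card_five hM hB hBP)
      obtain ⟨χ', hχ', x', hx', hxo', hχx'⟩ := hN.nonvanish hidxN β.2 (hiff.1 hinv) hcovN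
        (hN.card_five hM hb.1 hbD)
      rw [hG.rank_three hM hB hBP hχ hx hxo hχx, hN.rank_three hM hb.1 hbD hχ' hx' hxo' hχx']
    · have hPβ : (P : Subgroup G).subgroupOf (Subgroup.normalizer ((P : Subgroup G) : Set G)) ≤
          inr ((pPrimeCore 2 G).subgroupOf (Subgroup.normalizer ((P : Subgroup G) : Set G)))
            (β : (pPrimeCore 2 G).subgroupOf (Subgroup.normalizer ((P : Subgroup G) : Set G)) → ℂ) := by
        intro u hu c
        have h2 := cent_of_mem hKn hG.Kodd c.2 (c : Subgroup.normalizer ((P : Subgroup G) : Set G)).2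
        rw [Subgroup.mem_centralizer_iff] at h2
        have h3 : MulAut.conjNormal u c = c := by
          apply Subtype.ext
          apply Subtype.ext
          exact mul_inv_eq_iff_eq_mul.2 (h2 (u : G) hu)
        rw [h3]
      rw [hG.rank_one hM hB (fun χ hχ x hx _ => hG.vanish h1 θ.2 hPθ hinv χ.2 (hcov χ hχ) hx),
        hN.rank_one hM hb.1 (fun χ hχ x hx _ => hN.vanish hidxN β.2 hPβ (fun h2 => hinv (hiff.2 h2)) χ.2
          (hcovN χ hχ) hx)]

end Cfsg.Agent.H723.TI
end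

-- part: H723/TI/Dich
section
/-!
# S4819: the cases with `P` normal, cyclic or generalised quaternion, and the dichotomy
-/

set_option autoImplicit false

namespace Cfsg.Agent.H723.TI

open Cfsg

universe u

/-- a noncyclic `p`-group which is not generalised quaternion has a noncyclic commutative subgroup -/
theorem exists_V {p : ℕ} [Fact p.Prime] {G : Type u} [Group G] [Finite G] (P : Subgroup G) (hP : IsPGroup p P)
    (h : ∀ V : Subgroup G, V ≤ P → IsMulCommutative V → IsCyclic V) :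
    IsCyclic P ∨ (p = 2 ∧ ∃ n : ℕ, 3 ≤ n ∧ Nonempty (P ≃* QuaternionGroup (2 ^ (n - 2)))) := by
  have hp : p.Prime := Fact.out
  by_cases h1 : Nontrivial P
  swap
  · left
    have : Subsingleton P := not_nontrivial_iff_subsingleton.1 h1
    infer_instance
  have hcn : Nontrivial (Subgroup.center P) := hP.center_nontrivial
  obtain ⟨z, hz⟩ : ∃ z : Subgroup.center P, orderOf z = p := by
    apply exists_prime_orderOf_dvd_card'
    have h2 : IsPGroup p (Subgroup.center P) := hP.to_subgroup _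
    obtain ⟨k, hk⟩ := IsPGroup.iff_card.1 h2
    rw [hk]
    apply dvd_pow_self
    rintro rfl
    have h3 : 1 < Nat.card (Subgroup.center P) := Finite.one_lt_card
    rw [hk, pow_zero] at h3
    omega
  set Z : Subgroup P := Subgroup.zpowers (z : P) with hZ
  have hZc : Nat.card Z = p := by rw [hZ, Nat.card_zpowers, Subgroup.orderOf_coe, hz]
  have hZcen : Z ≤ Subgroup.center P := by
    rw [hZ, Subgroup.zpowers_le]; exact z.2
  have key : ∀ H : Subgroup P, Nat.card H = p → H = Z := by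
    intro H hH
    have hHcyc : IsCyclic H := isCyclic_of_prime_card hH
    have hHc : H ≤ Subgroup.centralizer (H : Set P) := by
      intro a ha
      rw [Subgroup.mem_centralizer_iff]
      intro b hb
      obtain ⟨g, hg⟩ := hHcyc.exists_generator
      obtain ⟨i, hi⟩ := Subgroup.mem_zpowers_iff.1 (hg ⟨a, ha⟩)
      obtain ⟨j, hj⟩ := Subgroup.mem_zpowers_iff.1 (hg ⟨b, hb⟩)
      have h2 : (⟨b, hb⟩ : H) * ⟨a, ha⟩ = ⟨a, ha⟩ * ⟨b, hb⟩ := by
        rw [← hi, ← hj, ← zpow_add, ← zpow_add, add_comm]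
      exact congrArg Subtype.val h2
    have hV1 : H ⊔ Z ≤ Subgroup.centralizer (H : Set P) :=
      sup_le hHc (hZcen.trans (Subgroup.center_le_centralizer _))
    have hV2 : H ⊔ Z ≤ Subgroup.centralizer ((H ⊔ Z : Subgroup P) : Set P) :=
      sup_le (Subgroup.le_centralizer_iff.1 hV1) (hZcen.trans (Subgroup.center_le_centralizer _))
    have hVc : IsMulCommutative ((H ⊔ Z).map P.subtype) := by
      refine ⟨⟨?_⟩⟩
      rintro ⟨_, a, ha, rfl⟩ ⟨_, b, hb, rfl⟩
      apply Subtype.ext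
      have h2 := (Subgroup.mem_centralizer_iff.1 (hV2 hb)) a ha
      exact congrArg (Subtype.val : P → G) h2
    have hVcyc := h ((H ⊔ Z).map P.subtype) (Subgroup.map_subtype_le _) hVc
    have hcyc : IsCyclic (H ⊔ Z : Subgroup P) :=
      isCyclic_of_surjective ((H ⊔ Z).equivMapOfInjective P.subtype P.subtype_injective).symm
        ((H ⊔ Z).equivMapOfInjective P.subtype P.subtype_injective).symm.surjective
    have hle : H ≤ Z := by
      intro x hx
      refine mem_of_pow (P := H ⊔ Z) hcyc le_sup_right hp.pos hZc (Subgroup.mem_sup_left hx) ?_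
      have h2 : (⟨x, hx⟩ : H) ^ p = 1 := by rw [← hH]; exact pow_card_eq_one'
      simpa only [_root_.SubmonoidClass.mk_pow, _root_.OneMemClass.coe_one] using congrArg Subtype.val h2
    exact Subgroup.eq_of_le_of_card_ge hle (by rw [hH, hZc])
  rcases Cfsg.Agent.S0016.result p hP (fun H K hH hK => (key H hH).trans (key K hK).symm) with hc | ⟨h2, n, ⟨e⟩⟩
  · exact Or.inl hc
  · rcases Nat.eq_zero_or_pos n with rfl | hn
    · left
      have hc : IsCyclic (QuaternionGroup 1) := by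
        refine ⟨⟨QuaternionGroup.xa 0, ?_⟩⟩
        have : ∀ x : QuaternionGroup 1, ∃ k : Fin 4, (QuaternionGroup.xa 0 : QuaternionGroup 1) ^ (k : ℕ) = x := by
          decide
        intro x
        obtain ⟨k, hk⟩ := this x
        exact ⟨((k : ℕ) : ℤ), (zpow_natCast _ _).trans hk⟩
      have e' : P ≃* QuaternionGroup 1 := e
      exact isCyclic_of_surjective e'.symm e'.symm.surjective
    · exact Or.inr ⟨h2, n + 2, by omega, ⟨e⟩⟩

/-- **The reduction**: normal, cyclic and quaternion `P` are known. -/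
theorem rk_of (H : ∀ {p : ℕ} [Fact p.Prime] {G : Type u} [Group G] [Finite G] (P : Sylow p G) (_ : TIs P)
    (_ : ¬ (P : Subgroup G).Normal) {V : Subgroup G} (_ : V ≤ P) (_ : IsMulCommutative V)
    (_ : ¬ IsCyclic V), Rk p P) {p : ℕ} [Fact p.Prime] {G : Type u} [Group G] [Finite G] (P : Sylow p G)
    (hTI : TIs P) : Rk p P := by
  by_cases hn : (P : Subgroup G).Normal
  · exact rk_normal P (Subgroup.normalizer_eq_top_iff.2 hn)
  by_cases hV : ∃ V : Subgroup G, V ≤ P ∧ IsMulCommutative V ∧ ¬ IsCyclic V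
  · obtain ⟨V, hV1, hV2, hV3⟩ := hV
    exact H P hTI hn hV1 hV2 hV3
  push Not at hV
  rcases exists_V (P : Subgroup G) P.isPGroup' hV with hc | ⟨rfl, n, hn3, ⟨e⟩⟩
  · refine rk_cyclic P ?_ hc hTI
    intro h1
    apply hn
    rw [h1]
    infer_instance
  · exact rk_quat P hTI hn3 e

end Cfsg.Agent.H723.TI
end
end

-- part: H345/TiT2/GLFive
section
prune_inst 0x2f03077455562020008040582f3007ce3b7000192002bc000f1e60246078ccf628902a720f43011188088be14503d006813180160420000000a003c00011f01a088aa4200b308a10404000f819086010000000000000000000000000000000004004010000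
set_option linter.all false
open scoped Cfsg.Agent.FastGrp

/-!
# Subgroups of `GL(2, 5)` of order 96 containing the diagonal torus (helper345, for S4819 / S4820)

`classes_16` : such a subgroup `H` has 16 conjugacy classes; `classes_14` : a subgroup of index 2 has 14 classes.
-/

set_option autoImplicit false

namespace Cfsg.Agent.H345.TiT2.GLFive

instance : Fact (Nat.Prime 5) := ⟨by norm_num⟩

theorem pow_four {M : Type*} [Monoid M] (g : M) : g ^ 4 = (g * g) * (g * g) := by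
  rw [pow_succ, pow_succ, pow_succ, pow_one, mul_assoc (g * g)]

theorem pow_twenty {M : Type*} [Monoid M] (g : M) :
    g ^ 20 = ((g ^ 4 * g ^ 4) * (g ^ 4 * g ^ 4)) * g ^ 4 := by
  simp only [← pow_add]

/-- codes of 2 × 2 matrices -/
abbrev Q := ZMod 5 × ZMod 5 × ZMod 5 × ZMod 5

/-- product -/
def mu (m n : Q) : Q := (m.1 * n.1 + m.2.1 * n.2.2.1, m.1 * n.2.1 + m.2.1 * n.2.2.2,
  m.2.2.1 * n.1 + m.2.2.2 * n.2.2.1, m.2.2.1 * n.2.1 + m.2.2.2 * n.2.2.2)

/-- determinant -/
def dt (m : Q) : ZMod 5 := m.1 * m.2.2.2 - m.2.1 * m.2.2.1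

/-- the elements of the group of order 96 -/
def gd (m : Q) : Prop := dt m ≠ 0 ∧ ((m.2.1 = 0 ∧ m.2.2.1 = 0) ∨ (m.1 = 0 ∧ m.2.2.2 = 0) ∨
  m.1 * m.2.2.2 + m.2.1 * m.2.2.1 = 0)

instance (m : Q) : Decidable (gd m) := by unfold gd; infer_instance

/-- a multiple root of the characteristic polynomial, not scalar -/
def ds (m : Q) : Prop := (m.1 + m.2.2.2) * (m.1 + m.2.2.2) = 4 * dt m ∧ ¬ (m.2.1 = 0 ∧ m.2.2.1 = 0)

instance (m : Q) : Decidable (ds m) := by unfold ds; infer_instance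

private abbrev N4 := ℕ × ℕ × ℕ × ℕ

private def cs (m : N4) : Q := ((m.1 : ZMod 5), (m.2.1 : ZMod 5), (m.2.2.1 : ZMod 5), (m.2.2.2 : ZMod 5))

private def vl (m : Q) : N4 := (m.1.val, m.2.1.val, m.2.2.1.val, m.2.2.2.val)

private def A4 : Finset N4 := Finset.range 5 ×ˢ Finset.range 5 ×ˢ Finset.range 5 ×ˢ Finset.range 5

private theorem cs_vl (m : Q) : cs (vl m) = m := by
  simp only [cs, vl, ZMod.natCast_zmod_val]

private theorem vl_mem (m : Q) : vl m ∈ A4 := by
  simp only [A4, vl, Finset.mem_product, Finset.mem_range]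
  exact ⟨ZMod.val_lt _, ZMod.val_lt _, ZMod.val_lt _, ZMod.val_lt _⟩

private theorem vl_cs {n : N4} (h : n ∈ A4) : vl (cs n) = n := by
  simp only [A4, Finset.mem_product, Finset.mem_range] at h
  obtain ⟨h1, h2, h3, h4⟩ := h
  simp only [cs, vl, ZMod.val_natCast, Nat.mod_eq_of_lt h1, Nat.mod_eq_of_lt h2, Nat.mod_eq_of_lt h3,
    Nat.mod_eq_of_lt h4]

private def z5 (x : ℕ) : Bool := Nat.beq (Nat.mod x 5) 0

private def e5 (x y : ℕ) : Bool := Nat.beq (Nat.mod x 5) (Nat.mod y 5)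

private theorem e5_iff (x y : ℕ) : e5 x y = true ↔ (x : ZMod 5) = (y : ZMod 5) := by
  rw [ZMod.natCast_eq_natCast_iff', e5, Nat.beq_eq]; rfl

private theorem z5_iff (x : ℕ) : z5 x = true ↔ (x : ZMod 5) = 0 := by
  have h := e5_iff x 0
  rw [Nat.cast_zero] at h
  exact h

private def muN (m n : N4) : N4 :=
  (Nat.add (Nat.mul m.1 n.1) (Nat.mul m.2.1 n.2.2.1), Nat.add (Nat.mul m.1 n.2.1) (Nat.mul m.2.1 n.2.2.2),
    Nat.add (Nat.mul m.2.2.1 n.1) (Nat.mul m.2.2.2 n.2.2.1), Nat.add (Nat.mul m.2.2.1 n.2.1) (Nat.mul m.2.2.2 n.2.2.2))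

private theorem cs_mu (m n : N4) : cs (muN m n) = mu (cs m) (cs n) := by
  simp only [cs, muN, mu, Nat.add_eq, Nat.mul_eq, Nat.cast_add, Nat.cast_mul]

private def eqN (m n : N4) : Bool := e5 m.1 n.1 && (e5 m.2.1 n.2.1 && (e5 m.2.2.1 n.2.2.1 && e5 m.2.2.2 n.2.2.2))

private theorem eqN_iff (m n : N4) : eqN m n = true ↔ cs m = cs n := by
  simp only [eqN, cs, Bool.and_eq_true, e5_iff, Prod.mk.injEq]

private def dtN (m : N4) : ℕ := Nat.add (Nat.mul m.1 m.2.2.2) (Nat.mul 4 (Nat.mul m.2.1 m.2.2.1))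

private theorem dt_cs (m : N4) : dt (cs m) = (dtN m : ZMod 5) := by
  have h4 : ((4 : ℕ) : ZMod 5) = -1 := by decide
  simp only [cs, dt, dtN, Nat.add_eq, Nat.mul_eq, Nat.cast_add, Nat.cast_mul, h4, neg_one_mul, sub_eq_add_neg]

private def gdN (m : N4) : Bool := !z5 (dtN m) && ((z5 m.2.1 && z5 m.2.2.1) || ((z5 m.1 && z5 m.2.2.2) ||
  z5 (Nat.add (Nat.mul m.1 m.2.2.2) (Nat.mul m.2.1 m.2.2.1))))

private theorem gdN_iff (m : N4) : gdN m = true ↔ gd (cs m) := by
  unfold gd
  rw [dt_cs]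
  simp only [gdN, cs, Bool.and_eq_true, Bool.or_eq_true, Bool.not_eq_true', Bool.eq_false_iff, ne_eq, z5_iff,
    Nat.add_eq, Nat.mul_eq, Nat.cast_add, Nat.cast_mul]

private def gdN' (m : N4) : Bool := gdN m && e5 (Nat.mul (dtN m) (dtN m)) 1

private theorem gdN'_iff (m : N4) : gdN' m = true ↔ gd (cs m) ∧ dt (cs m) * dt (cs m) = 1 := by
  rw [dt_cs]
  simp only [gdN', Bool.and_eq_true, gdN_iff, e5_iff, Nat.mul_eq, Nat.cast_mul, Nat.cast_one]

private def dsN (m : N4) : Bool :=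
  e5 (Nat.mul (Nat.add m.1 m.2.2.2) (Nat.add m.1 m.2.2.2)) (Nat.mul 4 (dtN m)) && !(z5 m.2.1 && z5 m.2.2.1)

private theorem dsN_iff (m : N4) : dsN m = true ↔ ds (cs m) := by
  unfold ds
  rw [dt_cs]
  simp only [dsN, cs, Bool.and_eq_true, Bool.not_eq_true', Bool.eq_false_iff, ne_eq, z5_iff, e5_iff,
    Nat.add_eq, Nat.mul_eq, Nat.cast_add, Nat.cast_mul, Nat.cast_ofNat]

private theorem card_tr (P : Q → Prop) [DecidablePred P] (p : N4 → Bool) (h : ∀ m, p m = true ↔ P (cs m)) :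
    (Finset.univ.filter P).card = (A4.filter (fun m => p m = true)).card := by
  refine Finset.card_nbij' vl cs (fun m hm => ?_) (fun m hm => ?_) (fun m _ => cs_vl m) (fun m hm => ?_)
  · rw [Finset.mem_coe, Finset.mem_filter] at hm ⊢
    exact ⟨vl_mem m, (h _).2 (by rw [cs_vl]; exact hm.2)⟩
  · rw [Finset.mem_coe, Finset.mem_filter] at hm ⊢
    exact ⟨Finset.mem_univ _, (h _).1 hm.2⟩
  · rw [Finset.mem_coe, Finset.mem_filter] at hm
    exact vl_cs hm.1

private theorem com_tr (P : Q → Prop) [DecidablePred P] (p : N4 → Bool) (h : ∀ m, p m = true ↔ P (cs m)) :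
    (((Finset.univ.filter P) ×ˢ (Finset.univ.filter P)).filter (fun q => mu q.1 q.2 = mu q.2 q.1)).card =
      (((A4.filter (fun m => p m = true)) ×ˢ (A4.filter (fun m => p m = true))).filter
        (fun q => eqN (muN q.1 q.2) (muN q.2 q.1) = true)).card := by
  refine Finset.card_nbij' (fun q => (vl q.1, vl q.2)) (fun q => (cs q.1, cs q.2)) (fun m hm => ?_) (fun m hm => ?_)
    (fun m _ => Prod.ext (cs_vl m.1) (cs_vl m.2)) (fun m hm => ?_)
  · rw [Finset.mem_coe, Finset.mem_filter, Finset.mem_product, Finset.mem_filter, Finset.mem_filter] at hm ⊢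
    refine ⟨⟨⟨vl_mem _, (h _).2 ?_⟩, vl_mem _, (h _).2 ?_⟩, ?_⟩
    · rw [cs_vl]; exact hm.1.1.2
    · rw [cs_vl]; exact hm.1.2.2
    · rw [eqN_iff, cs_mu, cs_mu, cs_vl, cs_vl]; exact hm.2
  · rw [Finset.mem_coe, Finset.mem_filter, Finset.mem_product, Finset.mem_filter, Finset.mem_filter] at hm ⊢
    refine ⟨⟨⟨Finset.mem_univ _, (h _).1 hm.1.1.2⟩, Finset.mem_univ _, (h _).1 hm.1.2.2⟩, ?_⟩
    have h2 := hm.2
    rw [eqN_iff, cs_mu, cs_mu] at h2
    exact h2
  · rw [Finset.mem_coe, Finset.mem_filter, Finset.mem_product, Finset.mem_filter, Finset.mem_filter] at hm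
    exact Prod.ext (vl_cs hm.1.1.1) (vl_cs hm.1.2.1)

theorem card_gd : (Finset.univ.filter (fun m : Q => gd m)).card = 96 :=
  (card_tr _ gdN gdN_iff).trans (by decide +kernel)

theorem card_gd' : (Finset.univ.filter (fun m : Q => gd m ∧ dt m * dt m = 1)).card = 48 :=
  (card_tr _ gdN' gdN'_iff).trans (by decide +kernel)

private noncomputable def _root_.Cfsg.Agent.LsF.f6c9fb1_0 : {f // @Cfsg.Agent.H345.TiT2.GLFive.A4 = f} := ⟨_, by first | (delta Cfsg.Agent.H345.TiT2.GLFive.A4; rewrite [Cfsg.Agent.LsF.frange_eq]; exact rfl) | exact rfl⟩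
private noncomputable def _root_.Cfsg.Agent.LsF.f6c9fb1_1 : {f // @Cfsg.Agent.H345.TiT2.GLFive.gdN = f} := ⟨_, by first | (delta Cfsg.Agent.H345.TiT2.GLFive.gdN; rewrite [Cfsg.Agent.LsF.and_eq, Cfsg.Agent.LsF.or_eq, Cfsg.Agent.LsF.not_eq]; exact rfl) | exact rfl⟩
private noncomputable def _root_.Cfsg.Agent.LsF.f6c9fb1_2 : {f // @Cfsg.Agent.H345.TiT2.GLFive.dsN = f} := ⟨_, by first | (delta Cfsg.Agent.H345.TiT2.GLFive.dsN; rewrite [Cfsg.Agent.LsF.and_eq, Cfsg.Agent.LsF.not_eq]; exact rfl) | exact rfl⟩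
private theorem badN : ∀ n ∈ A4, (z5 (dtN n) || (gdN n || [1, 2, 3, 4].any fun s => [1, 2, 3, 4].any fun t =>
    dsN (muN n (s, 0, 0, t)) || [1, 2, 3, 4].any fun u => dsN (muN (muN n (s, 0, 0, t)) (muN n (u, 0, 0, 1))))) = true := by
  (refine of_decide_eq_true ?_; (try (rewrite [Cfsg.Agent.LsF.f6c9fb1_0.2, Cfsg.Agent.LsF.f6c9fb1_1.2, Cfsg.Agent.LsF.f6c9fb1_2.2, Cfsg.Agent.LsF.dDforall_eq, Cfsg.Agent.LsF.or_eq, Cfsg.Agent.LsF.any_eq, Cfsg.Agent.LsF.dBoolEq_eq, Cfsg.Agent.LsF.decide_eq])); decide +kernel)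

private theorem ne0 : ∀ s ∈ [1, 2, 3, 4], ((s : ℕ) : ZMod 5) ≠ 0 := by decide

theorem bad : ∀ a b c d : ZMod 5, dt (a, b, c, d) ≠ 0 → ¬ gd (a, b, c, d) → ∃ s t : ZMod 5, s ≠ 0 ∧ t ≠ 0 ∧
    (ds (mu (a, b, c, d) (s, 0, 0, t)) ∨
      ∃ u : ZMod 5, u ≠ 0 ∧ ds (mu (mu (a, b, c, d) (s, 0, 0, t)) (mu (a, b, c, d) (u, 0, 0, 1)))) := by
  intro a b c d h1 h2
  generalize ((a, b, c, d) : Q) = m at h1 h2 ⊢
  have h := badN _ (vl_mem m)
  simp only [Bool.or_eq_true, List.any_eq_true, z5_iff, gdN_iff, dsN_iff, cs_mu, cs_vl, ← dt_cs] at h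
  rcases h with h | h | ⟨s, hs, t, ht, h⟩
  · exact absurd h h1
  · exact absurd h h2
  · simp only [cs, Nat.cast_zero, Nat.cast_one] at h
    refine ⟨s, t, ne0 s hs, ne0 t ht, ?_⟩
    rcases h with h | ⟨u, hu, h⟩
    · exact Or.inl h
    · exact Or.inr ⟨u, ne0 u hu, h⟩

private noncomputable def _root_.Cfsg.Agent.LsF.f6c9fb1_3 : {f // @Cfsg.Agent.H345.TiT2.GLFive.eqN = f} := ⟨_, by first | (delta Cfsg.Agent.H345.TiT2.GLFive.eqN; rewrite [Cfsg.Agent.LsF.and_eq]; exact rfl) | exact rfl⟩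
theorem card_com : (((Finset.univ.filter (fun m : Q => gd m)) ×ˢ (Finset.univ.filter (fun m : Q => gd m))).filter
    (fun p => mu p.1 p.2 = mu p.2 p.1)).card = 1536 :=
  (com_tr _ gdN gdN_iff).trans (by (refine of_decide_eq_true ?_; (try (rewrite [Cfsg.Agent.LsF.f6c9fb1_3.2, Cfsg.Agent.LsF.f6c9fb1_1.2, Cfsg.Agent.LsF.f6c9fb1_0.2, Cfsg.Agent.LsF.fcard_eq, Cfsg.Agent.LsF.ffilter_eq, Cfsg.Agent.LsF.instDecEq_eq, Cfsg.Agent.LsF.dBoolEq_eq, Cfsg.Agent.LsF.decide_eq])); decide +kernel))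

private noncomputable def _root_.Cfsg.Agent.LsF.f6c9fb1_4 : {f // @Cfsg.Agent.H345.TiT2.GLFive.gdN' = f} := ⟨_, by first | (delta Cfsg.Agent.H345.TiT2.GLFive.gdN'; rewrite [Cfsg.Agent.LsF.f6c9fb1_1.2, Cfsg.Agent.LsF.and_eq]; exact rfl) | exact rfl⟩
theorem card_com' : (((Finset.univ.filter (fun m : Q => gd m ∧ dt m * dt m = 1)) ×ˢ
    (Finset.univ.filter (fun m : Q => gd m ∧ dt m * dt m = 1))).filter
    (fun p => mu p.1 p.2 = mu p.2 p.1)).card = 672 :=
  (com_tr _ gdN' gdN'_iff).trans (by (refine of_decide_eq_true ?_; (try (rewrite [Cfsg.Agent.LsF.f6c9fb1_3.2, Cfsg.Agent.LsF.f6c9fb1_4.2, Cfsg.Agent.LsF.f6c9fb1_0.2, Cfsg.Agent.LsF.fcard_eq, Cfsg.Agent.LsF.ffilter_eq, Cfsg.Agent.LsF.instDecEq_eq, Cfsg.Agent.LsF.dBoolEq_eq, Cfsg.Agent.LsF.decide_eq])); decide +kernel))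

private theorem cs_one : cs (1, 0, 0, 1) = (1, 0, 0, 1) := by
  simp only [cs, Nat.cast_zero, Nat.cast_one]

private theorem pow4N : ∀ n ∈ A4, (!eqN (muN (muN n n) (muN n n)) (1, 0, 0, 1) || !dsN n) = true := by
  decide +kernel

theorem pow4 : ∀ a b c d : ZMod 5, mu (mu (a, b, c, d) (a, b, c, d)) (mu (a, b, c, d) (a, b, c, d)) = (1, 0, 0, 1) →
    ¬ ds (a, b, c, d) := by
  intro a b c d
  generalize ((a, b, c, d) : Q) = m
  intro h1 h2
  have h := pow4N _ (vl_mem m)
  simp only [Bool.or_eq_true, Bool.not_eq_true', Bool.eq_false_iff, ne_eq, eqN_iff, dsN_iff, cs_mu, cs_vl,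
    cs_one] at h
  exact h.elim (fun h => h h1) (fun h => h h2)

private theorem pow20N : ∀ n ∈ A4, (z5 (dtN n) || (!dsN n ||
    (fun q => eqN (muN (muN (muN q q) (muN q q)) q) (1, 0, 0, 1)) (muN (muN n n) (muN n n)))) = true := by
  decide +kernel

/-- the 20-th power -/
theorem pow20 : ∀ a b c d : ZMod 5, dt (a, b, c, d) ≠ 0 → ds (a, b, c, d) →
    (let q := mu (mu (a, b, c, d) (a, b, c, d)) (mu (a, b, c, d) (a, b, c, d))
     mu (mu (mu q q) (mu q q)) q) = (1, 0, 0, 1) := by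
  intro a b c d
  generalize ((a, b, c, d) : Q) = m
  intro h1 h2
  have h := pow20N _ (vl_mem m)
  simp only [Bool.or_eq_true, Bool.not_eq_true', Bool.eq_false_iff, ne_eq, eqN_iff, dsN_iff, cs_mu, cs_vl,
    cs_one, z5_iff, ← dt_cs] at h
  rcases h with h | h | h
  · exact absurd h h1
  · exact absurd h2 h
  · exact h

private def SQ : List N4 := [(1, 1, 4, 1), (2, 4, 3, 4), (2, 2, 4, 1), (2, 3, 4, 4), (2, 1, 3, 1), (1, 0, 0, 2),
  (1, 2, 4, 2), (0, 1, 4, 0), (0, 1, 1, 0), (0, 1, 2, 0), (1, 2, 2, 1), (1, 4, 3, 3)]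

private theorem sq2N : ∀ n ∈ A4,
    (!gdN' n || SQ.any fun a => SQ.any fun b => eqN (muN (muN a a) (muN b b)) n) = true := by
  (refine of_decide_eq_true ?_; (try (rewrite [Cfsg.Agent.LsF.f6c9fb1_0.2, Cfsg.Agent.LsF.f6c9fb1_4.2, Cfsg.Agent.LsF.f6c9fb1_3.2, Cfsg.Agent.LsF.dDforall_eq, Cfsg.Agent.LsF.or_eq, Cfsg.Agent.LsF.not_eq, Cfsg.Agent.LsF.any_eq, Cfsg.Agent.LsF.dBoolEq_eq, Cfsg.Agent.LsF.decide_eq])); decide +kernel)

private theorem sq_gd : SQ.all gdN = true := by decide +kernel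

/-- every element of determinant `± 1` is a product of two squares -/
theorem sq2 : ∀ m ∈ Finset.univ.filter (fun m : Q => gd m ∧ dt m * dt m = 1),
    ∃ a ∈ Finset.univ.filter (fun m : Q => gd m), ∃ b ∈ Finset.univ.filter (fun m : Q => gd m),
      mu (mu a a) (mu b b) = m := by
  intro m hm
  have h := sq2N _ (vl_mem m)
  have hS := List.all_eq_true.1 sq_gd
  simp only [Bool.or_eq_true, Bool.not_eq_true', Bool.eq_false_iff, ne_eq, eqN_iff, gdN'_iff, cs_mu, cs_vl,
    List.any_eq_true] at h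
  rcases h with h | ⟨a, ha, b, hb, h⟩
  · exact absurd (Finset.mem_filter.1 hm).2 h
  · exact ⟨cs a, Finset.mem_filter.2 ⟨Finset.mem_univ _, (gdN_iff a).1 (hS a ha)⟩,
      cs b, Finset.mem_filter.2 ⟨Finset.mem_univ _, (gdN_iff b).1 (hS b hb)⟩, h⟩

/-- the code of a matrix -/
def en (g : GL (Fin 2) (ZMod 5)) : Q := (g 0 0, g 0 1, g 1 0, g 1 1)

theorem en_mul (g h : GL (Fin 2) (ZMod 5)) : en (g * h) = mu (en g) (en h) := by
  unfold en mu
  simp only [Units.val_mul, Matrix.mul_apply, Fin.sum_univ_two]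

theorem en_one : en 1 = (1, 0, 0, 1) := by
  unfold en
  simp

theorem en_injective : Function.Injective en := by
  intro g h e
  unfold en at e
  simp only [Prod.mk.injEq] at e
  obtain ⟨e1, e2, e3, e4⟩ := e
  apply Units.ext
  ext i j
  fin_cases i <;> fin_cases j
  · exact e1
  · exact e2
  · exact e3
  · exact e4

theorem dt_en (g : GL (Fin 2) (ZMod 5)) : dt (en g) ≠ 0 := by
  have h1 : dt (en g) = Matrix.det (g : Matrix (Fin 2) (Fin 2) (ZMod 5)) := by
    rw [Matrix.det_fin_two]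
    rfl
  rw [h1]
  exact (Matrix.isUnits_det_units g).ne_zero

variable {H K : Subgroup (GL (Fin 2) (ZMod 5))}

/-- no element of order divisible by five -/
theorem not_ds (hc : Nat.card H = 96) {g : GL (Fin 2) (ZMod 5)} (hg : g ∈ H) : ¬ ds (en g) := by
  intro h
  have e4 : en (g ^ 4) = mu (mu (en g) (en g)) (mu (en g) (en g)) := by
    rw [pow_four, en_mul, en_mul]
  have h20 : g ^ 20 = 1 := by
    apply en_injective
    rw [pow_twenty, en_mul, en_mul, en_mul, e4, en_one]
    exact pow20 (en g).1 (en g).2.1 (en g).2.2.1 (en g).2.2.2 (dt_en g) h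
  have h96 : g ^ 96 = 1 := by
    have h1 : (⟨g, hg⟩ : H) ^ Nat.card H = 1 := pow_card_eq_one'
    rw [hc] at h1
    exact congrArg Subtype.val h1
  have h4 : g ^ 4 = 1 := by
    have h1 : orderOf g ∣ Nat.gcd 20 96 := Nat.dvd_gcd (orderOf_dvd_of_pow_eq_one h20) (orderOf_dvd_of_pow_eq_one h96)
    exact orderOf_dvd_iff_pow_eq_one.1 h1
  refine pow4 (en g).1 (en g).2.1 (en g).2.2.1 (en g).2.2.2 ?_ h
  rw [h4, en_one] at e4
  exact e4.symm

/-- `H` contains the diagonal matrices -/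
def Diag (H : Subgroup (GL (Fin 2) (ZMod 5))) : Prop :=
  ∀ s t : ZMod 5, s ≠ 0 → t ≠ 0 → ∃ g ∈ H, en g = (s, 0, 0, t)

theorem gd_of_mem (hc : Nat.card H = 96) (hD : Diag H) {g : GL (Fin 2) (ZMod 5)} (hg : g ∈ H) : gd (en g) := by
  by_contra h
  obtain ⟨s, t, hs, ht, h1⟩ := bad (en g).1 (en g).2.1 (en g).2.2.1 (en g).2.2.2 (dt_en g) h
  have h2 : ((en g).1, (en g).2.1, (en g).2.2.1, (en g).2.2.2) = en g := rfl
  rw [h2] at h1
  obtain ⟨x, hx, ex⟩ := hD s t hs ht
  rcases h1 with h1 | ⟨u, hu, h1⟩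
  · rw [← ex, ← en_mul] at h1
    exact not_ds hc (mul_mem hg hx) h1
  · obtain ⟨y, hy, ey⟩ := hD u 1 hu one_ne_zero
    rw [← ex, ← ey, ← en_mul, ← en_mul, ← en_mul] at h1
    exact not_ds hc (mul_mem (mul_mem hg hx) (mul_mem hg hy)) h1

/-- a subgroup is determined by the codes; the number of commuting pairs -/
theorem classes_of (S : Finset Q) {n k : ℕ} (hn : 0 < n) (hS : S.card = n)
    (hcom : ((S ×ˢ S).filter (fun p => mu p.1 p.2 = mu p.2 p.1)).card = k * n)
    (hH : ∀ g, g ∈ H ↔ en g ∈ S) (hc : Nat.card H = n) : Nat.card (ConjClasses H) = k := by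
  have hfin : Finite H := Nat.finite_of_card_ne_zero (by rw [hc]; exact hn.ne')
  have hsurj : ∀ m ∈ S, ∃ g ∈ H, en g = m := by
    let f : H → S := fun g => ⟨en g, (hH g).1 g.2⟩
    have hf : Function.Injective f := fun g h e => Subtype.ext (en_injective (congrArg Subtype.val e))
    have hb : Function.Bijective f := by
      rw [Nat.bijective_iff_injective_and_card]
      exact ⟨hf, by rw [hc, Nat.card_eq_fintype_card, Fintype.card_coe, hS]⟩
    intro m hm
    obtain ⟨g, hg⟩ := hb.2 ⟨m, hm⟩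
    exact ⟨g, g.2, congrArg Subtype.val hg⟩
  have h1 := card_comm_eq_card_conjClasses_mul_card H
  rw [hc] at h1
  let e : {p : H × H // Commute p.1 p.2} → ((S ×ˢ S).filter (fun p => mu p.1 p.2 = mu p.2 p.1) : Finset (Q × Q)) :=
    fun p => ⟨(en p.1.1, en p.1.2), by
      rw [Finset.mem_filter, Finset.mem_product]
      refine ⟨⟨(hH _).1 p.1.1.2, (hH _).1 p.1.2.2⟩, ?_⟩
      have h2 := congrArg (fun t : H => en t) p.2.eq
      simp only [Subgroup.coe_mul, en_mul] at h2
      exact h2⟩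
  have he : Function.Bijective e := by
    constructor
    · rintro ⟨⟨a, b⟩, hab⟩ ⟨⟨c, d⟩, hcd⟩ h
      have h2 := congrArg Subtype.val h
      have h3 : en a = en c := congrArg Prod.fst h2
      have h4 : en b = en d := congrArg Prod.snd h2
      have h5 : a = c := Subtype.ext (en_injective h3)
      have h6 : b = d := Subtype.ext (en_injective h4)
      subst h5 h6
      rfl
    · rintro ⟨⟨m1, m2⟩, hm⟩
      have hm' := hm
      rw [Finset.mem_filter, Finset.mem_product] at hm'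
      obtain ⟨⟨k1, k2⟩, k3⟩ := hm'
      obtain ⟨g1, hg1, e1⟩ := hsurj m1 k1
      obtain ⟨g2, hg2, e2⟩ := hsurj m2 k2
      refine ⟨⟨(⟨g1, hg1⟩, ⟨g2, hg2⟩), ?_⟩, ?_⟩
      · apply Subtype.ext
        apply en_injective
        show en (g1 * g2) = en (g2 * g1)
        rw [en_mul, en_mul, e1, e2]
        exact k3
      · apply Subtype.ext
        show (en g1, en g2) = (m1, m2)
        rw [e1, e2]
  rw [Nat.card_eq_of_bijective e he, Nat.card_eq_fintype_card, Fintype.card_coe, hcom] at h1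
  exact (Nat.eq_of_mul_eq_mul_right hn h1).symm

theorem mem_iff (hc : Nat.card H = 96) (hD : Diag H) (g : GL (Fin 2) (ZMod 5)) :
    g ∈ H ↔ en g ∈ Finset.univ.filter (fun m : Q => gd m) := by
  constructor
  · intro h
    rw [Finset.mem_filter]
    exact ⟨Finset.mem_univ _, gd_of_mem hc hD h⟩
  · intro h
    have hfin : Finite H := Nat.finite_of_card_ne_zero (by rw [hc]; norm_num)
    let f : H → Finset.univ.filter (fun m : Q => gd m) := fun g => ⟨en g, by
      rw [Finset.mem_filter]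
      exact ⟨Finset.mem_univ _, gd_of_mem hc hD g.2⟩⟩
    have hf : Function.Injective f := fun g h e => Subtype.ext (en_injective (congrArg Subtype.val e))
    have hb : Function.Bijective f := by
      rw [Nat.bijective_iff_injective_and_card]
      exact ⟨hf, by rw [hc, Nat.card_eq_fintype_card, Fintype.card_coe, card_gd]⟩
    obtain ⟨x, hx⟩ := hb.2 ⟨en g, h⟩
    have h1 : en x = en g := congrArg Subtype.val hx
    rw [← en_injective h1]
    exact x.2

/-- **16 classes** -/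
theorem classes_16 (hc : Nat.card H = 96) (hD : Diag H) : Nat.card (ConjClasses H) = 16 :=
  classes_of _ (n := 96) (k := 16) (by norm_num) card_gd (by rw [card_com]) (mem_iff hc hD) hc

theorem mem_iff' (hc : Nat.card H = 96) (hD : Diag H) (hK : Nat.card K = 48)
    (hsq : ∀ h ∈ H, h * h ∈ K) (g : GL (Fin 2) (ZMod 5)) :
    g ∈ K ↔ en g ∈ Finset.univ.filter (fun m : Q => gd m ∧ dt m * dt m = 1) := by
  have hfin : Finite K := Nat.finite_of_card_ne_zero (by rw [hK]; norm_num)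
  have h1 : ∀ m ∈ Finset.univ.filter (fun m : Q => gd m ∧ dt m * dt m = 1), ∃ g ∈ K, en g = m := by
    intro m hm
    obtain ⟨a, ha, b, hb, hab⟩ := sq2 m hm
    have key : ∀ a ∈ Finset.univ.filter (fun m : Q => gd m), ∃ x ∈ H, en x = a := by
      intro a ha
      have hfin : Finite H := Nat.finite_of_card_ne_zero (by rw [hc]; norm_num)
      let f : H → Finset.univ.filter (fun m : Q => gd m) := fun g => ⟨en g, (mem_iff hc hD g).1 g.2⟩
      have hf : Function.Injective f := fun g h e => Subtype.ext (en_injective (congrArg Subtype.val e))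
      have hb : Function.Bijective f := by
        rw [Nat.bijective_iff_injective_and_card]
        exact ⟨hf, by rw [hc, Nat.card_eq_fintype_card, Fintype.card_coe, card_gd]⟩
      obtain ⟨x, hx⟩ := hb.2 ⟨a, ha⟩
      exact ⟨x, x.2, congrArg Subtype.val hx⟩
    obtain ⟨x, hx, ex⟩ := key a ha
    obtain ⟨y, hy, ey⟩ := key b hb
    exact ⟨(x * x) * (y * y), mul_mem (hsq x hx) (hsq y hy), by rw [en_mul, en_mul, en_mul, ex, ey, hab]⟩
  -- the map from the set of codes to `K`
  choose F hF using h1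
  let f : Finset.univ.filter (fun m : Q => gd m ∧ dt m * dt m = 1) → K := fun m => ⟨F m.1 m.2, (hF m.1 m.2).1⟩
  have hf : Function.Injective f := by
    intro m n e
    have h2 : F m.1 m.2 = F n.1 n.2 := congrArg Subtype.val e
    apply Subtype.ext
    rw [← (hF m.1 m.2).2, ← (hF n.1 n.2).2, h2]
  have hb : Function.Bijective f := by
    rw [Nat.bijective_iff_injective_and_card]
    exact ⟨hf, by rw [hK, Nat.card_eq_fintype_card, Fintype.card_coe, card_gd']⟩
  constructor
  · intro h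
    obtain ⟨m, hm⟩ := hb.2 ⟨g, h⟩
    have h2 : F m.1 m.2 = g := congrArg Subtype.val hm
    rw [← h2, (hF m.1 m.2).2]
    exact m.2
  · intro h
    have h2 : F (en g) h = g := en_injective (hF _ h).2
    rw [← h2]
    exact (hF _ h).1

/-- **14 classes** -/
theorem classes_14 (hc : Nat.card H = 96) (hD : Diag H) (hK : Nat.card K = 48)
    (hsq : ∀ h ∈ H, h * h ∈ K) : Nat.card (ConjClasses K) = 14 :=
  classes_of _ (n := 48) (k := 14) (by norm_num) card_gd' (by rw [card_com']) (mem_iff' hc hD hK hsq) hK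

end Cfsg.Agent.H345.TiT2.GLFive
end

-- part: H345/TiT2/LinFive
section
prune_inst 0x4010000
set_option linter.all false
open scoped Cfsg.Agent.FastGrp

/-!
# Automorphisms of an elementary abelian group of order 25 as matrices (helper345, for S4819 / S4820)
-/

set_option autoImplicit false

namespace Cfsg.Agent.H345.TiT2.LinFive

open Cfsg.Agent.H345.TiT2.GLFive

universe u

section
variable {W : Type u} [CommGroup W] [Module (ZMod 5) (Additive W)]

/-- automorphisms as linear maps -/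
def linHom : MulAut W →* (Additive W →ₗ[ZMod 5] Additive W)ˣ where
  toFun e :=
    { val := (MulEquiv.toAdditive e).toAddMonoidHom.toZModLinearMap 5
      inv := (MulEquiv.toAdditive e⁻¹).toAddMonoidHom.toZModLinearMap 5
      val_inv := by
        ext w
        change Additive.ofMul (e (e⁻¹ (Additive.toMul w))) = w
        rw [MulAut.apply_inv_self]; rfl
      inv_val := by
        ext w
        change Additive.ofMul (e⁻¹ (e (Additive.toMul w))) = w
        rw [MulAut.inv_apply_self]; rfl }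
  map_one' := by
    apply Units.ext
    ext w
    rfl
  map_mul' e f := by
    apply Units.ext
    ext w
    rfl

theorem linHom_injective : Function.Injective (linHom (W := W)) := by
  intro e f h
  ext w
  have h1 := congrArg (fun t : (Additive W →ₗ[ZMod 5] Additive W)ˣ =>
    (t : Additive W →ₗ[ZMod 5] Additive W) (Additive.ofMul w)) h
  exact h1

/-- automorphisms as matrices -/
noncomputable def matHom (b : Module.Basis (Fin 2) (ZMod 5) (Additive W)) : MulAut W →* GL (Fin 2) (ZMod 5) :=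
  (Units.map (LinearMap.toMatrixAlgEquiv b : (Additive W →ₗ[ZMod 5] Additive W) ≃ₐ[ZMod 5] _).toMonoidHom).comp linHom

theorem matHom_injective (b : Module.Basis (Fin 2) (ZMod 5) (Additive W)) : Function.Injective (matHom b) := by
  intro e f h
  apply linHom_injective
  apply Units.ext
  apply (LinearMap.toMatrixAlgEquiv b).injective
  exact congrArg Units.val h

theorem matHom_apply (b : Module.Basis (Fin 2) (ZMod 5) (Additive W)) (e : MulAut W) (i k : Fin 2) :
    (matHom b e : Matrix (Fin 2) (Fin 2) (ZMod 5)) i k = b.repr (Additive.ofMul (e (b k).toMul)) i := by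
  change LinearMap.toMatrixAlgEquiv b (linHom e : Additive W →ₗ[ZMod 5] Additive W) i k = _
  rw [LinearMap.toMatrixAlgEquiv_apply]
  rfl

/-- a diagonal automorphism -/
theorem en_diag (b : Module.Basis (Fin 2) (ZMod 5) (Additive W)) {x y : W} (hx : b 0 = Additive.ofMul x)
    (hy : b 1 = Additive.ofMul y) {e : MulAut W} {s t : ZMod 5}
    (h1 : Additive.ofMul (e x) = s • Additive.ofMul x) (h2 : Additive.ofMul (e y) = t • Additive.ofMul y) :
    en (matHom b e) = (s, 0, 0, t) := by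
  have e0 : Additive.ofMul (e (b 0).toMul) = s • b 0 := by rw [hx]; exact h1
  have e1 : Additive.ofMul (e (b 1).toMul) = t • b 1 := by rw [hy]; exact h2
  unfold en
  rw [matHom_apply, matHom_apply, matHom_apply, matHom_apply, e0, e1]
  simp

end

section
variable {V : Type u} [AddCommGroup V] [Module (ZMod 5) V]

/-- the eigenvectors -/
theorem eig (hV : Nat.card V = 25) {τ ρ : V →ₗ[ZMod 5] V} {x : V} (hx0 : x ≠ 0) (hx : τ x = x)
    (h4 : ∀ v, τ (τ (τ (τ v))) = v) (h2 : ∃ v, τ (τ v) ≠ v) (hcomm : ∀ v, ρ (τ v) = τ (ρ v))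
    (hinj : Function.Injective ρ) :
    ∃ (b : Module.Basis (Fin 2) (ZMod 5) V) (y : V) (l m : ZMod 5), b 0 = x ∧ b 1 = y ∧ l * l = -1 ∧ m ≠ 0 ∧
      τ y = l • y ∧ ρ y = m • y := by
  obtain ⟨p, hp⟩ := h2
  -- `q = (τ² - 1) p`
  have hq0 : τ (τ p) - p ≠ 0 := sub_ne_zero.2 hp
  have hq : τ (τ (τ (τ p) - p)) = - (τ (τ p) - p) := by
    rw [map_sub, map_sub, h4]
    abel
  set q := τ (τ p) - p with hqdef
  obtain ⟨y, l, hy0, hy, hl⟩ : ∃ (y : V) (l : ZMod 5), y ≠ 0 ∧ τ y = l • y ∧ l * l = -1 := by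
    by_cases h : τ q + (2 : ZMod 5) • q = 0
    · refine ⟨q, 3, hq0, ?_, by decide⟩
      have h1 : τ q = -((2 : ZMod 5) • q) := eq_neg_of_add_eq_zero_left h
      rw [h1, ← neg_smul]
      congr 1
    · refine ⟨_, 2, h, ?_, by decide⟩
      rw [map_add, map_smul, hq, smul_add, smul_smul]
      have h1 : ((2 : ZMod 5) * 2) = -1 := by decide
      rw [h1, neg_smul, one_smul, add_comm]
  have hl1 : l - 1 ≠ 0 := by
    intro h
    rw [sub_eq_zero] at h
    rw [h] at hl
    exact absurd hl (by decide)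
  have hli : LinearIndependent (ZMod 5) ![x, y] := by
    rw [LinearIndependent.pair_iff]
    intro s t hst
    have h1 : s • x + (l * t) • y = 0 := by
      have h2 := congrArg τ hst
      rw [map_add, map_smul, map_smul, hx, hy, map_zero, smul_smul, mul_comm] at h2
      exact h2
    have h2 : ((l - 1) * t) • y = 0 := by
      have h3 : ((l - 1) * t) • y = (s • x + (l * t) • y) - (s • x + t • y) := by
        rw [sub_mul, one_mul, sub_smul]
        abel
      rw [h3, h1, hst, sub_zero]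
    have h3 : t = 0 := by
      rcases smul_eq_zero.1 h2 with h | h
      · rcases mul_eq_zero.1 h with h | h
        · exact absurd h hl1
        · exact h
      · exact absurd h hy0
    rw [h3, zero_smul, add_zero] at hst
    rcases smul_eq_zero.1 hst with h | h
    · exact ⟨h, h3⟩
    · exact absurd h hx0
  have hfin : Finite V := Nat.finite_of_card_ne_zero (by rw [hV]; norm_num)
  have hfr : Fintype.card (Fin 2) = Module.finrank (ZMod 5) V := by
    have : Module.Finite (ZMod 5) V := Module.Finite.of_finite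
    have h1 := Module.natCard_eq_pow_finrank (K := ZMod 5) (V := V)
    rw [hV, Nat.card_eq_fintype_card, ZMod.card] at h1
    rw [Fintype.card_fin]
    exact (Nat.pow_right_injective (le_refl 2 |>.trans (by norm_num : 2 ≤ 5)) (show 5 ^ 2 = _ by norm_num; exact h1))
  set b := basisOfLinearIndependentOfCardEqFinrank hli hfr with hb
  have hb' : ⇑b = ![x, y] := coe_basisOfLinearIndependentOfCardEqFinrank hli hfr
  have b0 : b 0 = x := by rw [hb']; rfl
  have b1 : b 1 = y := by rw [hb']; rfl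
  -- `ρ y`
  have hsum := b.sum_repr (ρ y)
  rw [Fin.sum_univ_two, b0, b1] at hsum
  set s := b.repr (ρ y) 0
  set m := b.repr (ρ y) 1
  have h1 : s • x + (l * m) • y = l • (s • x + m • y) := by
    rw [hsum]
    have h2 : τ (ρ y) = l • ρ y := by rw [← hcomm, hy, map_smul]
    rw [← h2, ← hsum, map_add, map_smul, map_smul, hx, hy, smul_smul, mul_comm m l]
  have hs : s = 0 := by
    have h2 : ((1 - l) * s) • x = 0 := by
      have h3 : ((1 - l) * s) • x = (s • x + (l * m) • y) - (l • (s • x + m • y)) := by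
        rw [sub_mul, one_mul, sub_smul, smul_add, smul_smul, smul_smul]
        abel
      rw [h3, h1, sub_self]
    rcases smul_eq_zero.1 h2 with h | h
    · rcases mul_eq_zero.1 h with h | h
      · exfalso
        apply hl1
        rw [← neg_sub, h, neg_zero]
      · exact h
    · exact absurd h hx0
  have hρ : ρ y = m • y := by
    rw [← hsum, hs, zero_smul, zero_add]
  refine ⟨b, y, l, m, b0, b1, hl, ?_, hy, hρ⟩
  intro hm
  rw [hm, zero_smul] at hρ
  exact hy0 (hinj (by rw [hρ, map_zero]))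

end

/-- the powers of a diagonal matrix -/
theorem en_pow {g : GL (Fin 2) (ZMod 5)} {a d : ZMod 5} (h : en g = (a, 0, 0, d)) (n : ℕ) :
    en (g ^ n) = (a ^ n, 0, 0, d ^ n) := by
  induction n with
  | zero => rw [pow_zero, pow_zero, pow_zero, en_one]
  | succ n ih =>
    rw [pow_succ, en_mul, ih, h, pow_succ, pow_succ]
    unfold mu
    simp

theorem gen_diag : ∀ l m s t : ZMod 5, l * l = -1 → m ≠ 0 → s ≠ 0 → t ≠ 0 →
    ∃ i j : Fin 4, (2 : ZMod 5) ^ (i : ℕ) = s ∧ m ^ (i : ℕ) * l ^ (j : ℕ) = t := by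
  decide +kernel

/-- the diagonal torus is generated by the two elements -/
theorem diag_of {H : Subgroup (GL (Fin 2) (ZMod 5))} {J R : GL (Fin 2) (ZMod 5)} {l m : ZMod 5}
    (hJ : J ∈ H) (hR : R ∈ H) (eJ : en J = (1, 0, 0, l)) (eR : en R = (2, 0, 0, m)) (hl : l * l = -1) (hm : m ≠ 0) :
    Diag H := by
  intro s t hs ht
  obtain ⟨i, j, h1, h2⟩ := gen_diag l m s t hl hm hs ht
  refine ⟨R ^ (i : ℕ) * J ^ (j : ℕ), mul_mem (pow_mem hR _) (pow_mem hJ _), ?_⟩
  rw [en_mul, en_pow eR, en_pow eJ]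
  unfold mu
  simp only [one_pow, mul_one, mul_zero, add_zero, zero_mul, zero_add]
  rw [h1, h2]

end Cfsg.Agent.H345.TiT2.LinFive
end

-- part: H438/TI/Comb
section
prune_inst 0x4010000
set_option linter.all false
open scoped Cfsg.Agent.FastGrp

/-!
# A counting lemma for integer vectors with symmetries (helper438)

`w1, w2 : ι → ℤ` with `∑ w1² = ∑ w2² = 10`, never both even unless both are zero, with symmetries `(w1, w2) ↦ (-w1, -w2)` and
`(w1, -w2)`: all values are in `{-1, 0, 1}` and the number of non-zero vectors is `20 - 4 c`, `c` the number of `(1, 1)`.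
-/

set_option autoImplicit false

namespace Cfsg.Agent.H438.TI.Comb

variable {ι : Type*} [Fintype ι] (w1 w2 : ι → ℤ)

open Classical in
/-- the number of indices with values `s`, `t` -/
noncomputable def cn (s t : ℤ) : ℤ := ∑ i, if w1 i = s ∧ w2 i = t then 1 else 0

variable {w1 w2}

theorem cn_eq_card (s t : ℤ) : cn w1 w2 s t = (Nat.card {i // w1 i = s ∧ w2 i = t} : ℤ) := by
  classical
  unfold cn
  rw [Finset.sum_boole, Nat.card_eq_fintype_card, Fintype.card_subtype]

theorem bound {tw cj : ι → ι} (t1 : ∀ i, w1 (tw i) = -w1 i) (t2 : ∀ i, w2 (tw i) = -w2 i)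
    (c1 : ∀ i, w1 (cj i) = w1 i) (c2 : ∀ i, w2 (cj i) = -w2 i)
    (hpar : ∀ i, (w1 i ≠ 0 ∨ w2 i ≠ 0) → ¬ (2 ∣ w1 i ∧ 2 ∣ w2 i)) (h1 : ∑ i, w1 i ^ 2 = 10) (i : ι) : |w1 i| ≤ 1 := by
  classical
  by_contra h
  push Not at h
  have h0 : w1 i ≠ 0 := by
    intro h0
    rw [h0, abs_zero] at h
    omega
  by_cases hz : w2 i = 0
  · have hodd : ¬ 2 ∣ w1 i := fun h' => hpar i (Or.inl h0) ⟨h', by rw [hz]; exact dvd_zero 2⟩
    have h3 : 9 ≤ w1 i ^ 2 := by
      have h4 : w1 i ≤ -3 ∨ 3 ≤ w1 i := by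
        rcases abs_cases (w1 i) with h5 | h5 <;> omega
      rcases h4 with h4 | h4 <;> nlinarith
    have hne : i ≠ tw i := fun h' => by
      have := congrArg w1 h'
      rw [t1] at this
      omega
    have h5 : ∑ k ∈ ({i, tw i} : Finset ι), w1 k ^ 2 ≤ ∑ k, w1 k ^ 2 :=
      Finset.sum_le_sum_of_subset_of_nonneg (Finset.subset_univ _) fun _ _ _ => sq_nonneg _
    rw [Finset.sum_pair hne, t1, h1, neg_sq] at h5
    omega
  · have h3 : 4 ≤ w1 i ^ 2 := by
      have h4 : w1 i ≤ -2 ∨ 2 ≤ w1 i := by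
        rcases abs_cases (w1 i) with h5 | h5 <;> omega
      rcases h4 with h4 | h4 <;> nlinarith
    have n1 : i ≠ tw i := fun h' => by
      have := congrArg w1 h'; rw [t1] at this; omega
    have n2 : i ≠ cj i := fun h' => by
      have := congrArg w2 h'; rw [c2] at this; omega
    have n3 : i ≠ tw (cj i) := fun h' => by
      have := congrArg w1 h'; rw [t1, c1] at this; omega
    have n4 : tw i ≠ cj i := fun h' => by
      have := congrArg w1 h'; rw [t1, c1] at this; omega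
    have n5 : tw i ≠ tw (cj i) := fun h' => by
      have := congrArg w2 h'; rw [t2, t2, c2] at this; omega
    have n6 : cj i ≠ tw (cj i) := fun h' => by
      have := congrArg w1 h'; rw [t1, c1] at this; omega
    have h5 : ∑ k ∈ ({i, tw i, cj i, tw (cj i)} : Finset ι), w1 k ^ 2 ≤ ∑ k, w1 k ^ 2 :=
      Finset.sum_le_sum_of_subset_of_nonneg (Finset.subset_univ _) fun _ _ _ => sq_nonneg _
    rw [Finset.sum_insert (by simp [n1, n2, n3]), Finset.sum_insert (by simp [n4, n5]), Finset.sum_pair n6, t1, t1, c1,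
      h1, neg_sq] at h5
    omega

theorem cn_tw {tw : ι → ι} (hi : Function.Involutive tw) (t1 : ∀ i, w1 (tw i) = -w1 i) (t2 : ∀ i, w2 (tw i) = -w2 i)
    (s t : ℤ) : cn w1 w2 (-s) (-t) = cn w1 w2 s t := by
  classical
  unfold cn
  rw [← Equiv.sum_comp (Function.Involutive.toPerm tw hi)]
  refine Finset.sum_congr rfl fun i _ => ?_
  have h1 : (w1 (Function.Involutive.toPerm tw hi i) = -s ∧ w2 (Function.Involutive.toPerm tw hi i) = -t) ↔ (w1 i = s ∧ w2 i = t) := by
    show (w1 (tw i) = -s ∧ w2 (tw i) = -t) ↔ _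
    rw [t1, t2, neg_inj, neg_inj]
  simp only [h1]

theorem cn_cj {cj : ι → ι} (hi : Function.Involutive cj) (c1 : ∀ i, w1 (cj i) = w1 i) (c2 : ∀ i, w2 (cj i) = -w2 i)
    (s t : ℤ) : cn w1 w2 s (-t) = cn w1 w2 s t := by
  classical
  unfold cn
  rw [← Equiv.sum_comp (Function.Involutive.toPerm cj hi)]
  refine Finset.sum_congr rfl fun i _ => ?_
  have h1 : (w1 (Function.Involutive.toPerm cj hi i) = s ∧ w2 (Function.Involutive.toPerm cj hi i) = -t) ↔ (w1 i = s ∧ w2 i = t) := by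
    show (w1 (cj i) = s ∧ w2 (cj i) = -t) ↔ _
    rw [c1, c2, neg_inj]
  simp only [h1]

/-- the result -/
theorem count {tw cj : ι → ι} (ht : Function.Involutive tw) (hc : Function.Involutive cj)
    (t1 : ∀ i, w1 (tw i) = -w1 i) (t2 : ∀ i, w2 (tw i) = -w2 i)
    (c1 : ∀ i, w1 (cj i) = w1 i) (c2 : ∀ i, w2 (cj i) = -w2 i)
    (hpar : ∀ i, (w1 i ≠ 0 ∨ w2 i ≠ 0) → ¬ (2 ∣ w1 i ∧ 2 ∣ w2 i)) (h1 : ∑ i, w1 i ^ 2 = 10) (h2 : ∑ i, w2 i ^ 2 = 10) :
    (∀ i, |w1 i| ≤ 1 ∧ |w2 i| ≤ 1) ∧ (Nat.card {i // w1 i ≠ 0 ∨ w2 i ≠ 0} : ℤ) = 20 - 4 * cn w1 w2 1 1 ∧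
      cn w1 w2 1 0 = 5 - 2 * cn w1 w2 1 1 ∧ cn w1 w2 (-1) 0 = 5 - 2 * cn w1 w2 1 1 ∧
      cn w1 w2 0 1 = 5 - 2 * cn w1 w2 1 1 ∧ cn w1 w2 0 (-1) = 5 - 2 * cn w1 w2 1 1 := by
  classical
  have b1 : ∀ i, |w1 i| ≤ 1 := bound t1 t2 c1 c2 hpar h1
  have b2 : ∀ i, |w2 i| ≤ 1 := bound (w1 := w2) (w2 := w1) (tw := tw) (cj := fun i => tw (cj i)) t2 t1
    (fun i => by rw [t2, c2, neg_neg]) (fun i => by rw [t1, c1]) (fun i hi h => hpar i hi.symm ⟨h.2, h.1⟩) h2
  have hv : ∀ i, (w1 i = -1 ∨ w1 i = 0 ∨ w1 i = 1) ∧ (w2 i = -1 ∨ w2 i = 0 ∨ w2 i = 1) := fun i => by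
    have := abs_le.1 (b1 i)
    have := abs_le.1 (b2 i)
    omega
  have s1 : ∑ i, w1 i ^ 2 = cn w1 w2 1 0 + cn w1 w2 (-1) 0 + cn w1 w2 1 1 + cn w1 w2 1 (-1) + cn w1 w2 (-1) 1 +
      cn w1 w2 (-1) (-1) := by
    unfold cn
    simp only [← Finset.sum_add_distrib]
    refine Finset.sum_congr rfl fun i _ => ?_
    obtain ⟨h3 | h3 | h3, h4 | h4 | h4⟩ := hv i <;> rw [h3, h4] <;> norm_num
  have s2 : ∑ i, w2 i ^ 2 = cn w1 w2 0 1 + cn w1 w2 0 (-1) + cn w1 w2 1 1 + cn w1 w2 1 (-1) + cn w1 w2 (-1) 1 +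
      cn w1 w2 (-1) (-1) := by
    unfold cn
    simp only [← Finset.sum_add_distrib]
    refine Finset.sum_congr rfl fun i _ => ?_
    obtain ⟨h3 | h3 | h3, h4 | h4 | h4⟩ := hv i <;> rw [h3, h4] <;> norm_num
  have s3 : (Nat.card {i // w1 i ≠ 0 ∨ w2 i ≠ 0} : ℤ) = cn w1 w2 1 0 + cn w1 w2 (-1) 0 + cn w1 w2 0 1 +
      cn w1 w2 0 (-1) + cn w1 w2 1 1 + cn w1 w2 1 (-1) + cn w1 w2 (-1) 1 + cn w1 w2 (-1) (-1) := by
    rw [Nat.card_eq_fintype_card, Fintype.card_subtype]
    have h5 : ((Finset.univ.filter fun i => w1 i ≠ 0 ∨ w2 i ≠ 0).card : ℤ) =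
        ∑ i, if (w1 i ≠ 0 ∨ w2 i ≠ 0) then (1 : ℤ) else 0 := by
      rw [Finset.sum_boole]
    rw [h5]
    unfold cn
    simp only [← Finset.sum_add_distrib]
    refine Finset.sum_congr rfl fun i _ => ?_
    obtain ⟨h3 | h3 | h3, h4 | h4 | h4⟩ := hv i <;> rw [h3, h4] <;> norm_num
  have e1 := cn_tw ht t1 t2 1 0
  have e2 := cn_tw ht t1 t2 0 1
  have e3 := cn_tw ht t1 t2 1 1
  have e4 := cn_tw ht t1 t2 1 (-1)
  have e5 := cn_cj hc c1 c2 1 1
  rw [neg_zero] at e1 e2
  rw [neg_neg] at e4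
  rw [s1] at h1
  rw [s2] at h2
  refine ⟨fun i => ⟨b1 i, b2 i⟩, ?_, ?_, ?_, ?_, ?_⟩
  · rw [s3]; omega
  all_goals omega

end Cfsg.Agent.H438.TI.Comb
end

-- part: H438/TI/Main
section
prune_inst 0x2f03077447562020000180590730020203400000200608000b0e20742030dc342a04201014e201500100c08002004002002180040400000000a000000000401208008500492480104240009003083110000000000000000000000000000000004004010000
set_option linter.all false
open scoped Cfsg.Agent.FastGrp

/-!
# `²F₄(2)` has exactly twenty irreducible characters of degree prime to 25 (helper438, for S4819 / S4820)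

`card20` : from the local data `Loc`, the sixteen characters of the Tits group and its character of degree 27 which extends.
-/

set_option autoImplicit false
set_option linter.unusedSectionVars false

namespace Cfsg.Agent.H438.TI

open Cfsg Subgroup Cfsg.Agent.Characters.Core
open Cfsg.Agent.SmallSimple.InvolPairs (sum_mul_conj_eq_card)
open Cfsg.Agent.HKS.CosetTwo (sg sg_of_mem sg_of_notMem isIrr_mul_sg sg_mul_self isIrr_sg conj_sg)
open Cfsg.Agent.H41.McLTwo.Cliff (Van Inv restrict_of_not_van card_ext charDegree_of card_two)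
open Cfsg.Agent.H438.TI.Comb (cn)
open scoped ComplexConjugate

universe u

theorem eq_of_cplx {a b c d : ℤ} (h : (a : ℂ) + b * Complex.I = c + d * Complex.I) : a = c ∧ b = d := by
  have h1 := congrArg Complex.re h
  have h2 := congrArg Complex.im h
  simp at h1 h2
  exact ⟨by exact_mod_cast h1, by exact_mod_cast h2⟩

section two

variable {W : Type u} [Group W] [Finite W] {N : Subgroup W} [N.Normal]

/-- the characters of `W` which do not vanish off `N` -/
theorem card_not_van (hN : N.index = 2) (D : ℕ → Prop) :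
    Nat.card {χ : IrrCharacter W // D (charDegree (χ : W → ℂ)) ∧ ¬ Van N χ} =
      2 * Nat.card {ψ : IrrCharacter N // D (charDegree (ψ : N → ℂ)) ∧ Inv N ψ} := by
  classical
  have := Fintype.ofFinite W
  have := Fintype.ofFinite N
  have := finite_irr (G := W)
  have := Fintype.ofFinite (IrrCharacter W)
  have := finite_irr (G := N)
  have := Fintype.ofFinite (IrrCharacter N)
  have h1 := Finset.card_mul_eq_card_mul (fun (χ : IrrCharacter W) (ψ : IrrCharacter N) =>
      ∀ n : N, (χ : W → ℂ) n = (ψ : N → ℂ) n)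
    (s := Finset.univ.filter fun χ : IrrCharacter W => D (charDegree (χ : W → ℂ)) ∧ ¬ Van N χ)
    (t := Finset.univ.filter fun ψ : IrrCharacter N => D (charDegree (ψ : N → ℂ)) ∧ Inv N ψ) (m := 1) (n := 2)
    (by
      intro χ hχ
      obtain ⟨-, hχD, hχv⟩ := Finset.mem_filter.1 hχ
      obtain ⟨ψ, hψ, hr⟩ := restrict_of_not_van hN hχv
      rw [Finset.card_eq_one]
      refine ⟨ψ, ?_⟩
      ext ζ
      rw [Finset.mem_bipartiteAbove, Finset.mem_filter, Finset.mem_singleton]
      constructor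
      · rintro ⟨-, h⟩
        apply Subtype.ext
        funext n
        rw [← h, hr]
      · rintro rfl
        refine ⟨⟨Finset.mem_univ _, ?_, hψ⟩, hr⟩
        rw [← charDegree_of (χ := (χ : W → ℂ)) (ψ := (ζ : N → ℂ)) (by simpa using hr 1)]
        exact hχD)
    (by
      intro ψ hψ
      obtain ⟨-, hψD, hψi⟩ := Finset.mem_filter.1 hψ
      obtain ⟨χ, χ', hne, hv, hv', hall⟩ := card_ext hN hψi
      rw [Finset.card_eq_two]
      refine ⟨χ, χ', hne, ?_⟩
      ext η
      rw [Finset.mem_bipartiteBelow, Finset.mem_filter, Finset.mem_insert, Finset.mem_singleton]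
      constructor
      · rintro ⟨-, h⟩
        exact (hall η).1 h
      · intro h
        have hr := (hall η).2 h
        refine ⟨⟨Finset.mem_univ _, ?_, ?_⟩, hr⟩
        · rw [charDegree_of (χ := (η : W → ℂ)) (ψ := (ψ : N → ℂ)) (by simpa using hr 1)]
          exact hψD
        · rcases h with rfl | rfl
          · exact hv
          · exact hv')
  rw [Nat.card_eq_fintype_card, Nat.card_eq_fintype_card, Fintype.card_subtype, Fintype.card_subtype]
  omega

end two

variable {G : Type u} [Group G] [Finite G] {N P : Subgroup G} {x j r : G}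

/-- the data of the counting argument -/
structure Dt (N : Subgroup G) (x j : G) (w1 w2 A : IrrCharacter G → ℤ) (tw cj : IrrCharacter G → IrrCharacter G)
    (hi : N.index = 2) : Prop where
  hA : ∀ ψ : IrrCharacter G, (ψ : G → ℂ) x = A ψ
  hw : ∀ ψ : IrrCharacter G, (ψ : G → ℂ) (x * j) = w1 ψ + w2 ψ * Complex.I
  par : ∀ ψ, ∃ k, A ψ = w1 ψ + w2 ψ + 2 * k
  tw_def : ∀ ψ : IrrCharacter G, (tw ψ : G → ℂ) = (ψ : G → ℂ) * sg hi
  cj_def : ∀ ψ : IrrCharacter G, ∀ g, (cj ψ : G → ℂ) g = conj ((ψ : G → ℂ) g)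

namespace Loc

theorem exists_dt (L : Loc N P x j r) : ∃ w1 w2 A tw cj, Dt N x j w1 w2 A tw cj L.index ∧
    (Nat.card N = 17971200 → Nat.card {χ : IrrCharacter N // ¬ 25 ∣ charDegree (χ : N → ℂ)} = 16 →
      ∀ ψ : IrrCharacter G, IsIrrCharacter N (fun n : N => (ψ : G → ℂ) n) → ¬ 25 ∣ charDegree (ψ : G → ℂ) →
      ¬ (2 ∣ w1 ψ ∧ 2 ∣ w2 ψ)) := by
  choose a b c d h1 h2 h3 h4 using fun ψ : IrrCharacter G =>
    quad (isIrr_isCharacter ψ.2) L.x5 L.j4 L.comm L.rx L.rj
  refine ⟨fun ψ => a ψ - c ψ, fun ψ => b ψ - d ψ, fun ψ => a ψ + b ψ + c ψ + d ψ,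
    fun ψ => ⟨_, isIrr_mul_sg L.index ψ.2⟩, fun ψ => ⟨_, isIrr_conj ψ.2⟩, ⟨?_, ?_, ?_, ?_, ?_⟩, ?_⟩
  · intro ψ
    rw [h1]
    push_cast
    ring
  · intro ψ
    rw [h2]
  · intro ψ
    exact ⟨c ψ + d ψ, by ring⟩
  · intro ψ
    rfl
  · intro ψ g
    rfl
  · intro hN h16 ψ hirr hd
    exact L.parity hN h16 ψ hirr hd (h1 ψ) (h3 ψ)

end Loc

namespace Dt

variable {w1 w2 A : IrrCharacter G → ℤ} {tw cj : IrrCharacter G → IrrCharacter G} {hi : N.index = 2}

theorem tw_tw (D : Dt N x j w1 w2 A tw cj hi) : Function.Involutive tw := fun ψ => by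
  apply Subtype.ext
  rw [D.tw_def, D.tw_def]
  funext g
  simp only [Pi.mul_apply]
  rw [mul_assoc, sg_mul_self, mul_one]

theorem cj_cj (D : Dt N x j w1 w2 A tw cj hi) : Function.Involutive cj := fun ψ => by
  apply Subtype.ext
  funext g
  rw [D.cj_def, D.cj_def, Complex.conj_conj]

theorem w_tw (D : Dt N x j w1 w2 A tw cj hi) (hxj : x * j ∉ N) (ψ : IrrCharacter G) :
    w1 (tw ψ) = -w1 ψ ∧ w2 (tw ψ) = -w2 ψ := by
  have h1 : (tw ψ : G → ℂ) (x * j) = -(ψ : G → ℂ) (x * j) := by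
    rw [D.tw_def, Pi.mul_apply, sg_of_notMem hi hxj]
    ring
  rw [D.hw, D.hw] at h1
  apply eq_of_cplx
  rw [h1]
  push_cast
  ring

theorem w_cj (D : Dt N x j w1 w2 A tw cj hi) (ψ : IrrCharacter G) :
    w1 (cj ψ) = w1 ψ ∧ w2 (cj ψ) = -w2 ψ := by
  have h1 : (cj ψ : G → ℂ) (x * j) = conj ((ψ : G → ℂ) (x * j)) := D.cj_def ψ _
  rw [D.hw, D.hw, map_add, map_mul, Complex.conj_I, map_intCast, map_intCast] at h1
  apply eq_of_cplx
  rw [h1]
  push_cast
  ring

theorem sums [Fintype (IrrCharacter G)] (D : Dt N x j w1 w2 A tw cj hi) (L : Loc N P x j r) :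
    ∑ ψ, w1 ψ ^ 2 = 10 ∧ ∑ ψ, w2 ψ ^ 2 = 10 := by
  classical
  have := Fintype.ofFinite G
  have e1 := sum_mul_conj_eq_card (x * j) (x * j)
  rw [L.card_cent_xj] at e1
  have e2 := sum_mul_conj_eq_card (x * j) (x * j)⁻¹
  have := L.no_inv
  rw [Nat.card_of_isEmpty] at e2
  have f1 : ∑ ψ : IrrCharacter G, (ψ : G → ℂ) (x * j) * conj ((ψ : G → ℂ) (x * j)) =
      ((∑ ψ, w1 ψ ^ 2 + ∑ ψ, w2 ψ ^ 2 : ℤ) : ℂ) := by
    push_cast
    rw [← Finset.sum_add_distrib]
    refine Finset.sum_congr rfl fun ψ _ => ?_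
    rw [D.hw, map_add, map_mul, Complex.conj_I, map_intCast, map_intCast]
    linear_combination (-(w2 ψ : ℂ) ^ 2) * Complex.I_sq
  have f2 : ∑ ψ : IrrCharacter G, (ψ : G → ℂ) (x * j) * conj ((ψ : G → ℂ) (x * j)⁻¹) =
      ((∑ ψ, w1 ψ ^ 2 - ∑ ψ, w2 ψ ^ 2 : ℤ) : ℂ) + ((2 * ∑ ψ, w1 ψ * w2 ψ : ℤ) : ℂ) * Complex.I := by
    push_cast
    rw [← Finset.sum_sub_distrib, Finset.mul_sum, Finset.sum_mul, ← Finset.sum_add_distrib]
    refine Finset.sum_congr rfl fun ψ _ => ?_
    rw [isCharacter_apply_inv (isIrr_isCharacter ψ.2), Complex.conj_conj, D.hw]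
    linear_combination ((w2 ψ : ℂ) ^ 2) * Complex.I_sq
  rw [f1] at e1
  rw [f2] at e2
  have e3 : ∑ ψ, w1 ψ ^ 2 + ∑ ψ, w2 ψ ^ 2 = 20 := by exact_mod_cast e1
  have e4 := (eq_of_cplx (a := ∑ ψ, w1 ψ ^ 2 - ∑ ψ, w2 ψ ^ 2) (b := 2 * ∑ ψ, w1 ψ * w2 ψ) (c := 0) (d := 0)
    (by rw [e2]; simp)).1
  omega

open Classical in
/-- a class with one element -/
theorem sum_single [Fintype (IrrCharacter G)] {s t : ℤ} (h1 : cn w1 w2 s t = 1) {ψ₀ : IrrCharacter G}
    (h0 : w1 ψ₀ = s ∧ w2 ψ₀ = t) (f : IrrCharacter G → ℤ) :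
    ∑ ψ, f ψ * (if w1 ψ = s ∧ w2 ψ = t then 1 else 0) = f ψ₀ := by
  rw [Comb.cn_eq_card] at h1
  have h2 : Nat.card {ψ : IrrCharacter G // w1 ψ = s ∧ w2 ψ = t} = 1 := by exact_mod_cast h1
  have h3 := (Nat.card_eq_one_iff_unique.1 h2).1
  rw [Finset.sum_eq_single ψ₀]
  · rw [if_pos h0, mul_one]
  · intro ψ _ hne
    rw [if_neg, mul_zero]
    intro h4
    exact hne (congrArg Subtype.val (h3.elim ⟨ψ, h4⟩ ⟨ψ₀, h0⟩))
  · intro h
    exact absurd (Finset.mem_univ _) h

theorem w_one (D : Dt N x j w1 w2 A tw cj hi) : w1 ⟨1, isIrr_one⟩ = 1 ∧ w2 ⟨1, isIrr_one⟩ = 0 := by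
  have h1 := D.hw ⟨1, isIrr_one⟩
  apply eq_of_cplx
  rw [← h1]
  simp

/-- the case `c = 2` is impossible -/
theorem ne_two [Fintype (IrrCharacter G)] (D : Dt N x j w1 w2 A tw cj hi) (hxj : x * j ∉ N)
    (hv : ∀ ψ, |w1 ψ| ≤ 1 ∧ |w2 ψ| ≤ 1) (h11 : cn w1 w2 1 1 = 2) (h10 : cn w1 w2 1 0 = 1)
    (hm10 : cn w1 w2 (-1) 0 = 1) (h01 : cn w1 w2 0 1 = 1) (h0m1 : cn w1 w2 0 (-1) = 1) : False := by
  classical
  have := Fintype.ofFinite G
  -- `β` and `α`
  obtain ⟨β, hβ⟩ : ∃ β : IrrCharacter G, w1 β = 1 ∧ w2 β = 1 := by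
    rw [Comb.cn_eq_card] at h11
    have h2 : Nat.card {ψ : IrrCharacter G // w1 ψ = 1 ∧ w2 ψ = 1} ≠ 0 := by
      intro h0
      rw [h0] at h11
      norm_num at h11
    have h3 : Nonempty {ψ : IrrCharacter G // w1 ψ = 1 ∧ w2 ψ = 1} := (Nat.card_ne_zero.1 h2).1
    exact ⟨h3.some.1, h3.some.2⟩
  obtain ⟨α, hα⟩ : ∃ α : IrrCharacter G, w1 α = 0 ∧ w2 α = 1 := by
    rw [Comb.cn_eq_card] at h01
    have h2 : Nat.card {ψ : IrrCharacter G // w1 ψ = 0 ∧ w2 ψ = 1} ≠ 0 := by
      intro h0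
      rw [h0] at h01
      norm_num at h01
    have h3 : Nonempty {ψ : IrrCharacter G // w1 ψ = 0 ∧ w2 ψ = 1} := (Nat.card_ne_zero.1 h2).1
    exact ⟨h3.some.1, h3.some.2⟩
  -- `θ`
  set θ : G → ℂ := fun g => (β : G → ℂ) g * conj ((β : G → ℂ) g) with hθ
  have hθc : IsCharacter G θ := isCharacter_mul (isIrr_isCharacter β.2) (isCharacter_conj (isIrr_isCharacter β.2))
  choose m hm using fun ψ : IrrCharacter G => classInner_isNat hθc (isIrr_isCharacter ψ.2)
  have hsum := classFunction_eq_sum (isCharacter_isClassFunction hθc)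
  have hx := congrFun hsum x
  rw [Finset.sum_apply] at hx
  simp only [Pi.smul_apply, smul_eq_mul, hm, D.hA] at hx
  have hx2 : θ x = ((A β * A β : ℤ) : ℂ) := by
    rw [hθ]
    simp only [D.hA, map_intCast]
    push_cast
    ring
  rw [hx2] at hx
  have hx3 : A β * A β = ∑ ψ, (m ψ : ℤ) * A ψ := by exact_mod_cast hx
  -- parity
  have hpar : ∀ ψ, ∃ k : ℤ, A ψ = (if w1 ψ = 1 ∧ w2 ψ = 0 then 1 else 0) + (if w1 ψ = -1 ∧ w2 ψ = 0 then 1 else 0) +
      (if w1 ψ = 0 ∧ w2 ψ = 1 then 1 else 0) + (if w1 ψ = 0 ∧ w2 ψ = -1 then 1 else 0) + 2 * k := by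
    intro ψ
    obtain ⟨k, hk⟩ := D.par ψ
    have h1 := abs_le.1 (hv ψ).1
    have h2 := abs_le.1 (hv ψ).2
    have h3 : (w1 ψ = -1 ∨ w1 ψ = 0 ∨ w1 ψ = 1) ∧ (w2 ψ = -1 ∨ w2 ψ = 0 ∨ w2 ψ = 1) := by omega
    obtain ⟨h3 | h3 | h3, h4 | h4 | h4⟩ := h3 <;> rw [h3, h4] at hk ⊢ <;> norm_num at hk ⊢
    · exact ⟨k - 1, by omega⟩
    · exact ⟨k - 1, by omega⟩
    · exact ⟨k, by omega⟩
    · exact ⟨k - 1, by omega⟩
    · exact ⟨k, by omega⟩
    · exact ⟨k, by omega⟩
    · exact ⟨k, by omega⟩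
    · exact ⟨k, by omega⟩
    · exact ⟨k + 1, by omega⟩
  choose k hk using hpar
  have hx4 : ∑ ψ, (m ψ : ℤ) * A ψ = m ⟨1, isIrr_one⟩ + m (tw ⟨1, isIrr_one⟩) + m α + m (cj α) + 2 * ∑ ψ, (m ψ : ℤ) * k ψ := by
    have t1 := D.w_tw hxj ⟨1, isIrr_one⟩
    rw [D.w_one.1, D.w_one.2, neg_zero] at t1
    have t2 := D.w_cj α
    rw [hα.1, hα.2] at t2
    rw [← sum_single h10 D.w_one (fun ψ => (m ψ : ℤ)), ← sum_single hm10 t1 (fun ψ => (m ψ : ℤ)),
      ← sum_single h01 hα (fun ψ => (m ψ : ℤ)), ← sum_single h0m1 t2 (fun ψ => (m ψ : ℤ)), Finset.mul_sum,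
      ← Finset.sum_add_distrib, ← Finset.sum_add_distrib, ← Finset.sum_add_distrib, ← Finset.sum_add_distrib]
    refine Finset.sum_congr rfl fun ψ _ => ?_
    rw [hk ψ]
    ring
  have m1 : m ⟨1, isIrr_one⟩ = 1 := by
    have h1 := hm ⟨1, isIrr_one⟩
    have h2 : classInner θ (1 : G → ℂ) = 1 := by
      rw [← classInner_irr_self β.2, classInner_def, classInner_def]
      congr 1
      refine Finset.sum_congr rfl fun g _ => ?_
      simp [hθ]
    rw [h2] at h1
    exact_mod_cast h1.symm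
  have m2 : m (tw ⟨1, isIrr_one⟩) = 0 := by
    have h1 := hm (tw ⟨1, isIrr_one⟩)
    have hne : (β : G → ℂ) ≠ (tw β : G → ℂ) := by
      intro h
      have h2 := (D.w_tw hxj β).1
      rw [← Subtype.ext h, hβ.1] at h2
      norm_num at h2
    have h2 : classInner θ (tw ⟨1, isIrr_one⟩ : G → ℂ) = 0 := by
      rw [← classInner_irr_ne β.2 (tw β).2 hne, classInner_def, classInner_def]
      congr 1
      refine Finset.sum_congr rfl fun g _ => ?_
      rw [D.tw_def, D.tw_def]
      simp only [hθ, Pi.mul_apply, Pi.one_apply, map_mul, one_mul]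
      ring
    rw [h2] at h1
    exact_mod_cast h1.symm
  have m3 : m (cj α) = m α := by
    have h1 := hm (cj α)
    have h2 := hm α
    have h3 : classInner θ (cj α : G → ℂ) = conj (classInner θ (α : G → ℂ)) := by
      rw [classInner_def, classInner_def, map_mul, map_inv₀, map_natCast, map_sum]
      congr 1
      refine Finset.sum_congr rfl fun g _ => ?_
      rw [D.cj_def]
      simp only [hθ, map_mul, Complex.conj_conj]
      ring
    rw [h3, h2, Complex.conj_natCast] at h1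
    exact_mod_cast h1.symm
  obtain ⟨l, hl⟩ := D.par β
  rw [hβ.1, hβ.2] at hl
  have hl2 : A β * A β = 2 * (A β * (1 + l)) := by
    have : A β = 2 * (1 + l) := by omega
    calc A β * A β = A β * (2 * (1 + l)) := by rw [← this]
      _ = 2 * (A β * (1 + l)) := by ring
  rw [hl2, hx4, m1, m2, m3] at hx3
  omega

end Dt

/-- **Twenty characters.** -/
theorem card20 (L : Loc N P x j r) (hN : Nat.card N = 17971200)
    (h16 : Nat.card {χ : IrrCharacter N // ¬ 25 ∣ charDegree (χ : N → ℂ)} = 16)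
    (h27 : ∃ ψ : IrrCharacter G, IsIrrCharacter N (fun n : N => (ψ : G → ℂ) n) ∧ (ψ : G → ℂ) 1 = 27) :
    Nat.card {χ : IrrCharacter G // ¬ 25 ∣ charDegree (χ : G → ℂ)} = 20 := by
  classical
  have hnorm : N.Normal := Subgroup.normal_of_index_eq_two L.index
  have := finite_irr (G := G)
  have := Fintype.ofFinite (IrrCharacter G)
  obtain ⟨w1, w2, A, tw, cj, D, hpar⟩ := L.exists_dt
  have hpar := hpar hN h16
  have hxj := L.xj_notMem
  have hcG : 5 ^ 2 ∣ Nat.card G ∧ ¬ 5 ^ 3 ∣ Nat.card G := by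
    rw [← N.card_mul_index, hN, L.index]
    constructor <;> norm_num
  -- the characters with non-zero value at `x j`
  have hne0 : ∀ ψ : IrrCharacter G, (w1 ψ ≠ 0 ∨ w2 ψ ≠ 0) ↔ (ψ : G → ℂ) (x * j) ≠ 0 := by
    intro ψ
    constructor
    · intro h h0
      rw [D.hw] at h0
      have h1 := eq_of_cplx (c := 0) (d := 0) (by rw [h0]; simp)
      rcases h with h | h
      · exact h h1.1
      · exact h h1.2
    · intro h
      by_contra h4
      push Not at h4
      apply h
      rw [D.hw, h4.1, h4.2]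
      simp
  have hiff : ∀ ψ : IrrCharacter G, (w1 ψ ≠ 0 ∨ w2 ψ ≠ 0) ↔
      (¬ 25 ∣ charDegree (ψ : G → ℂ) ∧ ¬ Van N ψ) := by
    intro ψ
    constructor
    · intro h
      rw [hne0] at h
      refine ⟨fun h25 => h (vanish hcG.1 hcG.2 ψ h25 (by rw [L.order]; norm_num)), fun hv => h (hv _ hxj)⟩
    · rintro ⟨h1, h2⟩
      obtain ⟨χ, -, hχ⟩ := restrict_of_not_van L.index h2
      have h3 : IsIrrCharacter N (fun n : N => (ψ : G → ℂ) n) := by
        have : (fun n : N => (ψ : G → ℂ) n) = (χ : N → ℂ) := funext hχ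
        rw [this]
        exact χ.2
      by_contra h4
      push Not at h4
      refine hpar ψ h3 h1 ⟨?_, ?_⟩
      · rw [h4.1]; exact dvd_zero 2
      · rw [h4.2]; exact dvd_zero 2
  have hpar' : ∀ ψ, (w1 ψ ≠ 0 ∨ w2 ψ ≠ 0) → ¬ (2 ∣ w1 ψ ∧ 2 ∣ w2 ψ) := by
    intro ψ h
    obtain ⟨h1, h2⟩ := (hiff ψ).1 h
    obtain ⟨χ, -, hχ⟩ := restrict_of_not_van L.index h2
    have h3 : IsIrrCharacter N (fun n : N => (ψ : G → ℂ) n) := by
      have : (fun n : N => (ψ : G → ℂ) n) = (χ : N → ℂ) := funext hχ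
      rw [this]
      exact χ.2
    exact hpar ψ h3 h1
  obtain ⟨s1, s2⟩ := D.sums L
  obtain ⟨hv, hcard, h10, hm10, h01, h0m1⟩ := Comb.count D.tw_tw D.cj_cj (fun ψ => (D.w_tw hxj ψ).1)
    (fun ψ => (D.w_tw hxj ψ).2) (fun ψ => (D.w_cj ψ).1) (fun ψ => (D.w_cj ψ).2) hpar' s1 s2
  -- `1 ≤ c ≤ 2`
  have hpos : ∀ {s t : ℤ} (ψ : IrrCharacter G), w1 ψ = s → w2 ψ = t → 1 ≤ cn w1 w2 s t := by
    intro s t ψ hs ht
    rw [Comb.cn_eq_card]
    have h1 : 0 < Nat.card {ψ : IrrCharacter G // w1 ψ = s ∧ w2 ψ = t} :=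
      Nat.card_pos_iff.2 ⟨⟨⟨ψ, hs, ht⟩⟩, inferInstance⟩
    exact_mod_cast h1
  have hc2 : cn w1 w2 1 1 ≤ 2 := by
    have := hpos ⟨1, isIrr_one⟩ D.w_one.1 D.w_one.2
    omega
  have hc1 : 1 ≤ cn w1 w2 1 1 := by
    obtain ⟨ψ, hirr, hdeg⟩ := h27
    have hd : charDegree (ψ : G → ℂ) = 27 := charDegree_of_eq (by rw [hdeg]; norm_num)
    have h25 : ¬ 25 ∣ charDegree (ψ : G → ℂ) := by rw [hd]; norm_num
    have hp := hpar ψ hirr h25
    -- `A ψ = 2`
    have hA : A ψ = 2 := by
      obtain ⟨n, hn⟩ := L.mod25 (isIrr_isCharacter hirr)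
      have e1 : (ψ : G → ℂ) ((1 : N) : G) = 27 := hdeg
      have e2 : (ψ : G → ℂ) ((L.xn : N) : G) = A ψ := D.hA ψ
      rw [e1, e2] at hn
      have e3 : 27 + 24 * A ψ = 25 * n := by exact_mod_cast hn
      have e4 : A ψ ^ 2 ≤ 50 := L.abs_le ⟨_, hirr⟩ e2
      have e5 : |A ψ| ≤ 7 := by
        by_contra hlt
        push Not at hlt
        have : 64 ≤ A ψ ^ 2 := by
          rw [← sq_abs]; nlinarith
        omega
      have e6 := abs_le.1 e5
      omega
    obtain ⟨k, hk⟩ := D.par ψ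
    rw [hA] at hk
    have b1 := abs_le.1 (hv ψ).1
    have b2 := abs_le.1 (hv ψ).2
    have e7 : (w1 ψ = 1 ∨ w1 ψ = -1) ∧ (w2 ψ = 1 ∨ w2 ψ = -1) := by
      by_cases h0 : w1 ψ = 0
      · exfalso
        have h0' : w2 ψ = 0 := by omega
        refine hp ⟨?_, ?_⟩
        · rw [h0]; exact dvd_zero 2
        · rw [h0']; exact dvd_zero 2
      · have h0' : w2 ψ ≠ 0 := by omega
        omega
    obtain ⟨h1 | h1, h2 | h2⟩ := e7
    · exact hpos ψ h1 h2
    · have h3 := D.w_cj ψ
      rw [h1, h2, neg_neg] at h3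
      exact hpos (cj ψ) h3.1 h3.2
    · have h3 := D.w_cj (tw ψ)
      have h4 := D.w_tw hxj ψ
      rw [h1, h2, neg_neg] at h4
      rw [h4.1, h4.2, neg_neg] at h3
      exact hpos (cj (tw ψ)) h3.1 h3.2
    · have h4 := D.w_tw hxj ψ
      rw [h1, h2, neg_neg] at h4
      exact hpos (tw ψ) h4.1 h4.2
  have hcne : cn w1 w2 1 1 ≠ 2 := by
    intro h
    exact D.ne_two hxj hv h (by omega) (by omega) (by omega) (by omega)
  have hc : cn w1 w2 1 1 = 1 := by omega
  have h16' : Nat.card {ψ : IrrCharacter G // w1 ψ ≠ 0 ∨ w2 ψ ≠ 0} = 16 := by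
    have : (Nat.card {ψ : IrrCharacter G // w1 ψ ≠ 0 ∨ w2 ψ ≠ 0} : ℤ) = 16 := by omega
    exact_mod_cast this
  have hS : Nat.card {ψ : IrrCharacter G // ¬ 25 ∣ charDegree (ψ : G → ℂ) ∧ ¬ Van N ψ} = 16 := by
    rw [← h16']
    exact Nat.card_congr (Equiv.subtypeEquivRight fun ψ => (hiff ψ).symm)
  have hI := card_not_van (W := G) (N := N) L.index (fun d => ¬ 25 ∣ d)
  rw [hS] at hI
  have h2 := card_two (W := G) (N := N) L.index (fun d => ¬ 25 ∣ d) (fun n => by
    rw [not_iff_not]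
    exact (Nat.Coprime.dvd_mul_left (by norm_num)))
  have := finite_irr (G := N)
  have hsplit : Nat.card {ψ : IrrCharacter N // ¬ 25 ∣ charDegree (ψ : N → ℂ)} =
      Nat.card {ψ : IrrCharacter N // ¬ 25 ∣ charDegree (ψ : N → ℂ) ∧ Inv N ψ} +
        Nat.card {ψ : IrrCharacter N // ¬ 25 ∣ charDegree (ψ : N → ℂ) ∧ ¬ Inv N ψ} := by
    have := Fintype.ofFinite (IrrCharacter N)
    rw [Nat.card_eq_fintype_card, Nat.card_eq_fintype_card, Nat.card_eq_fintype_card, Fintype.card_subtype,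
      Fintype.card_subtype, Fintype.card_subtype, ← Finset.filter_filter, ← Finset.filter_filter]
    exact (Finset.card_filter_add_card_filter_not _).symm
  omega

end Cfsg.Agent.H438.TI
end
end
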